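import Groth.Agent.VBCurve.K708.Dual
import Groth.Agent.Ega3B.SectExact

/-!
# `Hom(E, F)` and `H^0(F ⊗ E')`

`E'` is a dual of `E` (`ExactPairing E E'`).
-/

set_option autoImplicit false
universe u

open CategoryTheory CategoryTheory.Limits AlgebraicGeometry MonoidalCategory Opposite

namespace K708.HomH0

open scoped Groth.Agent.Dcoh.MonCat
open Groth.Agent.Dcoh Groth.Agent K708.Dual

variable {X : Scheme.{u}}

/-- Morphisms `O ⟶ M` are elements of `H^0(X, M)`. -/
noncomputable def unitEquivHH (M : X.Modules) : (Coh.structureModule X ⟶ M) ≃+ Coh.HH X M 0 :=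
  (Restrict.unitEquiv M).trans (Ega3B.SectExact.secEquiv M).symm

/-- Morphisms `E ⟶ F` are elements of `H^0(X, F ⊗ E')`. -/
noncomputable def homEquivHH (E E' F : X.Modules) [ExactPairing E E'] :
    (E ⟶ F) ≃+ Coh.HH X (CohB1.tensorMod F E') 0 :=
  (homEquiv E E' F).trans (unitEquivHH (CohB1.tensorMod F E'))

theorem forall_unit_hom_eq_zero_iff (M : X.Modules) :
    (∀ φ : Coh.structureModule X ⟶ M, φ = 0) ↔ Subsingleton (Coh.HH X M 0) := by
  constructor
  · intro h
    refine ⟨fun a b => (unitEquivHH M).symm.injective ?_⟩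
    rw [h ((unitEquivHH M).symm a), h ((unitEquivHH M).symm b)]
  · intro h φ
    exact (unitEquivHH M).injective (Subsingleton.elim _ _)

theorem forall_hom_eq_zero_iff (E E' F : X.Modules) [ExactPairing E E'] :
    (∀ φ : E ⟶ F, φ = 0) ↔ Subsingleton (Coh.HH X (CohB1.tensorMod F E') 0) := by
  constructor
  · intro h
    refine ⟨fun a b => (homEquivHH E E' F).symm.injective ?_⟩
    rw [h ((homEquivHH E E' F).symm a), h ((homEquivHH E E' F).symm b)]
  · intro h φ
    exact (homEquivHH E E' F).injective (Subsingleton.elim _ _)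

/-- `H^0` is invariant under isomorphism. -/
theorem subsingleton_HH_iso {M N : X.Modules} (e : M ≅ N) (h : Subsingleton (Coh.HH X M 0)) :
    Subsingleton (Coh.HH X N 0) := by
  rw [← forall_unit_hom_eq_zero_iff] at h ⊢
  intro φ
  rw [← cancel_mono e.inv, zero_comp]
  exact h _

end K708.HomH0
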