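import Groth.Agent.Dcoh.ProjFLF

/-!
# Tensor products with finite locally free modules, duals

* `tensorLeft_shortExact`, `tensorRight_shortExact`, `mono_whiskerLeft`, `mono_whiskerRight`: tensoring with a finite
  locally free module is exact;
* `exists_dual`: a dual of a finite locally free module of rank `n` (`ExactPairing` in the monoidal category `X.Modules`)
  of rank `n`;
* `homEquiv : (E ⟶ F) ≃+ (O ⟶ F ⊗ E')`, `forall_hom_eq_zero_iff`: `Hom(E, F) = 0` iff `H^0(F ⊗ E') = 0`.
-/

set_option autoImplicit false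
universe u

open CategoryTheory CategoryTheory.Limits AlgebraicGeometry MonoidalCategory Opposite

namespace K708.Dual

open scoped Groth.Agent.Dcoh.MonCat
open Groth.Agent.Dcoh

variable {X : Scheme.{u}}

section Exact

/-- Tensoring on the left with a finite locally free module is exact. -/
theorem tensorLeft_shortExact {E : X.Modules} (hE : FlatMod.IsFinLocFree E) {S : ShortComplex X.Modules}
    (hS : S.ShortExact) : (S.map (tensorLeft E)).ShortExact := by
  have := ProjFLF.preservesHomology_tensorLeft_of_isFinLocFree E hE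
  have := hS.mono_f
  have := hS.epi_g
  exact hS.map (tensorLeft E)

/-- Tensoring on the right with a finite locally free module is exact. -/
theorem tensorRight_shortExact {E : X.Modules} (hE : FlatMod.IsFinLocFree E) {S : ShortComplex X.Modules}
    (hS : S.ShortExact) : (S.map (tensorRight E)).ShortExact :=
  ShortComplex.shortExact_of_iso (S.mapNatIso (BraidedCategory.tensorLeftIsoTensorRight E))
    (tensorLeft_shortExact hE hS)

theorem mono_whiskerLeft {E : X.Modules} (hE : FlatMod.IsFinLocFree E) {A B : X.Modules} (i : A ⟶ B) [Mono i] :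
    Mono (E ◁ i) := by
  have hS : (ShortComplex.mk i (cokernel.π i) (cokernel.condition i)).ShortExact :=
    { exact := ShortComplex.exact_cokernel i
      mono_f := inferInstance
      epi_g := inferInstance }
  exact (tensorLeft_shortExact hE hS).mono_f

theorem mono_whiskerRight {E : X.Modules} (hE : FlatMod.IsFinLocFree E) {A B : X.Modules} (i : A ⟶ B) [Mono i] :
    Mono (i ▷ E) := by
  have hS : (ShortComplex.mk i (cokernel.π i) (cokernel.condition i)).ShortExact :=
    { exact := ShortComplex.exact_cokernel i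
      mono_f := inferInstance
      epi_g := inferInstance }
  exact (tensorRight_shortExact hE hS).mono_f

end Exact

section Pairing

/-- A finite locally free module of rank `n` has a dual of rank `n`. -/
theorem exists_dual {n : ℕ} {E : X.Modules} (hE : FlatMod.IsFinLocFreeOfRank n E) :
    ∃ E' : X.Modules, FlatMod.IsFinLocFreeOfRank n E' ∧ Nonempty (ExactPairing E E') := by
  have hE0 : FlatMod.IsFinLocFree E := fun x => by
    obtain ⟨U, hx, e⟩ := hE x
    exact ⟨U, n, hx, e⟩
  obtain ⟨E', ⟨i⟩⟩ := DualFLF.exists_exactPairing hE0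
  refine ⟨E', fun x => ?_, ⟨i⟩⟩
  obtain ⟨U, hx, ⟨e⟩⟩ := hE x
  let := MonInst.freePairing (↑U) n
  exact ⟨U, hx, ⟨rightDualIso (DualFLF.restrictPairing U.ι E E') (exactPairingCongrLeft e)⟩⟩

/-- The dual of a finite locally free module of rank `n` has rank `n`. -/
theorem rank_dual {n : ℕ} {E : X.Modules} (hE : FlatMod.IsFinLocFreeOfRank n E) (E' : X.Modules)
    [ExactPairing E E'] : FlatMod.IsFinLocFreeOfRank n E' := by
  intro x
  obtain ⟨U, hx, ⟨e⟩⟩ := hE x
  let := MonInst.freePairing (↑U) n
  exact ⟨U, hx, ⟨rightDualIso (DualFLF.restrictPairing U.ι E E') (exactPairingCongrLeft e)⟩⟩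

/-- The swapped pairing. -/
@[instance_reducible]
noncomputable def swapPairing (E E' : X.Modules) [ExactPairing E E'] : ExactPairing E' E :=
  BraidedCategory.exactPairing_swap E E'

/-- Morphisms `A ⊗ E ⟶ F` are morphisms `A ⟶ F ⊗ E'`. -/
noncomputable def homEquivTensor (E E' A F : X.Modules) [ExactPairing E E'] :
    (A ⊗ E ⟶ F) ≃ (A ⟶ F ⊗ E') :=
  tensorRightHomEquiv A E E' F

theorem homEquivTensor_unit (E E' F : X.Modules) [ExactPairing E E'] (φ : E ⟶ F) :
    tensorRightHomEquiv (𝟙_ X.Modules) E E' F ((λ_ E).hom ≫ φ) = η_ E E' ≫ φ ▷ E' := by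
  simp only [tensorRightHomEquiv, Equiv.coe_fn_mk]
  simp only [MonoidalCategory.comp_whiskerRight, leftUnitor_whiskerRight, Category.assoc, Iso.inv_hom_id_assoc]
  rw [leftUnitor_naturality_assoc, unitors_equal, Iso.inv_hom_id_assoc]

/-- Morphisms `E ⟶ F` are morphisms `O ⟶ F ⊗ E'`. -/
noncomputable def homEquiv (E E' F : X.Modules) [ExactPairing E E'] :
    (E ⟶ F) ≃+ (𝟙_ X.Modules ⟶ F ⊗ E') :=
  { ((λ_ E).symm.homFromEquiv (Z := F)).trans (tensorRightHomEquiv (𝟙_ X.Modules) E E' F) with
    map_add' := fun φ φ' => by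
      change tensorRightHomEquiv (𝟙_ X.Modules) E E' F ((λ_ E).hom ≫ (φ + φ')) =
        tensorRightHomEquiv (𝟙_ X.Modules) E E' F ((λ_ E).hom ≫ φ) +
        tensorRightHomEquiv (𝟙_ X.Modules) E E' F ((λ_ E).hom ≫ φ')
      rw [homEquivTensor_unit, homEquivTensor_unit, homEquivTensor_unit,
        MonoidalPreadditive.add_whiskerRight, Preadditive.comp_add] }

theorem homEquiv_apply (E E' F : X.Modules) [ExactPairing E E'] (φ : E ⟶ F) :
    homEquiv E E' F φ = η_ E E' ≫ φ ▷ E' :=
  homEquivTensor_unit E E' F φ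

end Pairing

end K708.Dual
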