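import Groth.Agent.VarietyA.DegRank
import Groth.Agent.Krr.H495.Rank
import Groth.Agent.Krr.H487.LocBasisPull
import Groth.Agent.PerfA.CohSerre

/-!
# Degree of a tensor product

* `rk_of_rank`: the generic rank (`VarietyA.DegRank.rk`) of a finite locally free module of rank `n` is `n`;
* `euler_tensor`: `χ(E ⊗ F) = rk F · deg E + n · χ(F)`, `deg_tensor`: `deg(E ⊗ F) = m · deg F + n · deg E`,
  on an integral proper scheme of dimension at most one.
-/

set_option autoImplicit false
universe u

open CategoryTheory CategoryTheory.Limits AlgebraicGeometry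

namespace K708.Deg

open Groth.Agent.Krr.H495.Rank Groth.Agent.VarietyA.DegRank
open Groth.Agent.VarietyA

variable {X : Scheme.{u}}

/-- The generic rank of a finite locally free module of rank `n` is `n`. -/
theorem rk_of_rank [IsIntegral X] {n : ℕ} {E : X.Modules} (hE : FlatMod.IsFinLocFreeOfRank n E) :
    DegRank.rk E = n := by
  obtain ⟨U, hU, b, hb⟩ := isFinLocFreeOfRank_iff'.mp hE (genericPoint X)
  obtain ⟨β, -⟩ := Groth.Agent.Krr.H487.LocBasisPull.exists_stalkBasis hb (genericPoint X) hU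
  rw [DegRank.rk, Module.finrank_eq_card_basis β, Fintype.card_fin]

theorem isCoh_of_rank {n : ℕ} {E : X.Modules} (hE : FlatMod.IsFinLocFreeOfRank n E) : Coh.IsCoh E :=
  Groth.Agent.PerfA.CohSerre.isCoh_of_isFinLocFree (isFinLocFree_of_rank hE)

section

variable (k : Type u) [Field k] [X.Over (Spec (CommRingCat.of k))]

theorem deg_iso {M N : X.Modules} (e : M ≅ N) (n : ℕ) : Curv2.deg k X M n = Curv2.deg k X N n := by
  rw [Curv2.deg, Curv2.deg, euler_iso k e]

theorem deg_structureModule : Curv2.deg k X (Coh.structureModule X) 1 = 0 := by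
  rw [Curv2.deg]
  push_cast
  ring

theorem euler_tensor [IsIntegral X] [IsProper (X ↘ (Spec (CommRingCat.of k)))]
    (hdim : topologicalKrullDim X ≤ 1) {n m : ℕ} {E F : X.Modules} (hE : FlatMod.IsFinLocFreeOfRank n E)
    (hF : FlatMod.IsFinLocFreeOfRank m F) :
    Curv2.euler k X (CohB1.tensorMod E F) = m * Curv2.deg k X E n + n * Curv2.euler k X F := by
  rw [euler_tensor_curve k hdim n E hE F (isCoh_of_rank hF), rk_of_rank hF]

/-- `deg(E ⊗ F) = rk E · deg F + rk F · deg E`. -/
theorem deg_tensor [IsIntegral X] [IsProper (X ↘ (Spec (CommRingCat.of k)))]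
    (hdim : topologicalKrullDim X ≤ 1) {n m : ℕ} {E F : X.Modules} (hE : FlatMod.IsFinLocFreeOfRank n E)
    (hF : FlatMod.IsFinLocFreeOfRank m F) :
    Curv2.deg k X (CohB1.tensorMod E F) (n * m) = n * Curv2.deg k X F m + m * Curv2.deg k X E n := by
  rw [Curv2.deg, euler_tensor k hdim hE hF, Curv2.deg, Curv2.deg]
  push_cast
  ring

theorem deg_tensorPow [IsIntegral X] [IsProper (X ↘ (Spec (CommRingCat.of k)))]
    (hdim : topologicalKrullDim X ≤ 1) {L : X.Modules} (hL : FlatMod.IsFinLocFreeOfRank 1 L) (i : ℕ) :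
    FlatMod.IsFinLocFreeOfRank 1 (CohB1.tensorPow L i) ∧
    Curv2.deg k X (CohB1.tensorPow L i) 1 = i * Curv2.deg k X L 1 := by
  induction i with
  | zero =>
    refine ⟨isFinLocFreeOfRank_structureModule, ?_⟩
    rw [Nat.cast_zero, zero_mul]
    exact deg_structureModule k
  | succ i ih =>
    refine ⟨rank_tensor ih.1 hL, ?_⟩
    have h := deg_tensor k hdim ih.1 hL
    rw [ih.2] at h
    refine h.trans ?_
    push_cast
    ring

/-- If `E ⊗ F ≅ O` with `E`, `F` of rank one then `deg E = - deg F`. -/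
theorem deg_eq_neg [IsIntegral X] [IsProper (X ↘ (Spec (CommRingCat.of k)))]
    (hdim : topologicalKrullDim X ≤ 1) {E F : X.Modules} (hE : FlatMod.IsFinLocFreeOfRank 1 E)
    (hF : FlatMod.IsFinLocFreeOfRank 1 F) (e : CohB1.tensorMod E F ≅ Coh.structureModule X) :
    Curv2.deg k X F 1 = - Curv2.deg k X E 1 := by
  have h := deg_tensor k hdim hE hF
  have h1 : Curv2.deg k X (CohB1.tensorMod E F) (1 * 1) = 0 := by
    rw [mul_one, deg_iso k e, deg_structureModule]
  rw [h1] at h
  push_cast at h
  linarith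

end

end K708.Deg
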