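import Groth.Agent.CurvesC.HV0
import Groth.Agent.CurvesB.CurveRR
import Groth.Agent.S0002
import Groth.Agent.S1536
import Groth.Agent.PerfB.ModExact
import Groth.Agent.VBCurve.K708.Deg
import Mathlib.AlgebraicGeometry.Geometrically.Integral

/-!
# Dimensions of the cohomology groups of coherent modules on a proper curve

* `finite_HH`, `finrank_H0_le_of_mono`, `finrank_H0_le_add`, `subsingleton_H1_of_epi`;
* `euler_eq`: `χ = h^0 - h^1`, `riemann_roch`: `h^0(E) - h^1(E) = deg E + n (h^0(O) - h^1(O))`;
* `isIntegral_of_geomInt`, `finrank_h0_structure`.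
-/

set_option autoImplicit false
universe u

open CategoryTheory CategoryTheory.Limits AlgebraicGeometry Module

namespace K708.Coho

open Groth.Agent.CurvesC

variable (k : Type u) [Field k] {X : Scheme.{u}} [X.Over (Spec (CommRingCat.of k))]

theorem map_injective_of_mono {M N : X.Modules} (i : M ⟶ N) [Mono i] : Function.Injective (HV.map k i 0) := by
  rw [← LinearMap.ker_eq_bot, LinearMap.ker_eq_bot']
  intro x hx
  apply (HV.zero M).injective
  apply Groth.Agent.PerfB.ModExact.app_injective_of_mono i ⊤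
  rw [← HV.zero_map k i x, hx, map_zero, map_zero, map_zero]

include k in
/-- `H^0` vanishes on submodules. -/
theorem subsingleton_H0_of_mono {M N : X.Modules} (i : M ⟶ N) [Mono i] (h : Subsingleton (Coh.HH X N 0)) :
    Subsingleton (Coh.HH X M 0) := by
  have h' : Subsingleton (HV X N 0) := h
  exact (map_injective_of_mono k i).subsingleton

include k in
/-- `H^n(S₂) = 0` if `H^n(S₁) = H^n(S₃) = 0`. -/
theorem subsingleton_mid {S : ShortComplex X.Modules} (hS : S.ShortExact) (n : ℕ)
    (h₁ : Subsingleton (Coh.HH X S.X₁ n)) (h₃ : Subsingleton (Coh.HH X S.X₃ n)) :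
    Subsingleton (Coh.HH X S.X₂ n) := by
  have h1 : Subsingleton (HV X S.X₁ n) := h₁
  have h3 : Subsingleton (HV X S.X₃ n) := h₃
  have key : ∀ x : HV X S.X₂ n, x = 0 := fun x => by
    obtain ⟨y, rfl⟩ := HV.exact₂ k hS n x (Subsingleton.elim _ _)
    rw [Subsingleton.elim y 0, map_zero]
  exact ⟨fun (a b : HV X S.X₂ n) => (key a).trans (key b).symm⟩

section

variable [IsProper (X ↘ (Spec (CommRingCat.of k)))]

theorem finite_HH {M : X.Modules} (hM : Coh.IsCoh M) (n : ℕ) : Module.Finite k (Coh.HH X M n) :=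
  Groth.Agent.S0002.result k X M hM n

/-- `h^0` does not decrease along monomorphisms. -/
theorem finrank_H0_le_of_mono {M N : X.Modules} (hN : Coh.IsCoh N) (i : M ⟶ N) [Mono i] :
    finrank k (Coh.HH X M 0) ≤ finrank k (Coh.HH X N 0) := by
  have hf : Module.Finite k (HV X N 0) := finite_HH k hN 0
  exact LinearMap.finrank_le_finrank_of_injective (R := k) (M := HV X M 0) (M' := HV X N 0)
    (map_injective_of_mono k i)

/-- `h^n(S₂) ≤ h^n(S₁) + h^n(S₃)`. -/
theorem finrank_HH_le_add {S : ShortComplex X.Modules} (hS : S.ShortExact) (h₁ : Coh.IsCoh S.X₁)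
    (h₂ : Coh.IsCoh S.X₂) (h₃ : Coh.IsCoh S.X₃) (n : ℕ) :
    finrank k (Coh.HH X S.X₂ n) ≤ finrank k (Coh.HH X S.X₁ n) + finrank k (Coh.HH X S.X₃ n) := by
  have f1 : Module.Finite k (HV X S.X₁ n) := finite_HH k h₁ n
  have f2 : Module.Finite k (HV X S.X₂ n) := finite_HH k h₂ n
  have f3 : Module.Finite k (HV X S.X₃ n) := finite_HH k h₃ n
  have e := (HV.map k S.g n).finrank_range_add_finrank_ker
  have h1 : LinearMap.ker (HV.map k S.g n) ≤ LinearMap.range (HV.map k S.f n) := by
    intro x hx
    obtain ⟨y, rfl⟩ := HV.exact₂ k hS n x hx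
    exact ⟨y, rfl⟩
  have h2 := Submodule.finrank_mono h1
  have h3 := LinearMap.finrank_range_le (HV.map k S.f n)
  have h4 := Submodule.finrank_le (LinearMap.range (HV.map k S.g n))
  change finrank k (HV X S.X₂ n) ≤ finrank k (HV X S.X₁ n) + finrank k (HV X S.X₃ n)
  omega

variable (hdim : topologicalKrullDim X ≤ 1)

include hdim

theorem euler_eq (M : X.Modules) : Curv2.euler k X M = (finrank k (Coh.HH X M 0) : ℤ) - finrank k (Coh.HH X M 1) := by
  have := Groth.Agent.CurvesB.CurveRR.isNoetherian_of_proper k X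
  exact Groth.Agent.CurvesB.CurveRR.euler_eq k X hdim M

/-- Riemann–Roch. -/
theorem riemann_roch (M : X.Modules) (n : ℕ) :
    (finrank k (Coh.HH X M 0) : ℤ) - finrank k (Coh.HH X M 1) =
      Curv2.deg k X M n + n * ((finrank k (Coh.HH X (Coh.structureModule X) 0) : ℤ) - Curv2.genus k X) := by
  rw [← euler_eq k hdim, Curv2.deg, Curv2.genus, ← euler_eq k hdim]
  ring

include k in
/-- On a curve `H^1` is right exact: if `H^1(M) = 0` and `M ⟶ N` is an epimorphism then `H^1(N) = 0`. -/
theorem subsingleton_H1_of_epi {M N : X.Modules} (p : M ⟶ N) [Epi p] (h : Subsingleton (Coh.HH X M 1)) :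
    Subsingleton (Coh.HH X N 1) := by
  have := Groth.Agent.CurvesB.CurveRR.isNoetherian_of_proper k X
  have hS : (ShortComplex.mk (kernel.ι p) p (kernel.condition p)).ShortExact :=
    { exact := ShortComplex.exact_kernel p
      mono_f := inferInstance
      epi_g := inferInstance }
  have h1 : Subsingleton (HV X M 1) := h
  have h2 : Subsingleton (HV X (kernel p) 2) :=
    Groth.Agent.CurvesB.CurveRR.subsingleton_HH_of_two_le hdim (kernel p) 2 le_rfl
  have key : ∀ x : HV X N 1, x = 0 := fun x => by
    obtain ⟨y, rfl⟩ := HV.exact₃ k hS 1 x (Subsingleton.elim (α := HV X (kernel p) 2) _ _)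
    rw [Subsingleton.elim y 0, map_zero]
  exact ⟨fun (a b : HV X N 1) => (key a).trans (key b).symm⟩

end

section Geom

include k in
/-- A geometrically integral scheme over a field is integral. -/
theorem isIntegral_of_geomInt [GeometricallyIntegral (X ↘ (Spec (CommRingCat.of k)))] : IsIntegral X := by
  refine GeometricallyIntegral.geometrically_isIntegral (f := X ↘ Spec (CommRingCat.of k)) (K := k)
    (𝟙 _) (𝟙 X) (X ↘ Spec (CommRingCat.of k)) ?_
  exact IsPullback.of_horiz_isIso ⟨by simp⟩

theorem geometricallyConnected_of_irreducible {Y S : Scheme.{u}} (f : Y ⟶ S) [GeometricallyIrreducible f] :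
    GeometricallyConnected f := by
  constructor
  intro K _ y Z fst snd h
  have : IrreducibleSpace Z :=
    GeometricallyIrreducible.geometrically_irreducibleSpace (f := f) y fst snd h
  infer_instance

/-- `h^0(O_X) = 1` for `X` proper and geometrically integral. -/
theorem finrank_h0_structure [IsProper (X ↘ (Spec (CommRingCat.of k)))]
    [GeometricallyIntegral (X ↘ (Spec (CommRingCat.of k)))] :
    finrank k (Coh.HH X (Coh.structureModule X) 0) = 1 := by
  have := geometricallyConnected_of_irreducible (X ↘ (Spec (CommRingCat.of k)))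
  exact Groth.Agent.S1536.result k X

end Geom

end K708.Coho
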