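import Groth.Agent.VBCurve.K707.Semi
import Groth.Agent.VBCurve.K708.Coho
import Groth.Agent.VBCurve.K708.HomH0
import Groth.Agent.VBCurve.K708.Deg

/-!
# Global sections of semistable bundles of degree zero (helper708)

* `mono_of_rank_one`: nonzero maps from a rank one module to a torsion free module are mono;
* `finrank_h0_le_rk`: if `h⁰(O) = 1` and `G` is semistable of degree `≤ 0`, then `h⁰(G) ≤ rk G`.
-/

set_option autoImplicit false
universe u

open CategoryTheory CategoryTheory.Limits AlgebraicGeometry TopologicalSpace Opposite Module

namespace K708.SSH0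

open Groth.Agent.VarietyA.DegRank K707.Base K707.Deg K707.Slope K707.Semi K708.Coho

section

variable {X : Scheme.{u}}

theorem rank_structureModule : FlatMod.IsFinLocFreeOfRank 1 (Coh.structureModule X) :=
  Groth.Agent.Krr.H495.Rank.isFinLocFreeOfRank_structureModule

theorem vb_structureModule : FlatMod.IsFinLocFree (Coh.structureModule X) :=
  isFinLocFree_of_rank rank_structureModule

theorem rk_structureModule [IsIntegral X] : rk (Coh.structureModule X) = 1 := rk_of_rank rank_structureModule

theorem dg_structureModule {k : Type u} [Field k] [X.Over (Spec (CommRingCat.of k))] [IsIntegral X] :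
    dg k (Coh.structureModule X) = 0 := by
  rw [dg_of_rank k rank_structureModule, K708.Deg.deg_structureModule]

end

section

variable {k : Type u} [Field k] {X : Scheme.{u}} [X.Over (Spec (CommRingCat.of k))]
  [IsIntegral X] [IsProper (X ↘ (Spec (CommRingCat.of k)))]

/-- A non-zero map from a rank one bundle to a bundle is a monomorphism. -/
theorem mono_of_rank_one (C : Crv k X) {L F : X.Modules} (hL : FlatMod.IsFinLocFreeOfRank 1 L)
    (hF : FlatMod.IsFinLocFree F) (f : L ⟶ F) (hf : f ≠ 0) : Mono f := by
  obtain ⟨I, p, i, hp, hi, hpi, hI, hpos, e1, e2, e3, e4⟩ :=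
    exists_factor_pos C f hf (K707.Base.isCoh_of_rank hL) hF
  have h1 : rk (kernel f) = 0 := by
    rw [rk_of_rank hL] at e1
    omega
  have h2 : IsZero (kernel f) :=
    isZero_of_rk_eq_zero C (vb_kernel C f (isFinLocFree_of_rank hL) (coh_of_vb hF)) h1
  exact Preadditive.mono_of_isZero_kernel f h2

/-- Semistable modules of degree `≤ 0` have `h⁰ ≤ rk`. -/
theorem finrank_h0_le_rk (C : Crv k X) (hO : finrank k (Coh.HH X (Coh.structureModule X) 0) ≤ 1) (n : ℕ) :
    ∀ (G : X.Modules), FlatMod.IsFinLocFree G → rk G = n → SS k G → dg k G ≤ 0 →
      finrank k (Coh.HH X G 0) ≤ n := by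
  induction n with
  | zero =>
    intro G hG hn _ _
    have h1 := isZero_of_rk_eq_zero C hG hn
    have h2 : Subsingleton (Coh.HH X G 0) := by
      rw [← K708.HomH0.forall_unit_hom_eq_zero_iff]
      intro φ
      exact h1.eq_of_tgt _ _
    rw [Module.finrank_zero_of_subsingleton]
  | succ n ih =>
    intro G hG hn hss hdeg
    by_cases h : ∀ φ : Coh.structureModule X ⟶ G, φ = 0
    · have h2 := (K708.HomH0.forall_unit_hom_eq_zero_iff G).mp h
      rw [Module.finrank_zero_of_subsingleton]
      omega
    · push Not at h
      obtain ⟨φ, hφ⟩ := h
      have hm := mono_of_rank_one C rank_structureModule hG φ hφ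
      obtain ⟨G', Q, a, j, q, w, ha, haj, hS, hG', hQ, e1, e2, e3, e4⟩ :=
        exists_saturation C φ (coh_of_vb vb_structureModule) (coh_of_vb hG)
      have hjm : Mono j := hS.mono_f
      have hqe : Epi q := hS.epi_g
      have hG'v := vb_of_mono C j hG' hG
      have h3 := hss G' j hjm hG'v
      rw [rk_structureModule] at e1
      rw [dg_structureModule] at e2
      rw [hn, e1] at h3
      push_cast at h3
      have hd' : dg k G' = 0 := by
        have h5 : dg k G' * (n + 1) ≤ 0 := by nlinarith
        have h6 : (0 : ℤ) < n + 1 := by positivity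
        have h7 : dg k G' ≤ 0 := by
          by_contra hc
          push Not at hc
          nlinarith
        omega
      have hdG : 0 ≤ dg k G := by
        rw [hd'] at h3
        linarith
      have hdG0 : dg k G = 0 := by omega
      have hdQ : dg k Q = 0 := by omega
      have hiso : IsIso a := by
        refine isIso_of_mono C a (coh_of_vb vb_structureModule) hG' ?_ ?_
        · rw [rk_structureModule, e1]
        · rw [dg_structureModule, hd']
      have hssQ : SS k Q := by
        refine ss_of_quot C hQ fun R p hp hR => ?_
        have := hss.quot C hG (q ≫ p) (coh_of_vb hR)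
        rw [hdG0, hn] at this
        push_cast at this
        rw [hdQ]
        have h6 : (0 : ℤ) < n + 1 := by positivity
        have h7 : 0 ≤ dg k R := by
          by_contra hc
          push Not at hc
          nlinarith
        have : (0 : ℤ) ≤ dg k R * rk Q := by positivity
        omega
      have h8 := ih Q hQ (by omega) hssQ (by omega)
      have h9 := finrank_HH_le_add k hS hG' (coh_of_vb hG) (coh_of_vb hQ) 0
      have h10 : finrank k (Coh.HH X G' 0) ≤ finrank k (Coh.HH X (Coh.structureModule X) 0) := by
        have : Mono (inv a) := inferInstance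
        exact finrank_H0_le_of_mono k (coh_of_vb vb_structureModule) (inv a)
      simp only at h9
      omega

end

end K708.SSH0
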