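import Groth.Agent.VBCurve.K707.TensL
import Groth.Agent.VBCurve.K708.SSH0
import Groth.Agent.VarietyA.TwistSeq
import Groth.Agent.VarietyA.RegPoint

/-!
# Twists by closed points on a regular curve, line subbundles (helper708)

* `exists_locEq`, `invertible_vanish`: `L(-x)` is invertible for every closed point;
* `exists_inv_pos`: there is an invertible module of positive degree;
* `exists_inv_map`: every bundle of positive rank receives a monomorphism from an invertible module;
* `exists_line_sub`: every bundle of positive rank is an extension of a bundle by an invertible module.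
-/

set_option autoImplicit false
universe u

open CategoryTheory CategoryTheory.Limits AlgebraicGeometry TopologicalSpace Opposite Module

namespace K708.PtTwist

open Groth.Agent Groth.Agent.VarietyA.DegRank K707.Base K707.Deg K707.Slope K707.Semi K707.TensL K708.Coho K708.SSH0
open Groth.Agent.VarietyA.TwistDown Groth.Agent.VarietyA.TwistSeq Groth.Agent.VarietyA.RegPoint

variable {k : Type u} [Field k] {X : Scheme.{u}} [X.Over (Spec (CommRingCat.of k))]
  [IsIntegral X] [IsProper (X ↘ (Spec (CommRingCat.of k)))]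

theorem exists_closedPoint (k : Type u) [Field k] {X : Scheme.{u}} [X.Over (Spec (CommRingCat.of k))]
    [IsProper (X ↘ (Spec (CommRingCat.of k)))] [Nonempty X] : ∃ x : X, IsClosed ({x} : Set X) := by
  have := isNoetherian k (X := X)
  obtain ⟨x, -, hx⟩ := IsClosed.exists_closed_singleton (S := (Set.univ : Set X)) isClosed_univ Set.univ_nonempty
  exact ⟨x, hx⟩

theorem exists_locEq' (C : Crv k X) {x : X} (hx : IsClosed ({x} : Set X)) :
    ∃ (V : X.Opens) (π : Γ(X, V)), LocEq x V π := by
  have := isNoetherian k (X := X)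
  have := C.pid x
  refine exists_locEq C.dim.le x (IsPrincipalIdealRing.principal _) fun h => ?_
  exact ne_genericPoint_of_isClosed C.dim hx (eq_genericPoint x h)

theorem invertible_vanish (C : Crv k X) {L : X.Modules} (hL : PicF.IsInvertible L) {x : X}
    (hx : IsClosed ({x} : Set X)) : PicF.IsInvertible (vanish L x).toModules := by
  obtain ⟨V, π, h⟩ := exists_locEq' C hx
  exact isInvertible_vanish hL hx h

theorem rk_inv {L : X.Modules} (hL : PicF.IsInvertible L) : rk L = 1 := rk_of_rank (rank_one_iff.mpr hL)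

theorem coh_inv {X : Scheme.{u}} {L : X.Modules} (hL : PicF.IsInvertible L) : Coh.IsCoh L := coh_of_vb (vb_of_inv hL)

omit [IsIntegral X] in
theorem not_isZero_quot {L : X.Modules} (hL : PicF.IsInvertible L) (x : X) : ¬ IsZero (quot L x) := by
  intro h
  rw [VarietyB.ExactLoc.isZero_iff_stalk] at h
  have h1 := h x
  have hr := rank_one_iff.mpr hL
  have hfin := Divis.StalkMod.finite_stalk (K707.Base.isCoh_of_rank hr) x
  have h2 : (IsLocalRing.maximalIdeal (X.presheaf.stalk x)) •
      (⊤ : Submodule (X.presheaf.stalk x) (L.presheaf.stalk x)) = ⊤ := by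
    rw [eq_top_iff]
    intro m _
    exact (qmap_eq_zero_iff L x m).mp (Subsingleton.elim _ _)
  have h3 : (⊤ : Submodule (X.presheaf.stalk x) (L.presheaf.stalk x)) = ⊥ :=
    Submodule.eq_bot_of_le_smul_of_le_jacobson_bot _ ⊤ hfin.fg_top h2.ge
      (IsLocalRing.maximalIdeal_le_jacobson ⊥)
  obtain ⟨b⟩ := exists_basis hr x
  have h4 : Subsingleton (L.presheaf.stalk x) := by
    rw [← Submodule.subsingleton_iff (X.presheaf.stalk x)]
    exact subsingleton_of_bot_eq_top h3.symm
  have h5 := b.ne_zero 0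
  exact h5 (Subsingleton.elim _ _)

theorem dg_vanish_lt (C : Crv k X) {L : X.Modules} (hL : PicF.IsInvertible L) {x : X}
    (hx : IsClosed ({x} : Set X)) : dg k (vanish L x).toModules < dg k L := by
  by_contra h
  push Not at h
  have hm : Mono (vanish L x).ι := inferInstance
  have h1 := invertible_vanish C hL hx
  have := isIso_of_mono C (vanish L x).ι (coh_inv h1) (coh_inv hL) (by rw [rk_inv h1, rk_inv hL]) h
  exact not_isZero_quot hL x (isZero_cokernel_of_epi _)

/-- There is an invertible module of positive degree. -/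
theorem exists_inv_pos (C : Crv k X) : ∃ A : X.Modules, PicF.IsInvertible A ∧ 0 < dg k A := by
  obtain ⟨x, hx⟩ := exists_closedPoint k (X := X)
  have hO : PicF.IsInvertible (Coh.structureModule X) := rank_one_iff.mp rank_structureModule
  have h1 := invertible_vanish C hO hx
  have h2 := dg_vanish_lt C hO hx
  obtain ⟨A, hA, ⟨e⟩⟩ := Grpsch.PicGrp.exists_inverse h1
  refine ⟨A, hA, ?_⟩
  have h3 := dg_structureModule (k := k) (X := X)
  have h4 := K708.Deg.deg_eq_neg k C.dim.le (rank_one_iff.mpr h1) (rank_one_iff.mpr hA) e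
  rw [dg_of_rank k (rank_one_iff.mpr h1)] at h2
  rw [dg_of_rank k (rank_one_iff.mpr hA)]
  omega

/-- The degree of the inverse. -/
theorem exists_inv (C : Crv k X) {L : X.Modules} (hL : PicF.IsInvertible L) :
    ∃ M : X.Modules, PicF.IsInvertible M ∧ Nonempty (CohB1.tensorMod L M ≅ Coh.structureModule X) ∧
      Nonempty (CohB1.tensorMod M L ≅ Coh.structureModule X) ∧ dg k M = - dg k L := by
  obtain ⟨A, hA, ⟨e⟩⟩ := Grpsch.PicGrp.exists_inverse hL
  refine ⟨A, hA, ⟨e⟩, ⟨Ega2.Tens.swap A L ≪≫ e⟩, ?_⟩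
  rw [dg_of_rank k (rank_one_iff.mpr hL), dg_of_rank k (rank_one_iff.mpr hA)]
  exact K708.Deg.deg_eq_neg k C.dim.le (rank_one_iff.mpr hL) (rank_one_iff.mpr hA) e

/-- Powers. -/
theorem inv_pow (C : Crv k X) {L : X.Modules} (hL : PicF.IsInvertible L) (n : ℕ) :
    PicF.IsInvertible (CohB1.tensorPow L n) ∧ dg k (CohB1.tensorPow L n) = n * dg k L := by
  obtain ⟨h1, h2⟩ := K708.Deg.deg_tensorPow k C.dim.le (rank_one_iff.mpr hL) n
  exact ⟨rank_one_iff.mp h1, by rw [dg_of_rank k h1, h2, dg_of_rank k (rank_one_iff.mpr hL)]⟩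

/-- Invertible modules of arbitrarily large degree. -/
theorem exists_inv_ge (C : Crv k X) (n : ℤ) : ∃ A : X.Modules, PicF.IsInvertible A ∧ n ≤ dg k A := by
  obtain ⟨A, hA, h⟩ := exists_inv_pos C
  obtain ⟨h1, h2⟩ := inv_pow C hA n.toNat
  refine ⟨_, h1, ?_⟩
  rw [h2]
  have h3 : n ≤ n.toNat := Int.self_le_toNat n
  nlinarith

/-- A bundle with `χ > 0` has a section. -/
theorem exists_section (C : Crv k X) {E : X.Modules} (h : 0 < Curv2.euler k X E) :
    ∃ f : Coh.structureModule X ⟶ E, f ≠ 0 := by
  by_contra hc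
  push Not at hc
  have h1 := (K708.HomH0.forall_unit_hom_eq_zero_iff E).mp hc
  have h2 := K708.Coho.euler_eq k C.dim.le E
  rw [Module.finrank_zero_of_subsingleton] at h2
  omega

/-- Every bundle of positive rank receives a monomorphism from an invertible module. -/
theorem exists_inv_map (C : Crv k X) {E : X.Modules} (hE : FlatMod.IsFinLocFree E) (h0 : 0 < rk E) :
    ∃ (N : X.Modules) (f : N ⟶ E), PicF.IsInvertible N ∧ Mono f := by
  obtain ⟨A, hA, hd⟩ := exists_inv_ge C
    (1 - dg k E - rk E * Curv2.euler k X (Coh.structureModule X))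
  have := isLocNoeth C
  have h0' : (1 : ℤ) ≤ rk E := by exact_mod_cast h0
  by_cases hneg : 0 ≤ dg k A
  · have h1 : 0 < Curv2.euler k X (CohB1.tensorMod E A) := by
      rw [euler_eq_dg k, dg_tensor k C.dim (rank_one_iff.mpr hA) (coh_of_vb hE),
        rk_tensor (rank_one_iff.mpr hA) (coh_of_vb hE)]
      push_cast
      nlinarith
    obtain ⟨f, hf⟩ := exists_section C h1
    obtain ⟨B, hB, ⟨e1⟩, ⟨e2⟩, -⟩ := exists_inv C hA
    have hT := isEquivalence hA
    let g : (T A).obj B ⟶ (T A).obj E := e2.hom ≫ f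
    have hg : g ≠ 0 := by
      intro h
      apply hf
      rw [← cancel_epi e2.hom, comp_zero]
      exact h
    obtain ⟨g', hg'⟩ := (T A).map_surjective g
    refine ⟨B, g', hB, mono_of_rank_one C (rank_one_iff.mpr hB) hE g' ?_⟩
    rintro rfl
    apply hg
    rw [← hg']
    have := (T A).preservesZeroMorphisms_of_full
    simp
  · push Not at hneg
    have h1 : 0 < Curv2.euler k X E := by
      rw [euler_eq_dg k]
      omega
    obtain ⟨f, hf⟩ := exists_section C h1
    exact ⟨_, f, rank_one_iff.mp rank_structureModule, mono_of_rank_one C rank_structureModule hE f hf⟩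

/-- Every bundle of positive rank is an extension of a bundle by an invertible module. -/
theorem exists_line_sub (C : Crv k X) {E : X.Modules} (hE : FlatMod.IsFinLocFree E) (h0 : 0 < rk E) :
    ∃ S : ShortComplex X.Modules, S.ShortExact ∧ S.X₂ = E ∧ PicF.IsInvertible S.X₁ ∧
      FlatMod.IsFinLocFree S.X₃ ∧ rk E = rk S.X₃ + 1 ∧ dg k E = dg k S.X₁ + dg k S.X₃ := by
  obtain ⟨N, f, hN, hf⟩ := exists_inv_map C hE h0
  obtain ⟨G', Q, a, j, q, w, ha, haj, hS, hG', hQ, e1, e2, e3, e4⟩ :=
    exists_saturation C f (coh_inv hN) (coh_of_vb hE)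
  have hm : Mono j := hS.mono_f
  have h1 := vb_of_mono C j hG' hE
  rw [rk_inv hN] at e1
  have h2 := isFinLocFreeOfRank_rk h1
  rw [e1] at h2
  refine ⟨ShortComplex.mk j q w, hS, rfl, rank_one_iff.mp h2, hQ, ?_, e4⟩
  rw [e3, e1, add_comm]

end K708.PtTwist
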