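import Groth.Agent.VBCurve.K708.PtTwist
import Groth.Agent.VBCurve.K708.Dual
import Groth.Agent.Dcoh.MonClosed
import Groth.Agent.Krr.H492.DualK

/-!
# The degree of the dual of a vector bundle on a curve (helper708)

* `dualIso : E' ≅ dl E` for an exact pairing `E, E'` (`dl E = Hom(E, O)`);
* `dl_shortExact`: dualizing is exact on bundles; `mono_dl_of_epi`;
* `rk_dual`, `dg_dual`: `rk E' = rk E`, `deg E' = - deg E`.
-/

set_option autoImplicit false
universe u

open CategoryTheory CategoryTheory.Limits AlgebraicGeometry TopologicalSpace Opposite Module MonoidalCategory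

namespace K708.DualDeg

open Groth.Agent Groth.Agent.VarietyA.DegRank K707.Base K707.Deg K707.Slope K707.Semi K707.TensL K708.Coho K708.SSH0
open K708.PtTwist Groth.Agent.Krr.H492.DualK
open scoped Groth.Agent.Dcoh.MonCat

section

variable {X : Scheme.{u}}

/-- The dual object is the sheaf Hom into the structure sheaf. -/
noncomputable def dualIso (E E' : X.Modules) [ExactPairing E E'] : E' ≅ dl E :=
  (λ_ E').symm ≪≫ ((tensorRightAdjunction E E').rightAdjointUniq
    (Dcoh.MonClosed.tensorRightHomAdj E)).app (𝟙_ X.Modules)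

theorem dl_shortExact {S : ShortComplex X.Modules} (hS : S.ShortExact) (h₁ : FlatMod.IsFinLocFree S.X₁)
    (h₂ : FlatMod.IsFinLocFree S.X₂) (h₃ : FlatMod.IsFinLocFree S.X₃) :
    (Sga2.PnHomExact.homSC S (Coh.structureModule X)).ShortExact :=
  Sga2.PnHomExact.shortExact_homSC hS (Ega2.QCohLocal.isQCoh_of_isFinLocFree h₁)
    (Ega2.QCohLocal.isQCoh_of_isFinLocFree h₂) h₃ (Coh.structureModule X)

end

section

variable {k : Type u} [Field k] {X : Scheme.{u}} [X.Over (Spec (CommRingCat.of k))]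
  [IsIntegral X] [IsProper (X ↘ (Spec (CommRingCat.of k)))]

theorem rk_dg_dl (C : Crv k X) (n : ℕ) : ∀ (E : X.Modules), FlatMod.IsFinLocFree E → rk E = n →
    rk (dl E) = rk E ∧ dg k (dl E) = - dg k E := by
  induction n with
  | zero =>
    intro E hE h0
    have h1 := isZero_of_rk_eq_zero C hE h0
    have h2 : IsZero (dl E) := by
      rw [IsZero.iff_id_eq_zero]
      have h3 : (Dcoh.MonClosed.tensorHomEquiv E (dl E) (Coh.structureModule X)).symm (𝟙 _) =
        (Dcoh.MonClosed.tensorHomEquiv E (dl E) (Coh.structureModule X)).symm 0 :=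
        (((tensorRight (dl E)).map_isZero h1).eq_of_src _ _ )
      exact (Dcoh.MonClosed.tensorHomEquiv E (dl E) (Coh.structureModule X)).symm.injective h3
    rw [rk_of_isZero h2, rk_of_isZero h1, dg_of_isZero h2, dg_of_isZero h1]
    simp
  | succ n ih =>
    intro E hE hn
    obtain ⟨S, hS, rfl, h1, h3, hrk, hdg⟩ := exists_line_sub C hE (by omega)
    have hS' := dl_shortExact hS (vb_of_inv h1) hE h3
    obtain ⟨ih1, ih2⟩ := ih S.X₃ h3 (by omega)
    have hd1 : PicF.IsInvertible (dl S.X₁) := Grpsch.PicGrp.isInvertible_dual h1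
    have e : CohB1.tensorMod S.X₁ (dl S.X₁) ≅ Coh.structureModule X :=
      @asIso _ _ _ _ (Grpsch.PicGrp.ev S.X₁) (Grpsch.PicGrp.isIso_ev h1)
    have e1 := K708.Deg.deg_eq_neg k C.dim.le (rank_one_iff.mpr h1) (rank_one_iff.mpr hd1) e
    rw [← dg_of_rank k (rank_one_iff.mpr h1), ← dg_of_rank k (rank_one_iff.mpr hd1)] at e1
    have c1 : Coh.IsCoh (dl S.X₁) := coh_of_vb (isFinLocFree_dl (vb_of_inv h1))
    have c2 : Coh.IsCoh (dl S.X₂) := coh_of_vb (isFinLocFree_dl hE)
    have c3 : Coh.IsCoh (dl S.X₃) := coh_of_vb (isFinLocFree_dl h3)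
    have e2 := rk_add' k (Sga2.PnHomExact.homSC S (Coh.structureModule X)) hS' c2
    have e3 := dg_add k (Sga2.PnHomExact.homSC S (Coh.structureModule X)) hS' c3 c2 c1
    change rk (dl S.X₂) = rk (dl S.X₃) + rk (dl S.X₁) at e2
    change dg k (dl S.X₂) = dg k (dl S.X₃) + dg k (dl S.X₁) at e3
    rw [rk_inv hd1] at e2
    constructor
    · omega
    · rw [e3, ih2, e1, hdg]
      ring

theorem rk_dl (C : Crv k X) {E : X.Modules} (hE : FlatMod.IsFinLocFree E) : rk (dl E) = rk E :=
  (rk_dg_dl C _ E hE rfl).1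

theorem dg_dl (C : Crv k X) {E : X.Modules} (hE : FlatMod.IsFinLocFree E) : dg k (dl E) = - dg k E :=
  (rk_dg_dl C _ E hE rfl).2

theorem dg_dual (C : Crv k X) {E : X.Modules} (hE : FlatMod.IsFinLocFree E) (E' : X.Modules)
    [ExactPairing E E'] : dg k E' = - dg k E := by
  rw [dg_iso k (dualIso E E'), dg_dl C hE]

theorem rk_dual (C : Crv k X) {E : X.Modules} (hE : FlatMod.IsFinLocFree E) (E' : X.Modules)
    [ExactPairing E E'] : rk E' = rk E := by
  rw [rk_iso (dualIso E E'), rk_dl C hE]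

/-- `χ(Hom(E, F)) = rk E · deg F - rk F · deg E + rk E · rk F · χ(O)`. -/
theorem euler_hom (C : Crv k X) {E F : X.Modules} (hE : FlatMod.IsFinLocFree E) (hF : FlatMod.IsFinLocFree F)
    (E' : X.Modules) [ExactPairing E E'] : Curv2.euler k X (CohB1.tensorMod F E') =
      rk E * dg k F - rk F * dg k E + rk E * rk F * Curv2.euler k X (Coh.structureModule X) := by
  have hE' : FlatMod.IsFinLocFree E' := vb_iso (dualIso E E').symm (isFinLocFree_dl hE)
  have hr := isFinLocFreeOfRank_rk hE'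
  rw [euler_eq_dg k, dg_tensor k C.dim hr (coh_of_vb hF), rk_tensor hr (coh_of_vb hF), dg_dual C hE E',
    rk_dual C hE E']
  push_cast
  ring

end

end K708.DualDeg
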