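import Groth.Agent.VBCurve.K708.HomH0
import Groth.Agent.VBCurve.K708.Coho

/-!
# Naturality of `Hom(E, F) = H^0(F ⊗ E')` (helper708)

* `homHV E E' F : (E ⟶ F) ≃+ HV X (F ⊗ E') 0`;
* `homHV_post`, `homHV_pre`: compatibility with maps in `F` and (through the mate) in `E`;
* `finrank_le_of_factor`, `finrank_le_of_epi`.
-/

set_option autoImplicit false
universe u

open CategoryTheory CategoryTheory.Limits AlgebraicGeometry MonoidalCategory Opposite Module

namespace K708.HomNat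

open scoped Groth.Agent.Dcoh.MonCat
open Groth.Agent.Dcoh Groth.Agent K708.Dual Groth.Agent.CurvesC

/-- The transpose of a morphism between dualizable objects. -/
theorem exists_mate_aux {C : Type*} [Category* C] [MonoidalCategory C] {F Q : C} (p : F ⟶ Q) (F' Q' : C)
    [ExactPairing F F'] [ExactPairing Q Q'] : ∃ p' : Q' ⟶ F', η_ Q Q' ≫ Q ◁ p' = η_ F F' ≫ p ▷ F' := by
  let i1 : HasRightDual F := { rightDual := F', exact := inferInstance }
  let i2 : HasRightDual Q := { rightDual := Q', exact := inferInstance }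
  exact ⟨@rightAdjointMate C _ _ F Q i1 i2 p, @coevaluation_comp_rightAdjointMate C _ _ F Q i1 i2 p⟩

section

variable {X : Scheme.{u}}

/-- Morphisms `O ⟶ M` are elements of `H^0(X, M)`. -/
noncomputable def unitHV (M : X.Modules) : (Coh.structureModule X ⟶ M) ≃+ HV X M 0 :=
  (Restrict.unitEquiv M).trans (HV.zero M).symm

theorem zero_unitHV (M : X.Modules) (f : Coh.structureModule X ⟶ M) :
    HV.zero M (unitHV M f) = Restrict.unitEquiv M f := AddEquiv.apply_symm_apply _ _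

/-- Morphisms `E ⟶ F` are elements of `H^0(X, F ⊗ E')`. -/
noncomputable def homHV (E E' F : X.Modules) [ExactPairing E E'] :
    (E ⟶ F) ≃+ HV X (F ⊗ E') 0 :=
  (homEquiv E E' F).trans (unitHV (F ⊗ E'))

/-- The transpose of a morphism between dualizable modules. -/
theorem exists_mate {F Q : X.Modules} (p : F ⟶ Q) (F' Q' : X.Modules) [ExactPairing F F'] [ExactPairing Q Q'] :
    ∃ p' : Q' ⟶ F', η_ Q Q' ≫ Q ◁ p' = η_ F F' ≫ p ▷ F' := exists_mate_aux p F' Q'

end

section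

variable (k : Type u) [Field k] {X : Scheme.{u}} [X.Over (Spec (CommRingCat.of k))]

theorem unitHV_comp {M N : X.Modules} (f : Coh.structureModule X ⟶ M) (p : M ⟶ N) :
    unitHV N (f ≫ p) = HV.map k p 0 (unitHV M f) := by
  apply (HV.zero N).injective
  rw [HV.zero_map, zero_unitHV, zero_unitHV, Restrict.unitEquiv_comp]

theorem homHV_post {E F G : X.Modules} (E' : X.Modules) [ExactPairing E E'] (φ : E ⟶ F) (g : F ⟶ G) :
    homHV E E' G (φ ≫ g) = HV.map k (g ▷ E') 0 (homHV E E' F φ) := by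
  change unitHV _ (homEquiv E E' G (φ ≫ g)) = HV.map k _ 0 (unitHV _ (homEquiv E E' F φ))
  rw [← unitHV_comp, homEquiv_apply, homEquiv_apply, MonoidalCategory.comp_whiskerRight, Category.assoc]

theorem homHV_pre {F Q : X.Modules} (p : F ⟶ Q) (F' Q' : X.Modules) [ExactPairing F F'] [ExactPairing Q Q']
    (p' : Q' ⟶ F') (hp : η_ Q Q' ≫ Q ◁ p' = η_ F F' ≫ p ▷ F') {L : X.Modules} (ψ : Q ⟶ L) :
    homHV F F' L (p ≫ ψ) = HV.map k (L ◁ p') 0 (homHV Q Q' L ψ) := by
  change unitHV _ (homEquiv F F' L (p ≫ ψ)) = HV.map k _ 0 (unitHV _ (homEquiv Q Q' L ψ))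
  rw [← unitHV_comp, homEquiv_apply, homEquiv_apply, MonoidalCategory.comp_whiskerRight, ← Category.assoc, ← hp,
    Category.assoc, Category.assoc, whisker_exchange]

variable [IsProper (X ↘ (Spec (CommRingCat.of k)))]

/-- If every `F ⟶ L` factors through `p : F ⟶ Q` then `hom(F, L) ≤ hom(Q, L)`. -/
theorem finrank_le_of_factor {F Q : X.Modules} (p : F ⟶ Q) (F' Q' L : X.Modules) [ExactPairing F F']
    [ExactPairing Q Q'] (hfin : Coh.IsCoh (CohB1.tensorMod L Q')) (h : ∀ φ : F ⟶ L, ∃ ψ : Q ⟶ L, p ≫ ψ = φ) :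
    finrank k (Coh.HH X (CohB1.tensorMod L F') 0) ≤ finrank k (Coh.HH X (CohB1.tensorMod L Q') 0) := by
  obtain ⟨p', hp⟩ := exists_mate p F' Q'
  have : Module.Finite k (HV X (L ⊗ Q') 0) := K708.Coho.finite_HH k hfin 0
  refine LinearMap.finrank_le_finrank_of_surjective (R := k) (M := HV X (L ⊗ Q') 0) (M' := HV X (L ⊗ F') 0)
    (f := HV.map k (L ◁ p') 0) fun y => ?_
  obtain ⟨φ, rfl⟩ := (homHV F F' L).surjective y
  obtain ⟨ψ, rfl⟩ := h φ
  exact ⟨homHV Q Q' L ψ, (homHV_pre k p F' Q' p' hp ψ).symm⟩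

/-- If `p : F ⟶ Q` is epi then `hom(Q, L) ≤ hom(F, L)`. -/
theorem finrank_le_of_epi {F Q : X.Modules} (p : F ⟶ Q) [Epi p] (F' Q' L : X.Modules) [ExactPairing F F']
    [ExactPairing Q Q'] (hfin : Coh.IsCoh (CohB1.tensorMod L F')) :
    finrank k (Coh.HH X (CohB1.tensorMod L Q') 0) ≤ finrank k (Coh.HH X (CohB1.tensorMod L F') 0) := by
  obtain ⟨p', hp⟩ := exists_mate p F' Q'
  have : Module.Finite k (HV X (L ⊗ F') 0) := K708.Coho.finite_HH k hfin 0
  refine LinearMap.finrank_le_finrank_of_injective (R := k) (M := HV X (L ⊗ Q') 0) (M' := HV X (L ⊗ F') 0)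
    (f := HV.map k (L ◁ p') 0) ?_
  intro a b hab
  obtain ⟨φ, rfl⟩ := (homHV Q Q' L).surjective a
  obtain ⟨ψ, rfl⟩ := (homHV Q Q' L).surjective b
  rw [← homHV_pre k p F' Q' p' hp, ← homHV_pre k p F' Q' p' hp] at hab
  have h1 := (homHV F F' L).injective hab
  rw [(cancel_epi p).mp h1]

end

end K708.HomNat
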