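import Groth.Agent.VBCurve.K708.Coprod
import Groth.Agent.VBCurve.K708.HomNat
import Groth.Agent.VBCurve.K708.DualDeg

/-!
# Embedding a bundle into a sum of copies of an invertible module (helper708)

`exists_mono_of_ext`: if `L₁ ⊂ L` are invertible, `deg L₁ < deg L` and `Ext¹(F, L₁) = H¹(L₁ ⊗ F') = 0`, then `F` embeds
in a finite direct sum of copies of `L`.
-/

set_option autoImplicit false
universe u

open CategoryTheory CategoryTheory.Limits AlgebraicGeometry TopologicalSpace Opposite Module MonoidalCategory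

namespace K708.Embed

open Groth.Agent Groth.Agent.VarietyA.DegRank K707.Base K707.Deg K707.Slope K707.Semi K707.TensL K708.Coho K708.SSH0
open K708.PtTwist K708.DualDeg K708.Coprod
open scoped Groth.Agent.Dcoh.MonCat

variable {k : Type u} [Field k] {X : Scheme.{u}} [X.Over (Spec (CommRingCat.of k))]
  [IsIntegral X] [IsProper (X ↘ (Spec (CommRingCat.of k)))]

/-- `h⁰(L ⊗ I') ≤ h⁰(L₁ ⊗ I') + rk I · (deg L - deg L₁)`. -/
theorem h0_tensor_le (C : Crv k X) {L L₁ G : X.Modules} (hL : PicF.IsInvertible L) (hL₁ : PicF.IsInvertible L₁)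
    (i : L₁ ⟶ L) [Mono i] (hG : FlatMod.IsFinLocFree G) :
    (finrank k (Coh.HH X (CohB1.tensorMod L G) 0) : ℤ) ≤
      finrank k (Coh.HH X (CohB1.tensorMod L₁ G) 0) + rk G * (dg k L - dg k L₁) := by
  have := isLocNoeth C
  have hm : Mono (i ▷ G) := K708.Dual.mono_whiskerRight hG i
  have hr := isFinLocFreeOfRank_rk hG
  have c1 : Coh.IsCoh (CohB1.tensorMod L₁ G) := coh_of_vb (vb_tensor (vb_of_inv hL₁) hG)
  have c2 : Coh.IsCoh (CohB1.tensorMod L G) := coh_of_vb (vb_tensor (vb_of_inv hL) hG)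
  have hS := K707.Semi.cokernel_shortExact (i ▷ G)
  have c3 : Coh.IsCoh (cokernel (i ▷ G)) := coh_cokernel (i ▷ G) c1 c2
  have h1 : finrank k (Coh.HH X (CohB1.tensorMod L G) 0) ≤
    finrank k (Coh.HH X (CohB1.tensorMod L₁ G) 0) + finrank k (Coh.HH X (cokernel (i ▷ G)) 0) :=
    finrank_HH_le_add k hS c1 c2 c3 0
  obtain ⟨n1, n2⟩ := mono_numbers C (i ▷ G) c1 c2
  change rk (CohB1.tensorMod L G) = rk (CohB1.tensorMod L₁ G) + _ at n1
  change dg k (CohB1.tensorMod L G) = dg k (CohB1.tensorMod L₁ G) + _ at n2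
  rw [rk_tensor hr (coh_inv hL), rk_tensor hr (coh_inv hL₁), rk_inv hL, rk_inv hL₁] at n1
  rw [dg_tensor k C.dim hr (coh_inv hL), dg_tensor k C.dim hr (coh_inv hL₁), rk_inv hL, rk_inv hL₁] at n2
  have h0 : rk (cokernel (i ▷ G)) = 0 := by omega
  have h2 := subsingleton_of_rk_eq_zero c3 h0
  rw [dg_eq_euler_of_torsion k h2, euler_of_torsion k C.dim c3 h2] at n2
  have h1' : (finrank k (Coh.HH X (CohB1.tensorMod L G) 0) : ℤ) ≤
    finrank k (Coh.HH X (CohB1.tensorMod L₁ G) 0) + finrank k (Coh.HH X (cokernel (i ▷ G)) 0) := by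
    exact_mod_cast h1
  have h3 : (finrank k (Coh.HH X (cokernel (i ▷ G)) 0) : ℤ) = rk G * (dg k L - dg k L₁) := by
    linarith
  rw [← h3]
  exact h1'

theorem exists_mono_of_ext (C : Crv k X) {F L L₁ : X.Modules} (hF : FlatMod.IsFinLocFree F)
    (hL : PicF.IsInvertible L) (hL₁ : PicF.IsInvertible L₁) (i : L₁ ⟶ L) [Mono i] (hlt : dg k L₁ < dg k L)
    (F' : X.Modules) [ExactPairing F F'] (h1 : Subsingleton (Coh.HH X (CohB1.tensorMod L₁ F') 1)) :
    ∃ M : ℕ, 0 < M ∧ ∃ j : F ⟶ ∐ fun _ : Fin M => L, Mono j := by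
  have := isLocNoeth C
  obtain ⟨n, c, hn, hc⟩ := exists_lift_min C hF (vb_of_inv hL)
  let j : F ⟶ ∐ fun _ : Fin n => L := lift (fun _ : Fin n => L) c
  have hLn : FlatMod.IsFinLocFree (∐ fun _ : Fin n => L) := isFinLocFree_coproduct _ fun _ => vb_of_inv hL
  obtain ⟨I, p, i', hp, hi', hpi, hI, e1, e2, e3, e4⟩ := exists_factor C j (coh_of_vb hF) (coh_of_vb hLn)
  have hIv := vb_of_mono C i' hI hLn
  obtain ⟨I', ⟨q⟩⟩ := Dcoh.DualFLF.exists_exactPairing hIv
  have hfac : ∀ φ : F ⟶ L, ∃ ψ : I ⟶ L, p ≫ ψ = φ := by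
    intro φ
    have h2 : kernel.ι p ≫ j = 0 := by rw [← hpi, ← Category.assoc, kernel.condition, zero_comp]
    have h3 : kernel.ι p ≫ φ = 0 := by
      rw [← kernel.lift_ι j (kernel.ι p) h2, Category.assoc, hc φ, comp_zero]
    obtain ⟨ψ, hψ⟩ := CokernelCofork.IsColimit.desc' (kernel_shortExact p).gIsCokernel φ h3
    exact ⟨ψ, hψ⟩
  have hF'v := Dcoh.DualFLF.isFinLocFree_dual hF F'
  have hI'v := Dcoh.DualFLF.isFinLocFree_dual hIv I'
  have a1 := K708.HomNat.finrank_le_of_factor k p F' I' L (coh_of_vb (vb_tensor (vb_of_inv hL) hI'v)) hfac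
  have a2 := K708.HomNat.finrank_le_of_epi k p F' I' L₁ (coh_of_vb (vb_tensor (vb_of_inv hL₁) hF'v))
  have a3 := h0_tensor_le C hL hL₁ i hI'v
  rw [rk_dual C hIv I'] at a3
  have a4 := euler_hom C hF (vb_of_inv hL) F'
  have a5 := euler_hom C hF (vb_of_inv hL₁) F'
  rw [K708.Coho.euler_eq k C.dim.le, rk_inv hL] at a4
  rw [K708.Coho.euler_eq k C.dim.le, rk_inv hL₁, Module.finrank_zero_of_subsingleton (M := Coh.HH X (CohB1.tensorMod L₁ F') 1)] at a5
  have a1' : (finrank k (Coh.HH X (CohB1.tensorMod L F') 0) : ℤ) ≤ finrank k (Coh.HH X (CohB1.tensorMod L I') 0) := by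
    exact_mod_cast a1
  have a2' : (finrank k (Coh.HH X (CohB1.tensorMod L₁ I') 0) : ℤ) ≤ finrank k (Coh.HH X (CohB1.tensorMod L₁ F') 0) := by
    exact_mod_cast a2
  have a6 : (0 : ℤ) ≤ finrank k (Coh.HH X (CohB1.tensorMod L F') 1) := by positivity
  have h4 : (rk F : ℤ) * (dg k L - dg k L₁) ≤ rk I * (dg k L - dg k L₁) := by
    push_cast at a5 a4
    linarith
  have h5 : (rk F : ℤ) ≤ rk I := le_of_mul_le_mul_right h4 (by omega)
  have h6 : rk (kernel j) = 0 := by omega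
  have h7 := isZero_of_rk_eq_zero C (vb_kernel C j hF (coh_of_vb hLn)) h6
  exact ⟨n, hn, j, Preadditive.mono_of_isZero_kernel j h7⟩

end K708.Embed
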