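import Groth.Agent.VBCurve.K708.RatPt

/-!
# Sections of invertible modules (helper708)

`finrank_h0_le`: over an algebraically closed field `h⁰(L) ≤ max(0, deg L + 1)`.
-/

set_option autoImplicit false
universe u

open CategoryTheory CategoryTheory.Limits AlgebraicGeometry TopologicalSpace Opposite Module

namespace K708.InvH0

open Groth.Agent Groth.Agent.VarietyA.DegRank K707.Base K707.Deg K707.Slope K707.Semi K707.TensL K708.Coho K708.SSH0
open Groth.Agent.VarietyA.TwistDown Groth.Agent.VarietyA.TwistSeq Groth.Agent.VarietyA.RegPoint K708.PtTwist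

variable {k : Type u} [Field k] {X : Scheme.{u}} [X.Over (Spec (CommRingCat.of k))]
  [IsIntegral X] [IsProper (X ↘ (Spec (CommRingCat.of k)))]

/-- No sections in negative degree. -/
theorem subsingleton_h0_of_neg (C : Crv k X) {L : X.Modules} (hL : PicF.IsInvertible L) (h : dg k L < 0) :
    Subsingleton (Coh.HH X L 0) := by
  rw [← K708.HomH0.forall_unit_hom_eq_zero_iff]
  intro φ
  by_contra hφ
  have hm := mono_of_rank_one C rank_structureModule (vb_of_inv hL) φ hφ
  have h1 := dg_le_of_mono C φ (coh_of_vb vb_structureModule) (coh_inv hL)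
    (by rw [rk_inv hL, K708.SSH0.rk_structureModule])
  rw [dg_structureModule] at h1
  omega

theorem finrank_h0_le [IsAlgClosed k] (C : Crv k X) (n : ℕ) : ∀ {L : X.Modules}, PicF.IsInvertible L →
    dg k L + 1 ≤ n → finrank k (Coh.HH X L 0) ≤ n := by
  induction n with
  | zero =>
    intro L hL h
    have := subsingleton_h0_of_neg C hL (by push_cast at h; omega)
    rw [Module.finrank_zero_of_subsingleton]
  | succ n ih =>
    intro L hL h
    obtain ⟨x, hx⟩ := exists_closedPoint k (X := X)
    have hs := resMap_surjective k X hx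
    have h1 := invertible_vanish C hL hx
    have h2 := RatPt.dg_vanish C hL hx hs
    have h3 := ih h1 (by push_cast at h; omega)
    have h4 := coh_cokernel (vanish L x).ι (coh_inv h1) (coh_inv hL)
    have h5 : finrank k (Coh.HH X L 0) ≤ finrank k (Coh.HH X (vanish L x).toModules 0) +
        finrank k (Coh.HH X (cokernel (vanish L x).ι) 0) :=
      finrank_HH_le_add k (cokernel_shortExact (vanish L x).ι) (coh_inv h1) (coh_inv hL) h4 0
    have h6 : finrank k (Coh.HH X (cokernel (vanish L x).ι) 0) = 1 := RatPt.finrank_H_quot k hL hx hs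
    omega

end K708.InvH0
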