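import Groth.Agent.VBCurve.K708.GalCov
import Groth.Agent.S2544
import Groth.Agent.CurvesA.CurveDvr

/-!
# Pullback of semistable bundles under separable covers of curves (helper708)
-/

set_option autoImplicit false
universe u

open CategoryTheory CategoryTheory.Limits AlgebraicGeometry TopologicalSpace Opposite Module

namespace K708.Pull

open Groth.Agent Groth.Agent.VarietyA.DegRank K707.Base K707.Deg K707.Slope K707.Semi K705.Cov K708.GenMap
open K705.GenGal K708.PullGal K708.GalCov

variable {k : Type u} [Field k] {X Y : Scheme.{u}} [X.Over (Spec (CommRingCat.of k))]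
  [Y.Over (Spec (CommRingCat.of k))] [IsIntegral X] [IsProper (X ↘ (Spec (CommRingCat.of k)))]
  [IsIntegral Y] [IsProper (Y ↘ (Spec (CommRingCat.of k)))] {f : Y ⟶ X} {n : ℕ}

/-- Pullback of semistable bundles under a separable cover of curves over a perfect field. -/
theorem ss_pull_sep [PerfectField k] (h : IsCov k f n) (hf : f (genericPoint Y) = genericPoint X)
    (hsep : @Algebra.IsSeparable (X.presheaf.stalk (genericPoint X)) (Y.presheaf.stalk (genericPoint Y)) _ _
      (gmap f hf).toAlgebra) {E : X.Modules} (hE : FlatMod.IsFinLocFree E) (hss : SS k E) :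
    SS k ((Scheme.Modules.pullback f).obj E) := by
  obtain ⟨Z, _, _, _, _, g, m, N, hg, hgf, ι, _, _, σ, i₀, h1, h2, h3, h4, h5⟩ := exists_galois_cover h hf hsep
  have h6 := ss_pull_gal hgf h1 h2 h3 h4 h5 hE hss
  exact ss_of_pull hg (vb_pull (f := f) hE).1 (ss_iso ((Scheme.Modules.pullbackComp g f).app E).symm h6)

/-- In characteristic zero every cover is separable. -/
theorem isSeparable_of_charZero [CharZero k] (h : IsCov k f n) (hf : f (genericPoint Y) = genericPoint X) :
    @Algebra.IsSeparable (X.presheaf.stalk (genericPoint X)) (Y.presheaf.stalk (genericPoint Y)) _ _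
      (gmap f hf).toAlgebra := by
  let _ : Field (X.presheaf.stalk (genericPoint X)) := inferInstanceAs (Field X.functionField)
  let _ : Field (Y.presheaf.stalk (genericPoint Y)) := inferInstanceAs (Field Y.functionField)
  let _ := (gmap f hf).toAlgebra
  have hfd : FiniteDimensional (X.presheaf.stalk (genericPoint X)) (Y.presheaf.stalk (genericPoint Y)) :=
    Module.finite_of_finrank_pos (by rw [finrank_gmap h hf]; exact pos_of h)
  have : CharZero (X.presheaf.stalk (genericPoint X)) :=
    charZero_of_injective_ringHom (Curv2.stalkMap k X (genericPoint X)).injective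
  exact Algebra.IsAlgebraic.isSeparable_of_perfectField

/-- A finite `k`-morphism of proper curves is dominant. -/
theorem isDominant_of_finite (cX : Crv k X) (cY : Crv k Y) (f : Y ⟶ X) [IsFinite f] : IsDominant f := by
  refine K456.FlatCurve.isDominant_of_nontrivial f cX.dim.le ?_
  obtain ⟨y, hy⟩ := CurvesA.CurveDvr.exists_ne_genericPoint cY.dim
  refine ⟨f (genericPoint Y), ⟨_, rfl⟩, f y, ⟨_, rfl⟩, fun h => hy ?_⟩
  exact S2544.eq_of_specializes_of_isIntegralHom f (genericPoint_specializes y) h.symm

/-- **Pullback of semistable bundles under finite morphisms of curves in characteristic zero.** -/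
theorem ss_pull [CharZero k] (cX : Crv k X) (cY : Crv k Y) (f : Y ⟶ X) [IsFinite f]
    (ov : f ≫ (X ↘ (Spec (CommRingCat.of k))) = Y ↘ (Spec (CommRingCat.of k))) {E : X.Modules}
    (hE : FlatMod.IsFinLocFree E) (hss : SS k E) : SS k ((Scheme.Modules.pullback f).obj E) := by
  have := isDominant_of_finite cX cY f
  obtain ⟨n, h⟩ := exists_isCov f ov cY cX
  exact ss_pull_sep h (map_genericPoint f) (isSeparable_of_charZero h (map_genericPoint f)) hE hss

end K708.Pull
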