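import Groth.Agent.VBCurve.K708.Coho
import Groth.Agent.Ega1.GenPts
import Groth.Agent.CalgA.RegBasic
import Groth.Agent.S1535
import Mathlib.AlgebraicGeometry.Geometrically.Connected
import Mathlib.AlgebraicGeometry.Geometrically.Integral

/-!
# Smooth geometrically connected schemes are geometrically integral (helper708)
-/

set_option autoImplicit false
universe u

open CategoryTheory CategoryTheory.Limits AlgebraicGeometry Module

namespace K708.Geom

variable {k : Type u} [Field k]

theorem isIntegral_of_connected {X : Scheme.{u}} (f : X ⟶ Spec (CommRingCat.of k)) [Smooth f]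
    [ConnectedSpace X] : IsIntegral X := by
  have : IsLocallyNoetherian X := LocallyOfFiniteType.isLocallyNoetherian f
  refine (Groth.Agent.Ega1.GenPts.isIntegral_iff X).2 ⟨inferInstance, fun x => ?_⟩
  let o : X.Over (Spec (CommRingCat.of k)) := ⟨f⟩
  have h : Smooth (X ↘ (Spec (CommRingCat.of k))) := inferInstanceAs (Smooth f)
  have : IsRegularLocalRing (X.presheaf.stalk x) := Groth.Agent.S1535.result k X x
  exact Groth.Agent.CalgA.RegBasic.isDomain _

theorem geometricallyIntegral {X : Scheme.{u}} (f : X ⟶ Spec (CommRingCat.of k)) [Smooth f]
    [GeometricallyConnected f] : GeometricallyIntegral f := by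
  constructor
  intro K _ y W fst snd hp
  have h1 : Smooth snd := MorphismProperty.of_isPullback (P := @Smooth) hp inferInstance
  have h2 : ConnectedSpace W := GeometricallyConnected.geometrically_connectedSpace _ _ _ hp
  exact isIntegral_of_connected snd

theorem euler_structure (k : Type u) [Field k] {X : Scheme.{u}} [X.Over (Spec (CommRingCat.of k))]
    [IsProper (X ↘ (Spec (CommRingCat.of k)))] [GeometricallyIntegral (X ↘ (Spec (CommRingCat.of k)))]
    (hdim : topologicalKrullDim X ≤ 1) :
    Curv2.euler k X (Coh.structureModule X) = 1 - Curv2.genus k X := by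
  rw [K708.Coho.euler_eq k hdim, K708.Coho.finrank_h0_structure k]
  rfl

end K708.Geom
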