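import Groth.Agent.VBCurve.K708.PtTwist
import Groth.Agent.Dcoh.FinLocFree

/-!
# Finite direct sums of a module (helper708)

* `isFinLocFree_coproduct`, `lift c : F ⟶ ∐ L` for a family `c i : F ⟶ L i`;
* `exists_lift_min`: there is a finite family of maps `F ⟶ L` through whose image every map `F ⟶ L` factors.
-/

set_option autoImplicit false
universe u w

open CategoryTheory CategoryTheory.Limits AlgebraicGeometry TopologicalSpace Opposite Module

namespace K708.Coprod

open Groth.Agent Groth.Agent.VarietyA.DegRank K707.Base K707.Deg K707.Slope K707.Semi K708.PtTwist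

section

variable {X : Scheme.{u}}

/-- Finite locally free modules as an object property. -/
abbrev flf (X : Scheme.{u}) : ObjectProperty X.Modules := fun M => FlatMod.IsFinLocFree M

instance : (flf X).IsClosedUnderIsomorphisms where
  of_iso e h := Dcoh.FinLocFree.isFinLocFree_of_iso e h

instance : (flf X).ContainsZero where
  exists_zero := ⟨_, isZero_zero _, Dcoh.FinLocFree.isFinLocFree_of_isZero (isZero_zero _)⟩

instance : (flf X).IsClosedUnderBinaryCoproducts where
  colimitsOfShape_le := by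
    rintro M ⟨p⟩
    have h1 : flf X (p.diag.obj ⟨WalkingPair.left⟩) := p.prop_diag_obj _
    have h2 : flf X (p.diag.obj ⟨WalkingPair.right⟩) := p.prop_diag_obj _
    have e : M ≅ (p.diag.obj ⟨WalkingPair.left⟩) ⊞ (p.diag.obj ⟨WalkingPair.right⟩) :=
      p.isColimit.coconePointsIsoOfNatIso (BinaryBiproduct.isColimit _ _) (diagramIsoPair p.diag)
    exact (flf X).prop_of_iso e.symm (Dcoh.FinLocFree.isFinLocFree_biprod h1 h2)

instance : (flf X).IsClosedUnderFiniteCoproducts := .mk'

theorem isFinLocFree_coproduct {J : Type w} [Finite J] (M : J → X.Modules)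
    (h : ∀ j, FlatMod.IsFinLocFree (M j)) : FlatMod.IsFinLocFree (∐ M) :=
  (flf X).prop_coproduct h

end

section

variable {C : Type*} [Category* C] [Abelian C] {n : ℕ} (L : Fin n → C)

/-- The map into the coproduct with given components. -/
noncomputable def lift {F : C} (c : ∀ i, F ⟶ L i) : F ⟶ ∐ L := ∑ i, c i ≫ Sigma.ι L i

/-- The projections. -/
noncomputable def proj (i : Fin n) : ∐ L ⟶ L i :=
  Sigma.desc fun j => if h : j = i then eqToHom (congrArg L h) else 0

theorem ι_proj_self (i : Fin n) : Sigma.ι L i ≫ proj L i = 𝟙 _ := by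
  rw [proj, Sigma.ι_desc, dif_pos rfl]
  rfl

theorem ι_proj_ne {i j : Fin n} (h : j ≠ i) : Sigma.ι L j ≫ proj L i = 0 := by
  rw [proj, Sigma.ι_desc, dif_neg h]

theorem lift_proj {F : C} (c : ∀ i, F ⟶ L i) (i : Fin n) : lift L c ≫ proj L i = c i := by
  rw [lift, Preadditive.sum_comp, Finset.sum_eq_single i]
  · rw [Category.assoc, ι_proj_self, Category.comp_id]
  · intro j _ hj
    rw [Category.assoc, ι_proj_ne L hj, comp_zero]
  · intro h
    exact absurd (Finset.mem_univ i) h

theorem comp_lift {E F : C} (g : E ⟶ F) (c : ∀ i, F ⟶ L i) : g ≫ lift L c = lift L (fun i => g ≫ c i) := by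
  rw [lift, lift, Preadditive.comp_sum]
  simp

theorem comp_lift_eq_zero_iff {E F : C} (g : E ⟶ F) (c : ∀ i, F ⟶ L i) :
    g ≫ lift L c = 0 ↔ ∀ i, g ≫ c i = 0 := by
  constructor
  · intro h i
    rw [← lift_proj L c i, ← Category.assoc, h, zero_comp]
  · intro h
    rw [comp_lift, lift]
    simp [h]

theorem sum_proj_ι : ∑ i, proj L i ≫ Sigma.ι L i = 𝟙 (∐ L) := by
  apply Sigma.hom_ext
  intro j
  rw [Preadditive.comp_sum, Finset.sum_eq_single j]
  · rw [← Category.assoc, ι_proj_self, Category.id_comp, Category.comp_id]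
  · intro i _ hi
    rw [← Category.assoc, ι_proj_ne L hi.symm, zero_comp]
  · intro h
    exact absurd (Finset.mem_univ j) h

theorem eq_lift {F : C} (f : F ⟶ ∐ L) : f = lift L (fun i => f ≫ proj L i) := by
  rw [lift]
  simp only [Category.assoc]
  rw [← Preadditive.comp_sum, sum_proj_ι, Category.comp_id]

end

section

variable {k : Type u} [Field k] {X : Scheme.{u}} [X.Over (Spec (CommRingCat.of k))]
  [IsIntegral X] [IsProper (X ↘ (Spec (CommRingCat.of k)))]

/-- There is a finite family of maps `F ⟶ L` such that every map `F ⟶ L` vanishes on the common kernel. -/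
theorem exists_lift_min (C : Crv k X) {F L : X.Modules} (hF : FlatMod.IsFinLocFree F)
    (hL : FlatMod.IsFinLocFree L) :
    ∃ (n : ℕ) (c : Fin n → (F ⟶ L)), 0 < n ∧
      ∀ ψ : F ⟶ L, kernel.ι (lift (fun _ : Fin n => L) c) ≫ ψ = 0 := by
  classical
  let P : ℕ → Prop := fun m => ∃ (n : ℕ) (c : Fin n → (F ⟶ L)), 0 < n ∧
    rk (kernel (lift (fun _ : Fin n => L) c)) = m
  have hP : ∃ m, P m := ⟨_, 1, fun _ => 0, one_pos, rfl⟩
  obtain ⟨n, c, hn, hm⟩ := Nat.find_spec hP
  refine ⟨n, c, hn, fun ψ => ?_⟩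
  by_contra hne
  let K := kernel (lift (fun _ : Fin n => L) c)
  let c' : Fin (n + 1) → (F ⟶ L) := Fin.snoc (α := fun _ => (F ⟶ L)) c ψ
  let K' := kernel (lift (fun _ : Fin (n + 1) => L) c')
  have hc1 : ∀ i : Fin n, c' i.castSucc = c i := fun i => by
    simp only [c']
    rw [Fin.snoc_castSucc]
  have hc2 : c' (Fin.last n) = ψ := by
    simp only [c']
    rw [Fin.snoc_last]
  have hK'0 := (comp_lift_eq_zero_iff (fun _ : Fin (n + 1) => L)
    (kernel.ι (lift (fun _ : Fin (n + 1) => L) c')) c').mp (kernel.condition _)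
  have hL' : ∀ m : ℕ, FlatMod.IsFinLocFree (∐ fun _ : Fin m => L) :=
    fun m => isFinLocFree_coproduct _ fun _ => hL
  have hKv : FlatMod.IsFinLocFree K := vb_kernel C _ hF (coh_of_vb (hL' n))
  have hKv' : FlatMod.IsFinLocFree K' := vb_kernel C _ hF (coh_of_vb (hL' (n + 1)))
  obtain ⟨I, p, i, hp, hi, hpi, hI, hpos, e1, e2, e3, e4⟩ :=
    exists_factor_pos C (kernel.ι (lift (fun _ : Fin n => L) c) ≫ ψ) hne (coh_of_vb hKv) hL
  let a : K' ⟶ K := kernel.lift _ (kernel.ι _) ((comp_lift_eq_zero_iff (fun _ : Fin n => L)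
    (kernel.ι (lift (fun _ : Fin (n + 1) => L) c')) c).mpr fun i => by
      rw [← hc1]
      exact hK'0 i.castSucc)
  have ha : a ≫ kernel.ι (lift (fun _ : Fin n => L) c) = kernel.ι (lift (fun _ : Fin (n + 1) => L) c') :=
    kernel.lift_ι _ _ _
  let b : K' ⟶ kernel (kernel.ι (lift (fun _ : Fin n => L) c) ≫ ψ) := kernel.lift _ a (by
    rw [← Category.assoc, ha, ← hc2]
    exact hK'0 (Fin.last n))
  have hb : b ≫ kernel.ι _ = a := kernel.lift_ι _ _ _
  have hmb : Mono b := by
    have h0 : b ≫ kernel.ι (kernel.ι (lift (fun _ : Fin n => L) c) ≫ ψ) ≫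
        kernel.ι (lift (fun _ : Fin n => L) c) = kernel.ι (lift (fun _ : Fin (n + 1) => L) c') := by
      rw [← Category.assoc, hb, ha]
    have : Mono (b ≫ kernel.ι (kernel.ι (lift (fun _ : Fin n => L) c) ≫ ψ) ≫
        kernel.ι (lift (fun _ : Fin n => L) c)) := by
      rw [h0]
      infer_instance
    exact mono_of_mono b (kernel.ι (kernel.ι (lift (fun _ : Fin n => L) c) ≫ ψ) ≫
        kernel.ι (lift (fun _ : Fin n => L) c))
  have h1 := rk_le_of_mono C b (coh_of_vb hKv') (coh_kernel C _ (coh_of_vb hKv) (coh_of_vb hL))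
  have h2 : P (rk K') := ⟨n + 1, c', Nat.succ_pos n, rfl⟩
  have h3 := Nat.find_min' hP h2
  have h4 : rk K = Nat.find hP := hm
  have h5 : rk K = rk (kernel (kernel.ι (lift (fun _ : Fin n => L) c) ≫ ψ)) + rk I := e1
  omega

end

end K708.Coprod
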