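import Groth.Agent.VBCurve.K707.Semi
import Groth.Agent.Ega1.SubSheaf
import Groth.Agent.Ega1.QCohLoc
import Groth.Agent.SDiv.K475.GenStalk
import Groth.Agent.CycB.CohProp

/-!
# Saturated submodules attached to subspaces of the generic stalk (helper708)

`X` integral, `W` a subspace of the generic stalk of `E`. `genSub E W` is the subsheaf of sections with germ in `W`.
-/

set_option autoImplicit false
universe u

open CategoryTheory CategoryTheory.Limits AlgebraicGeometry TopologicalSpace Opposite

namespace K708.GenSub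

open Groth.Agent Groth.Agent.Ega1 Groth.Agent.Ega1.ModGerm Groth.Agent.Ega1.QCohLoc K475.GenStalk
open Groth.Agent.VarietyA.DegRank K707.Base K707.Deg K707.Slope K707.Semi

variable {X : Scheme.{u}} [IsIntegral X] (E : X.Modules)

/-- Sections of `E` whose generic germ lies in `W`. -/
noncomputable def genSub (W : Submodule (X.presheaf.stalk (η X)) (E.presheaf.stalk (η X))) : SubSheaf.Sub E where
  obj U :=
    { carrier := {s | ∀ hη : η X ∈ U, germ E U (η X) hη s ∈ W}
      add_mem' := by
        intro a b ha hb hη
        rw [map_add]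
        exact add_mem (ha hη) (hb hη)
      zero_mem' := by
        intro hη
        rw [map_zero]
        exact zero_mem _
      smul_mem' := by
        intro r a ha hη
        rw [germ_smul]
        exact W.smul_mem _ (ha hη) }
  map_mem := by
    intro U V h s hs hη
    have := hs (h hη)
    change germ E V (η X) hη (E.presheaf.map (homOfLE h).op s) ∈ W
    rw [germ_res]
    exact this
  local_mem := by
    intro U s h hη
    obtain ⟨V, hV, hxV, hs⟩ := h (η X) hη
    have := hs hxV
    change germ E V (η X) hxV (E.presheaf.map (homOfLE hV).op s) ∈ W at this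
    rw [germ_res] at this
    exact this

variable (W : Submodule (X.presheaf.stalk (η X)) (E.presheaf.stalk (η X)))

theorem mem_genSub {U : X.Opens} (s : Γ(E, U)) :
    s ∈ (genSub E W).obj U ↔ ∀ hη : η X ∈ U, germ E U (η X) hη s ∈ W := Iff.rfl

theorem isUnit_germ {U : X.Opens} (f : Γ(X, U)) (hη : η X ∈ X.basicOpen f) :
    IsUnit (X.presheaf.germ U (η X) (X.basicOpen_le f hη) f) := by
  rwa [X.mem_basicOpen f (η X) (X.basicOpen_le f hη)] at hη

theorem isLocOnAffines (hE : Coh.IsQCoh E) : IsLocOnAffines (genSub E W).toModules := by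
  intro U hU f
  have hloc := isLocAt_of_isQCoh hE hU f
  constructor
  · intro s
    obtain ⟨n, t, ht⟩ := hloc.surj ((genSub E W).ι.app _ s)
    by_cases hη : η X ∈ X.basicOpen f
    · have hmem : t ∈ (genSub E W).obj U := by
        intro hηU
        have h1 : germ E (X.basicOpen f) (η X) hη (res E (X.basicOpen_le f) t) ∈ W := by
          rw [ht, germ_smul]
          exact W.smul_mem _ ((genSub E W).ι_app_mem s hη)
        rw [QCohLoc.res_def, germ_res] at h1
        exact h1
      refine ⟨n, (genSub E W).sec t hmem, ?_⟩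
      apply (genSub E W).ι_app_injective
      rw [res_app, SubSheaf.Sub.ι_app_sec, ht]
      exact (SubSheaf.app_smul' (genSub E W).ι _ _).symm
    · refine ⟨0, 0, ?_⟩
      apply (genSub E W).ι_app_injective
      have h2 : X.basicOpen f = ⊥ := by
        rw [eq_bot_iff]
        intro x hx
        exact absurd (mem_of_nonempty hx) hη
      apply ModGerm.section_ext
      intro x hx
      rw [h2] at hx
      exact absurd hx (by simp)
  · intro t ht
    obtain ⟨n, hn⟩ := hloc.inj ((genSub E W).ι.app _ t) (by rw [← res_app, ht, map_zero])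
    refine ⟨n, ?_⟩
    apply (genSub E W).ι_app_injective
    rw [map_zero, SubSheaf.app_smul']
    exact hn

theorem isQCoh (hE : Coh.IsQCoh E) : Coh.IsQCoh (genSub E W).toModules :=
  isQCoh_of_isLocOnAffines _ (isLocOnAffines E W hE)

instance : Mono (genSub E W).ι := inferInstance

theorem isCoh [IsLocallyNoetherian X] (hE : Coh.IsCoh E) : Coh.IsCoh (genSub E W).toModules :=
  CycB.CohProp.isCoh_of_mono (genSub E W).ι (isQCoh E W hE.1) hE

/-- The generic stalk of `genSub E W` is `W`. -/
theorem range_stalkLin : LinearMap.range (CycB.StalkExact.stalkLin (genSub E W).ι (η X)) = W := by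
  apply le_antisymm
  · rintro _ ⟨m, rfl⟩
    obtain ⟨U, hU, s, rfl⟩ := TopCat.Presheaf.exists_germ_eq _ m
    rw [CycB.StalkExact.stalkLin_germ]
    exact (genSub E W).ι_app_mem s hU
  · intro w hw
    obtain ⟨U, hU, s, rfl⟩ := TopCat.Presheaf.exists_germ_eq _ w
    have hs : s ∈ (genSub E W).obj U := fun _ => hw
    refine ⟨(genSub E W).toModules.presheaf.germ U (η X) hU ((genSub E W).sec s hs), ?_⟩
    rw [CycB.StalkExact.stalkLin_germ, SubSheaf.Sub.ι_app_sec]

/-- A saturated submodule with prescribed generic stalk. -/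
theorem exists_saturated {k : Type u} [Field k] [X.Over (Spec (CommRingCat.of k))]
    [IsProper (X ↘ (Spec (CommRingCat.of k)))] (C : Crv k X) (hE : FlatMod.IsFinLocFree E) :
    ∃ (N R : X.Modules) (j : N ⟶ E) (q : E ⟶ R) (w : j ≫ q = 0), (ShortComplex.mk j q w).ShortExact ∧
      FlatMod.IsFinLocFree N ∧ FlatMod.IsFinLocFree R ∧
      LinearMap.range (CycB.StalkExact.stalkLin j (η X)) = W := by
  have := isLocNoeth C
  obtain ⟨G', Q, a, j, q, w, ha, haj, hS, hG', hQ, e1, e2, e3, e4⟩ :=
    exists_saturation C (genSub E W).ι (isCoh E W (coh_of_vb hE)) (coh_of_vb hE)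
  have hj : Mono j := hS.mono_f
  refine ⟨_, _, j, q, w, hS, vb_of_mono C j hG' hE, hQ, ?_⟩
  let hf := (isField_gen X).toField
  have hfin : Module.Finite (X.presheaf.stalk (η X)) (E.presheaf.stalk (η X)) :=
    Groth.Agent.Divis.StalkMod.finite_stalk (coh_of_vb hE) (η X)
  rw [← range_stalkLin E W]
  symm
  apply Submodule.eq_of_le_of_finrank_eq
  · rintro _ ⟨m, rfl⟩
    refine ⟨CycB.StalkExact.stalkLin a (η X) m, ?_⟩
    rw [← haj, CycB.StalkExact.stalkLin_comp]
    rfl
  · have h1 := LinearMap.finrank_range_of_inj (CycB.StalkExact.stalkLin_injective j (η X))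
    have h2 := LinearMap.finrank_range_of_inj (CycB.StalkExact.stalkLin_injective (genSub E W).ι (η X))
    exact h2.trans (e1.symm.trans h1.symm)

end K708.GenSub
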