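import Groth.Agent.VBCurve.K708.EmbedOne

/-!
# Slopes of submodules of tensor products (helper708)

* `dg_le_of_joint`: a bundle with a jointly monic family of maps to an invertible `N` has `deg G ≤ rk G · deg N`;
* `exists_inv_dg`: invertible modules of every degree when there is a rational point;
* `dg_le_tensor`: submodules of `F ⊗ F'` where `F`, `F'` embed in sums of copies of `L`, `L'`.
-/

set_option autoImplicit false
universe u

open CategoryTheory CategoryTheory.Limits AlgebraicGeometry TopologicalSpace Opposite Module MonoidalCategory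

namespace K708.TensBound

open Groth.Agent Groth.Agent.VarietyA.DegRank K707.Base K707.Deg K707.Slope K707.Semi K707.TensL K708.Coho K708.SSH0
open K708.PtTwist K708.DualDeg K708.Coprod
open scoped Groth.Agent.Dcoh.MonCat

variable {k : Type u} [Field k] {X : Scheme.{u}} [X.Over (Spec (CommRingCat.of k))]
  [IsIntegral X] [IsProper (X ↘ (Spec (CommRingCat.of k)))]

theorem dg_le_of_joint (C : Crv k X) {N : X.Modules} (hN : PicF.IsInvertible N) {ι : Type*} (m : ℕ) :
    ∀ (G : X.Modules), FlatMod.IsFinLocFree G → rk G = m → ∀ (c : ι → (G ⟶ N)),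
      (∀ (T : X.Modules) (g : T ⟶ G), (∀ i, g ≫ c i = 0) → g = 0) → dg k G ≤ m * dg k N := by
  induction m with
  | zero =>
    intro G hG h0 c _
    rw [dg_of_vb_of_rk_eq_zero C hG h0]
    simp
  | succ m ih =>
    intro G hG hm c hc
    have h1 : ∃ i, c i ≠ 0 := by
      by_contra hcon
      push Not at hcon
      have h2 := hc G (𝟙 G) fun i => by rw [hcon i, comp_zero]
      have h3 : IsZero G := by rwa [IsZero.iff_id_eq_zero]
      rw [rk_of_isZero h3] at hm
      omega
    obtain ⟨i, hi⟩ := h1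
    obtain ⟨I, p, i', hp, hi', hpi, hI, hpos, e1, e2, e3, e4⟩ :=
      exists_factor_pos C (c i) hi (coh_of_vb hG) (vb_of_inv hN)
    rw [rk_inv hN] at e3
    have h2 : rk I = 1 := by omega
    have h3 := dg_le_of_mono C i' (coh_of_vb hI) (coh_inv hN) (by rw [h2, rk_inv hN])
    have h4 := ih (kernel (c i)) (vb_kernel C (c i) hG (coh_inv hN)) (by omega)
      (fun j => kernel.ι (c i) ≫ c j) (fun T g hg => by
        have h5 := hc T (g ≫ kernel.ι (c i)) fun j => by rw [Category.assoc]; exact hg j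
        rw [← cancel_mono (kernel.ι (c i)), h5, zero_comp])
    push_cast
    linarith

/-- With a rational point there are invertible modules of every degree. -/
theorem exists_inv_dg (C : Crv k X) (O : Spec (CommRingCat.of k) ⟶ X)
    (hO : O ≫ (X ↘ Spec (CommRingCat.of k)) = 𝟙 _) (d : ℤ) :
    ∃ L : X.Modules, PicF.IsInvertible L ∧ dg k L = d := by
  have hx := RatPt.isClosed_pt k O hO
  have hs := RatPt.resMap_surjective k O hO
  have hO1 : PicF.IsInvertible (Coh.structureModule X) := rank_one_iff.mp rank_structureModule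
  have hdg := RatPt.dg_vanish C hO1 hx hs
  have hL₁ := invertible_vanish C hO1 hx
  rw [dg_structureModule] at hdg
  rcases le_total 0 d with h | h
  · obtain ⟨M, hM, -, -, hdM⟩ := exists_inv C hL₁
    obtain ⟨h1, h2⟩ := inv_pow C hM d.toNat
    refine ⟨_, h1, ?_⟩
    rw [h2, hdM, hdg, Int.toNat_of_nonneg h]
    ring
  · obtain ⟨h1, h2⟩ := inv_pow C hL₁ (-d).toNat
    refine ⟨_, h1, ?_⟩
    rw [h2, hdg, Int.toNat_of_nonneg (by omega)]
    ring

theorem dg_le_tensor (C : Crv k X) {F F' L L' G : X.Modules} (hF' : FlatMod.IsFinLocFree F')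
    (hL : PicF.IsInvertible L) (hL' : PicF.IsInvertible L') {n n' : ℕ}
    (j : F ⟶ ∐ fun _ : Fin n => L) [Mono j] (j' : F' ⟶ ∐ fun _ : Fin n' => L') [Mono j']
    (hG : FlatMod.IsFinLocFree G) (i : G ⟶ CohB1.tensorMod F F') [Mono i] :
    dg k G ≤ rk G * (dg k L + dg k L') := by
  have := isLocNoeth C
  have hN : PicF.IsInvertible (L ⊗ L') := by
    rw [← rank_one_iff]
    have h1 := isFinLocFreeOfRank_rk (vb_tensor (vb_of_inv hL) (vb_of_inv hL'))
    rwa [rk_tensor (rank_one_iff.mpr hL') (coh_inv hL), rk_inv hL] at h1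
  have hd : dg k (L ⊗ L') = dg k L + dg k L' := by
    have h1 := dg_tensor k C.dim (rank_one_iff.mpr hL') (coh_inv hL)
    rw [rk_inv hL] at h1
    push_cast at h1
    rw [one_mul, one_mul] at h1
    exact h1
  have hLn : FlatMod.IsFinLocFree (∐ fun _ : Fin n => L) := isFinLocFree_coproduct _ fun _ => vb_of_inv hL
  have m1 : Mono (j ▷ F') := K708.Dual.mono_whiskerRight hF' j
  have m2 : Mono ((∐ fun _ : Fin n => L) ◁ j') := K708.Dual.mono_whiskerLeft hLn j'
  rw [← hd]
  let i1 : G ⟶ F ⊗ F' := i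
  have hi1 : Mono i1 := ‹Mono i›
  let f : G ⟶ (∐ fun _ : Fin n => L) ⊗ (∐ fun _ : Fin n' => L') :=
    i1 ≫ (j ▷ F' ≫ (∐ fun _ : Fin n => L) ◁ j')
  have h3 : Mono (j ▷ F' ≫ (∐ fun _ : Fin n => L) ◁ j') := mono_comp _ _
  have hf : Mono f := mono_comp _ _
  let q : ∀ a : Fin n × Fin n', ((∐ fun _ : Fin n => L) ⊗ (∐ fun _ : Fin n' => L') ⟶ L ⊗ L') :=
    fun a => proj (fun _ : Fin n => L) a.1 ▷ _ ≫ _ ◁ proj (fun _ : Fin n' => L') a.2
  refine dg_le_of_joint C hN (rk G) G hG rfl (fun a : Fin n × Fin n' => f ≫ q a) fun T g hg => ?_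
  -- joint monicity
  have key : ∀ (h : T ⟶ (∐ fun _ : Fin n => L) ⊗ (∐ fun _ : Fin n' => L')), (∀ a, h ≫ q a = 0) → h = 0 := by
    intro h hh
    have s1 : (∑ a : Fin n, (proj (fun _ : Fin n => L) a ≫ Sigma.ι (fun _ : Fin n => L) a) ▷
        (∐ fun _ : Fin n' => L')) = 𝟙 _ := by
      rw [← sum_whiskerRight, sum_proj_ι, id_whiskerRight]
    have s2 : (∑ b : Fin n', L ◁ (proj (fun _ : Fin n' => L') b ≫ Sigma.ι (fun _ : Fin n' => L') b)) = 𝟙 _ := by
      rw [← whiskerLeft_sum, sum_proj_ι, whiskerLeft_id]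
    rw [← Category.comp_id h, ← s1, Preadditive.comp_sum]
    refine Finset.sum_eq_zero fun a _ => ?_
    rw [comp_whiskerRight]
    have s3 : h ≫ proj (fun _ : Fin n => L) a ▷ (∐ fun _ : Fin n' => L') = 0 := by
      rw [← Category.comp_id (h ≫ _), ← s2, Preadditive.comp_sum]
      refine Finset.sum_eq_zero fun b _ => ?_
      have := hh (a, b)
      rw [MonoidalCategory.whiskerLeft_comp, Category.assoc]
      simp only [q] at this
      rw [← Category.assoc (proj (fun _ : Fin n => L) a ▷ _), ← Category.assoc h, this, zero_comp]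
    rw [← Category.assoc, s3, zero_comp]
  have h1 := key (g ≫ f) fun a => by
    rw [Category.assoc]
    exact hg a
  rw [← cancel_mono f, h1, zero_comp]

open K703.Duality in
/-- Slopes of submodules of `F ⊗ F'` on a curve of genus one. -/
theorem dg_tensor_le (C : Crv k X) (D : Dualizing k X)
    (h0 : Module.finrank k (Coh.HH X (Coh.structureModule X) 0) = 1) (hg : Curv2.genus k X = 1)
    (O : Spec (CommRingCat.of k) ⟶ X) (hO : O ≫ (X ↘ Spec (CommRingCat.of k)) = 𝟙 _)
    {F F' G : X.Modules} (hF : FlatMod.IsFinLocFree F) (hF' : FlatMod.IsFinLocFree F')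
    (hr : 0 < rk F) (hs : 0 < rk F') (hss : SS k F) (hss' : SS k F')
    (hG : FlatMod.IsFinLocFree G) (i : G ⟶ CohB1.tensorMod F F') [Mono i] :
    dg k G * rk F * rk F' ≤ rk G * (4 * rk F * rk F' + dg k F * rk F' + dg k F' * rk F) := by
  obtain ⟨L, hL, hdL⟩ := exists_inv_dg C O hO (dg k F / rk F + 2)
  obtain ⟨L', hL', hdL'⟩ := exists_inv_dg C O hO (dg k F' / rk F' + 2)
  have hr' : (0 : ℤ) < rk F := by exact_mod_cast hr
  have hs' : (0 : ℤ) < rk F' := by exact_mod_cast hs
  obtain ⟨n, hn, j, hj⟩ := K708.EmbedOne.exists_mono_of_ss C D h0 hg O hO hF hss hL (by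
    rw [hdL]
    have := Int.lt_ediv_add_one_mul_self (dg k F) hr'
    have h1 : dg k F / rk F + 2 - 1 = dg k F / rk F + 1 := by ring
    rw [h1]
    exact this)
  obtain ⟨n', hn', j', hj'⟩ := K708.EmbedOne.exists_mono_of_ss C D h0 hg O hO hF' hss' hL' (by
    rw [hdL']
    have := Int.lt_ediv_add_one_mul_self (dg k F') hs'
    have h1 : dg k F' / rk F' + 2 - 1 = dg k F' / rk F' + 1 := by ring
    rw [h1]
    exact this)
  have h1 := dg_le_tensor C hF' hL hL' j j' hG i
  have h2 : dg k L * rk F ≤ dg k F + 2 * rk F := by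
    rw [hdL, add_mul]
    have := Int.ediv_mul_le (dg k F) hr'.ne'
    linarith
  have h3 : dg k L' * rk F' ≤ dg k F' + 2 * rk F' := by
    rw [hdL', add_mul]
    have := Int.ediv_mul_le (dg k F') hs'.ne'
    linarith
  have hG0 : (0 : ℤ) ≤ rk G := by positivity
  calc dg k G * rk F * rk F' ≤ rk G * (dg k L + dg k L') * rk F * rk F' := by gcongr
    _ = rk G * ((dg k L * rk F) * rk F' + (dg k L' * rk F') * rk F) := by ring
    _ ≤ rk G * ((dg k F + 2 * rk F) * rk F' + (dg k F' + 2 * rk F') * rk F) := by gcongr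
    _ = _ := by ring

end K708.TensBound
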