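import Groth.Agent.VBCurve.K708.PtTwist

/-!
# Twisting by a rational point lowers the degree by one (helper708)
-/

set_option autoImplicit false
universe u

open CategoryTheory CategoryTheory.Limits AlgebraicGeometry TopologicalSpace Opposite Module

namespace K708.RatPt

open Groth.Agent Groth.Agent.VarietyA.DegRank K707.Base K707.Deg K707.Slope K707.Semi K707.TensL K708.Coho K708.SSH0
open Groth.Agent.VarietyA.TwistDown Groth.Agent.VarietyA.TwistSeq Groth.Agent.VarietyA.RegPoint K708.PtTwist

section

variable (k : Type u) [Field k] {X : Scheme.{u}} [X.Over (Spec (CommRingCat.of k))]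

/-- The closed point of a rational point. -/
noncomputable def pt (O : Spec (CommRingCat.of k) ⟶ X) : X := O (IsLocalRing.closedPoint k)

theorem isClosed_pt [IsSeparated (X ↘ Spec (CommRingCat.of k))] (O : Spec (CommRingCat.of k) ⟶ X)
    (hO : O ≫ (X ↘ Spec (CommRingCat.of k)) = 𝟙 _) : IsClosed ({pt k O} : Set X) := by
  have h1 : IsClosedImmersion (O ≫ (X ↘ Spec (CommRingCat.of k))) := by rw [hO]; infer_instance
  have h2 : IsClosedImmersion O := IsClosedImmersion.of_comp O (X ↘ Spec (CommRingCat.of k))
  have h3 : ({pt k O} : Set X) = Set.range O := by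
    have : Unique (Spec (CommRingCat.of k)) := inferInstanceAs (Unique (PrimeSpectrum k))
    ext y
    constructor
    · rintro rfl
      exact ⟨_, rfl⟩
    · rintro ⟨z, rfl⟩
      rw [Set.mem_singleton_iff, pt]
      congr 1
      exact Subsingleton.elim _ _
  rw [h3]
  exact O.isClosedEmbedding.isClosed_range

theorem resMap_surjective (O : Spec (CommRingCat.of k) ⟶ X)
    (hO : O ≫ (X ↘ Spec (CommRingCat.of k)) = 𝟙 _) : Function.Surjective (Curv2.resMap k X (pt k O)) := by
  obtain ⟨ψ, h1⟩ : ∃ ψ : X.residueField (pt k O) ⟶ CommRingCat.of k,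
      Spec.map ψ ≫ X.fromSpecResidueField (pt k O) = O :=
    ⟨(Scheme.SpecToEquivOfField k X O).2, (Scheme.SpecToEquivOfField k X).left_inv O⟩
  have h2 : CommRingCat.ofHom (Curv2.resMap k X (pt k O)) ≫ ψ = 𝟙 _ := by
    apply Spec.map_injective
    rw [Spec.map_comp, VarietyA.ResMap.specMap_resMap, ← Category.assoc, h1, hO, Spec.map_id]
  have h3 : ∀ c : k, ψ.hom (Curv2.resMap k X (pt k O) c) = c := fun c => congr($h2 c)
  intro a
  refine ⟨ψ.hom a, ?_⟩
  apply ψ.hom.injective
  rw [h3]

theorem exists_sub_mem {x : X} (h : Function.Surjective (Curv2.resMap k X x)) (a : X.presheaf.stalk x) :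
    ∃ c : k, a - Curv2.stalkMap k X x c ∈ IsLocalRing.maximalIdeal (X.presheaf.stalk x) := by
  obtain ⟨c, hc⟩ := h ((X.residue x) a)
  refine ⟨c, ?_⟩
  rw [← IsLocalRing.residue_eq_zero_iff, map_sub, sub_eq_zero]
  exact hc.symm

/-- `H^0(M / M(-x))` is one-dimensional for `M` invertible, `x` closed and rational. -/
theorem finrank_H_quot {M : X.Modules} (hM : PicF.IsInvertible M) {x : X}
    (hx : IsClosed ({x} : Set X)) (hs : Function.Surjective (Curv2.resMap k X x)) :
    Module.finrank k (Coh.HH X (quot M x) 0) = 1 := by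
  rw [Fdesc.LocGen.isInvertible_iff] at hM
  obtain ⟨U, e, hxU, he⟩ := hM x
  have hv : qmap M x (Ega1.ModGerm.germ M U x hxU e) ≠ 0 := by
    intro h
    have h1 := (qmap_eq_zero_iff M x _).mp h
    rw [← one_smul (X.presheaf.stalk x) (Ega1.ModGerm.germ M U x hxU e), smul_germ_mem_mStalk_iff he] at h1
    exact (Ideal.ne_top_iff_one _).mp (IsLocalRing.maximalIdeal.isMaximal _).ne_top h1
  rw [finrank_eq_one_iff']
  refine ⟨(germQ M hx).symm (qmap M x (Ega1.ModGerm.germ M U x hxU e)), ?_, fun w => ?_⟩
  · intro h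
    apply hv
    have := congrArg (germQ M hx) h
    rwa [AddEquiv.apply_symm_apply, map_zero] at this
  · obtain ⟨m, hm⟩ := qmap_surjective M x (germQ M hx w)
    obtain ⟨a, rfl⟩ := exists_smul_germ_eq he x hxU m
    obtain ⟨c, hc⟩ := exists_sub_mem k hs a
    refine ⟨c, ?_⟩
    apply (germQ M hx).injective
    rw [germQ_smul, AddEquiv.apply_symm_apply, ← hm]
    have h1 : qmap M x ((a - Curv2.stalkMap k X x c) • Ega1.ModGerm.germ M U x hxU e) = 0 := by
      rw [qmap_eq_zero_iff, smul_germ_mem_mStalk_iff he]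
      exact hc
    rw [sub_smul, map_sub, sub_eq_zero, map_smul, map_smul] at h1
    rw [map_smul]
    exact h1.symm

end

section

variable {k : Type u} [Field k] {X : Scheme.{u}} [X.Over (Spec (CommRingCat.of k))]
  [IsIntegral X] [IsProper (X ↘ (Spec (CommRingCat.of k)))]

/-- Twisting by a rational closed point lowers the degree by one. -/
theorem dg_vanish (C : Crv k X) {L : X.Modules} (hL : PicF.IsInvertible L) {x : X}
    (hx : IsClosed ({x} : Set X)) (hs : Function.Surjective (Curv2.resMap k X x)) :
    dg k (vanish L x).toModules = dg k L - 1 := by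
  have h1 := invertible_vanish C hL hx
  have h2 := coh_cokernel (vanish L x).ι (coh_inv h1) (coh_inv hL)
  have h3 := mono_numbers C (vanish L x).ι (coh_inv h1) (coh_inv hL)
  have h4 : dg k (cokernel (vanish L x).ι) = 1 := by
    have h5 : Subsingleton ((cokernel (vanish L x).ι).presheaf.stalk (genericPoint X)) :=
      subsingleton_stalk_quot L x _ (ne_genericPoint_of_isClosed C.dim hx).symm hx
    rw [dg_eq_euler_of_torsion k h5, K708.Coho.euler_eq k C.dim.le]
    have h6 : Module.finrank k (Coh.HH X (cokernel (vanish L x).ι) 0) = 1 := finrank_H_quot k hL hx hs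
    have h7 : Subsingleton (Coh.HH X (cokernel (vanish L x).ι) 1) := subsingleton_H_quot L x hx 0
    rw [h6, Module.finrank_zero_of_subsingleton]
    simp
  omega

end

end K708.RatPt
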