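import Mathlib.FieldTheory.IntermediateField.Adjoin.Basic
import Mathlib.FieldTheory.Perfect
import Mathlib.FieldTheory.IntermediateField.Algebraic
import Mathlib.LinearAlgebra.Dual.Lemmas
import Mathlib.Algebra.CharP.Frobenius
import Mathlib.Algebra.CharP.Algebra

/-!
# Derivations of fields of `p`-degree one, stable subspaces (helper708)
-/

set_option autoImplicit false

namespace K708.DerivAlg

section field

variable (p : ℕ) [Fact p.Prime] {k K : Type*} [Field k] [Field K] [Algebra k K] [CharP K p]

theorem deriv_one {D : K →+ K} (hD : ∀ a b, D (a * b) = a * D b + b * D a) : D 1 = 0 := by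
  have := hD 1 1
  simp only [one_mul] at this
  exact left_eq_add.mp this

theorem deriv_pow {D : K →+ K} (hD : ∀ a b, D (a * b) = a * D b + b * D a) (a : K) (n : ℕ) :
    D (a ^ n) = n * a ^ (n - 1) * D a := by
  induction n with
  | zero => simp [deriv_one hD]
  | succ n ih =>
    rw [pow_succ, hD, ih]
    rcases n with _ | n
    · simp
    · simp only [Nat.add_sub_cancel, pow_succ]
      push_cast
      ring

omit [Fact p.Prime] in
theorem deriv_powp {D : K →+ K} (hD : ∀ a b, D (a * b) = a * D b + b * D a) (a : K) : D (a ^ p) = 0 := by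
  rw [deriv_pow hD, CharP.cast_eq_zero, zero_mul, zero_mul]

theorem deriv_inv {D : K →+ K} (hD : ∀ a b, D (a * b) = a * D b + b * D a) (a : K) (ha : D a = 0) :
    D a⁻¹ = 0 := by
  rcases eq_or_ne a 0 with rfl | h
  · simp
  · have := hD a a⁻¹
    rw [mul_inv_cancel₀ h, deriv_one hD, ha, mul_zero, add_zero] at this
    exact (mul_eq_zero.mp this.symm).resolve_left h

theorem exists_powp [PerfectField k] (x : K)
    (hx : x ∈ IntermediateField.adjoin k (Set.range fun a : K => a ^ p)) : ∃ b : K, b ^ p = x := by
  have : CharP k p := _root_.RingHom.charP (algebraMap k K) (algebraMap k K).injective p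
  have hk : ∀ c : k, algebraMap k K c ∈ (frobenius K p).fieldRange := by
    intro c
    obtain ⟨d, hd⟩ := (PerfectField.toPerfectRing p (K := k)).bijective_frobenius.2 c
    refine ⟨algebraMap k K d, ?_⟩
    rw [← hd, frobenius_def]
    exact (map_pow (algebraMap k K) d p).symm
  have h1 : IntermediateField.adjoin k (Set.range fun a : K => a ^ p) ≤
      (frobenius K p).fieldRange.toIntermediateField hk := by
    rw [IntermediateField.adjoin_le_iff]
    rintro _ ⟨a, rfl⟩
    exact ⟨a, rfl⟩
  obtain ⟨b, hb⟩ := h1 hx
  exact ⟨b, hb⟩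

theorem ker_le [PerfectField k]
    (hdeg : Module.finrank (IntermediateField.adjoin k (Set.range fun a : K => a ^ p)) K = p)
    {D : K →+ K} (hD : ∀ a b, D (a * b) = a * D b + b * D a) (hne : ∃ a, D a ≠ 0) (a : K) (ha : D a = 0) :
    ∃ b, b ^ p = a := by
  set L := IntermediateField.adjoin k (Set.range fun a : K => a ^ p) with hL
  have hDL : ∀ x : L, D (algebraMap L K x) = 0 := by
    rintro ⟨x, hx⟩
    obtain ⟨b, rfl⟩ := exists_powp (k := k) p x hx
    exact deriv_powp p hD b
  let M : IntermediateField L K :=
    { carrier := {x | D x = 0}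
      mul_mem' := by
        intro x y hx hy
        simp only [Set.mem_ofPred_eq] at hx hy ⊢
        rw [hD, hx, hy, mul_zero, mul_zero, add_zero]
      add_mem' := by
        intro x y hx hy
        simp only [Set.mem_ofPred_eq] at hx hy ⊢
        rw [map_add, hx, hy, add_zero]
      algebraMap_mem' := hDL
      inv_mem' := fun x hx => deriv_inv hD x hx }
  have hM : ∀ x, x ∈ M ↔ D x = 0 := fun x => Iff.rfl
  have := IntermediateField.isSimpleOrder_of_finrank_prime L K (by rw [hdeg]; exact Fact.out)
  rcases eq_bot_or_eq_top M with h | h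
  · have h1 : a ∈ M := ha
    rw [h, IntermediateField.mem_bot] at h1
    obtain ⟨⟨x, hx⟩, rfl⟩ := h1
    exact exists_powp (k := k) p x hx
  · obtain ⟨b, hb⟩ := hne
    exact absurd ((hM b).mp (h ▸ IntermediateField.mem_top)) hb

end field

section echelon

open Module

variable {K ι : Type*} [Field K] [Finite ι]

/-- A subspace of `K^n` stable under a coordinatewise derivation is spanned by vectors with constant coordinates. -/
theorem le_span_horizontal (D : K →+ K) (hD1 : D 1 = 0) (W : Submodule K (ι → K))
    (hW : ∀ w ∈ W, (fun i => D (w i)) ∈ W) :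
    W ≤ Submodule.span K {w | w ∈ W ∧ ∀ i, D (w i) = 0} := by
  classical
  have := Fintype.ofFinite ι
  let φ : ι → Dual K W := fun i => (LinearMap.proj i).comp W.subtype
  have hspan : Submodule.span K (Set.range φ) = ⊤ := by
    apply Submodule.span_eq_top_of_ne_zero
    intro z hz
    by_contra hcon
    push Not at hcon
    apply hz
    apply Subtype.ext
    funext i
    exact hcon (φ i) ⟨i, rfl⟩
  obtain ⟨b, hb, hbs, hli⟩ := exists_linearIndependent K (Set.range φ)
  let B : Basis b K (Dual K W) := Basis.mk hli (by rw [Subtype.range_coe, hbs, hspan])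
  have hBφ : ∀ f : b, B f = f.1 := fun f => by simp [B]
  have : Finite b := (Set.finite_range φ).subset hb
  let w : Basis b K W := B.dualBasis.map (evalEquiv K W).symm
  have hw : ∀ (f g : b), (f.1 : Dual K W) (w g) = if f = g then 1 else 0 := by
    intro f g
    simp only [w, Basis.map_apply]
    rw [apply_evalEquiv_symm_apply, ← hBφ, Basis.dualBasis_apply_self]
  have hz : ∀ g : b, ∀ i, D ((w g : ι → K) i) = 0 := by
    intro g
    let v : W := ⟨fun i => D ((w g : ι → K) i), hW _ (w g).2⟩
    have hv : v = 0 := by
      rw [← Module.forall_dual_apply_eq_zero_iff K]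
      intro f
      have : f ∈ Submodule.span K (Set.range B) := by rw [B.span_eq]; trivial
      induction this using Submodule.span_induction with
      | mem x hx =>
        obtain ⟨f, rfl⟩ := hx
        rw [hBφ]
        obtain ⟨i, hi⟩ := hb f.2
        have h1 := hw f g
        rw [← hi] at h1 ⊢
        change D ((w g : ι → K) i) = 0
        change (w g : ι → K) i = _ at h1
        rw [h1]
        split_ifs
        · exact hD1
        · exact map_zero D
      | zero => simp
      | add x y _ _ hx hy => rw [LinearMap.add_apply, hx, hy, add_zero]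
      | smul c x _ hx => rw [LinearMap.smul_apply, hx, smul_zero]
    intro i
    exact congrFun (congrArg Subtype.val hv) i
  intro x hx
  have h1 : (⟨x, hx⟩ : W) ∈ Submodule.span K (Set.range w) := by rw [w.span_eq]; trivial
  have h2 := Submodule.mem_map_of_mem (f := W.subtype) h1
  rw [Submodule.map_span] at h2
  refine Submodule.span_mono ?_ h2
  rintro _ ⟨_, ⟨g, rfl⟩, rfl⟩
  exact ⟨(w g).2, hz g⟩

end echelon

section nabla

open Module

variable {K V P ι : Type*} [Field K] [AddCommGroup V] [Module K V] [AddCommGroup P] [Module K P] [Fintype ι]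
  (p : ℕ) [Fact p.Prime] [CharP K p] (can : V →+ P) (hcan : ∀ (a : K) (v : V), can (a • v) = a ^ p • can v)
  (e : Basis ι K V) (b : Basis ι K P) (hb : ∀ i, b i = can (e i))
  (D : K →+ K) (hD : ∀ a b, D (a * b) = a * D b + b * D a)

/-- The canonical connection in coordinates. -/
noncomputable def nabla : P →+ P where
  toFun m := ∑ i, D (b.repr m i) • b i
  map_zero' := by simp
  map_add' m n := by simp [add_smul, Finset.sum_add_distrib]

omit [CharP K p] [Fact p.Prime] in
theorem repr_nabla (m : P) (i : ι) : b.repr (nabla b D m) i = D (b.repr m i) := by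
  classical
  change b.repr (∑ j, D (b.repr m j) • b j) i = _
  rw [map_sum]
  simp [Finsupp.single_apply]

include hcan hb in
omit [CharP K p] [Fact p.Prime] in
theorem repr_can (v : V) (i : ι) : b.repr (can v) i = (e.repr v i) ^ p := by
  classical
  conv_lhs => rw [← e.sum_repr v]
  rw [map_sum, map_sum, Finsupp.finsetSum_apply]
  have : ∀ j, b.repr (can (e.repr v j • e j)) i = if j = i then (e.repr v j) ^ p else 0 := by
    intro j
    rw [hcan, ← hb, map_smul, Basis.repr_self, Finsupp.smul_apply, Finsupp.single_apply]
    split_ifs <;> simp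
  simp [this]

include hcan hb hD in
omit [Fact p.Prime] in
theorem nabla_smul_can (a : K) (v : V) : nabla b D (a • can v) = D a • can v := by
  apply b.repr.injective
  ext i
  rw [repr_nabla, map_smul, map_smul, Finsupp.smul_apply, Finsupp.smul_apply, repr_can p can hcan e b hb,
    smul_eq_mul, smul_eq_mul, hD, deriv_powp p hD, mul_zero, zero_add, mul_comm]

include hD in
theorem nabla_smul (a : K) (m : P) : nabla b D (a • m) = D a • m + a • nabla b D m := by
  apply b.repr.injective
  ext i
  rw [repr_nabla, map_smul, map_add, map_smul, map_smul, Finsupp.smul_apply, Finsupp.add_apply,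
    Finsupp.smul_apply, Finsupp.smul_apply, repr_nabla, smul_eq_mul, smul_eq_mul, smul_eq_mul, hD]
  ring

include hcan hb hD in
theorem le_span_can (hker : ∀ a, D a = 0 → ∃ b, b ^ p = a) (W : Submodule K P)
    (hW : ∀ w ∈ W, nabla b D w ∈ W) : W ≤ Submodule.span K (can '' {v | can v ∈ W}) := by
  have h := le_span_horizontal D (deriv_one hD) (W.map b.equivFun.toLinearMap) (by
    rintro _ ⟨w, hw, rfl⟩
    refine ⟨nabla b D w, hW w hw, ?_⟩
    funext i
    exact repr_nabla b D w i)
  intro w hw
  have h1 := h ⟨w, hw, rfl⟩
  have h2 := Submodule.mem_map_of_mem (f := b.equivFun.symm.toLinearMap) h1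
  rw [Submodule.map_span] at h2
  have h3 : b.equivFun.symm.toLinearMap (b.equivFun.toLinearMap w) = w := b.equivFun.symm_apply_apply w
  rw [h3] at h2
  refine Submodule.span_mono ?_ h2
  rintro _ ⟨_, ⟨⟨w', hw', rfl⟩, hz⟩, rfl⟩
  have h4 : b.equivFun.symm.toLinearMap (b.equivFun.toLinearMap w') = w' := b.equivFun.symm_apply_apply w'
  rw [h4]
  choose β hβ using fun i => hker _ (hz i)
  have hv : can (∑ i, β i • e i) = w' := by
    rw [map_sum]
    conv_rhs => rw [← b.sum_repr w']
    refine Finset.sum_congr rfl fun i _ => ?_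
    rw [hcan, hβ, ← hb]
    rfl
  exact ⟨∑ i, β i • e i, by change can _ ∈ W; rw [hv]; exact hw', hv⟩

end nabla

end K708.DerivAlg
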