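import Groth.Agent.S1612
import Groth.Agent.S1520
import Groth.Agent.CurvesB.OmegaInv
import Groth.Agent.CurvesB.OmegaGeneric
import Groth.Agent.Variety.K430.FrobDeg
import Groth.Agent.SDiv.K475.GenStalk
import Groth.Agent.VBCurve.K708.DerivAlg
import Groth.Agent.VBCurve.K708.HomH0

/-!
# A nowhere vanishing vector field on a curve of genus one, as a derivation of the function field (helper708)
-/

set_option autoImplicit false
set_option linter.style.haveILetI false
universe u

open CategoryTheory CategoryTheory.Limits AlgebraicGeometry TopologicalSpace Opposite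

namespace K708.Deriv

open Groth.Agent Groth.Agent.CurvesB Groth.Agent.CurvesB.OmegaStalkDict K475.GenStalk Groth.Agent.Fdesc

variable {k : Type u} [Field k] {X : Scheme.{u}} [X.Over (Spec (CommRingCat.of k))]
  [IsIntegral X] [IsProper (X ↘ (Spec (CommRingCat.of k)))] [Smooth (X ↘ (Spec (CommRingCat.of k)))]

theorem nonempty_omega_iso (hdim : topologicalKrullDim X = 1)
    (h0 : Module.finrank k (Coh.HH X (Coh.structureModule X) 0) = 1) (hg : Curv2.genus k X = 1) :
    Nonempty (Omega.sheaf (X ↘ (Spec (CommRingCat.of k))) ≅ Coh.structureModule X) := by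
  obtain ⟨h1, h2⟩ := S1612.result k X ⟨inferInstance, inferInstance, inferInstance, hdim⟩ h0
  have hinv := OmegaInv.isInvertible_omega (X ↘ (Spec (CommRingCat.of k))) hdim
  rw [hg] at h1 h2
  have h3 : ¬ ∀ φ : Coh.structureModule X ⟶ Omega.sheaf (X ↘ (Spec (CommRingCat.of k))), φ = 0 := by
    intro h
    have h4 := (K708.HomH0.forall_unit_hom_eq_zero_iff _).mp h
    rw [Module.finrank_zero_of_subsingleton] at h1
    exact absurd h1 (by norm_num)
  push Not at h3
  obtain ⟨s, hs⟩ := h3
  exact S1520.result k X hdim _ hinv s hs (by rw [h2]; norm_num)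

section gen

variable (e : Omega.sheaf (X ↘ (Spec (CommRingCat.of k))) ≅ Coh.structureModule X)

/-- The vector field on stalks. -/
noncomputable def T (x : X) : (Omega.sheaf (X ↘ (Spec (CommRingCat.of k)))).presheaf.stalk x →ₗ[X.presheaf.stalk x]
    X.presheaf.stalk x :=
  (StructMod.stalkEquiv x).symm.toLinearMap.comp (RefHull.stalkMapₗ e.hom x)

theorem T_injective (x : X) : Function.Injective (T e x) := by
  have h : ∀ m, RefHull.stalkMapₗ e.inv x (RefHull.stalkMapₗ e.hom x m) = m := by
    intro m
    obtain ⟨U, hx, s, rfl⟩ := TopCat.Presheaf.exists_germ_eq _ m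
    rw [RefHull.stalkMapₗ_germ, RefHull.stalkMapₗ_germ]
    have : e.inv.app U (e.hom.app U s) = s := by
      have := congrArg (fun φ => φ.app U) e.hom_inv_id
      exact congr($this s)
    rw [this]
  intro a b hab
  have h1 := (StructMod.stalkEquiv x).symm.injective hab
  rw [← h a, ← h b, h1]

theorem T_spec {x y : X} (h : y ⤳ x) (m : (Omega.sheaf (X ↘ (Spec (CommRingCat.of k)))).presheaf.stalk x) :
    T e y ((Omega.sheaf (X ↘ (Spec (CommRingCat.of k)))).presheaf.stalkSpecializes h m) =
      X.presheaf.stalkSpecializes h (T e x m) := by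
  apply (StructMod.stalkEquiv y).injective
  change StructMod.stalkEquiv y ((StructMod.stalkEquiv y).symm _) = _
  rw [LinearEquiv.apply_symm_apply, stalkMapₗ_spec, ← OmegaGeneric.stalkSpecializes_stalkEquiv]
  congr 1
  exact ((StructMod.stalkEquiv x).apply_symm_apply _).symm

/-- The derivation. -/
noncomputable def D (x : X) : X.presheaf.stalk x →+ X.presheaf.stalk x :=
  (T e x).toAddMonoidHom.comp (dSt (X ↘ (Spec (CommRingCat.of k))) x)

theorem D_apply (x : X) (a : X.presheaf.stalk x) : D e x a = T e x (dSt (X ↘ (Spec (CommRingCat.of k))) x a) := rfl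

theorem D_mul (x : X) (a b : X.presheaf.stalk x) : D e x (a * b) = a * D e x b + b * D e x a := by
  rw [D_apply, dSt_mul, map_add, map_smul, map_smul]
  rfl

theorem D_spec {x y : X} (h : y ⤳ x) (a : X.presheaf.stalk x) :
    D e y (X.presheaf.stalkSpecializes h a) = X.presheaf.stalkSpecializes h (D e x a) := by
  rw [D_apply, D_apply, ← T_spec, dSt_specializes]

theorem D_ne_zero (x : X) : ∃ a, D e x a ≠ 0 := by
  by_contra hcon
  push Not at hcon
  have h1 : ∀ a, dSt (X ↘ (Spec (CommRingCat.of k))) x a = 0 := by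
    intro a
    apply T_injective e x
    rw [map_zero]
    exact hcon a
  letI := stAlg (X ↘ (Spec (CommRingCat.of k))) x
  letI := stMod (X ↘ (Spec (CommRingCat.of k))) (Omega.sheaf (X ↘ (Spec (CommRingCat.of k)))) x
  haveI := stTower (X ↘ (Spec (CommRingCat.of k))) (Omega.sheaf (X ↘ (Spec (CommRingCat.of k)))) x
  have h2 : ∀ m : (Omega.sheaf (X ↘ (Spec (CommRingCat.of k)))).presheaf.stalk x, m = 0 := by
    intro m
    obtain ⟨ω, rfl⟩ := (bijective_stDer (X ↘ (Spec (CommRingCat.of k))) x).2 m
    have h1 : ω ∈ Submodule.span (X.presheaf.stalk x)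
        (Set.range (KaehlerDifferential.D k (X.presheaf.stalk x))) := by
      rw [KaehlerDifferential.span_range_derivation]; trivial
    induction h1 using Submodule.span_induction with
    | mem y hy =>
      obtain ⟨a, rfl⟩ := hy
      rw [Derivation.liftKaehlerDifferential_comp_D]
      exact h1 a
    | zero => rw [map_zero]
    | add a b _ _ ha hb => rw [map_add, ha, hb, add_zero]
    | smul c a _ ha => rw [map_smul, ha, smul_zero]
  have h3 : (1 : X.presheaf.stalk x) = 0 := by
    have h4 : ∀ m, RefHull.stalkMapₗ e.hom x (RefHull.stalkMapₗ e.inv x m) = m := by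
      intro m
      obtain ⟨U, hx, s, rfl⟩ := TopCat.Presheaf.exists_germ_eq _ m
      rw [RefHull.stalkMapₗ_germ, RefHull.stalkMapₗ_germ]
      have : e.hom.app U (e.inv.app U s) = s := by
        have := congrArg (fun φ => φ.app U) e.inv_hom_id
        exact congr($this s)
      rw [this]
    apply (StructMod.stalkEquiv x).injective
    rw [map_zero, ← h4 (StructMod.stalkEquiv x 1), h2 (RefHull.stalkMapₗ e.inv x _), map_zero]
  exact one_ne_zero h3

end gen

theorem exists_deriv (p : ℕ) [Fact p.Prime] [CharP k p] [PerfectField k]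
    [GeometricallyReduced (X ↘ (Spec (CommRingCat.of k)))] (hdim : topologicalKrullDim X = 1)
    (h0 : Module.finrank k (Coh.HH X (Coh.structureModule X) 0) = 1) (hg : Curv2.genus k X = 1) :
    ∃ D : X.presheaf.stalk (η X) →+ X.presheaf.stalk (η X),
      (∀ a b, D (a * b) = a * D b + b * D a) ∧
      (∀ (x : X) (a : X.presheaf.stalk x), ∃ b : X.presheaf.stalk x,
        D (X.presheaf.stalkSpecializes (spec x) a) = X.presheaf.stalkSpecializes (spec x) b) ∧
      (∀ a, D a = 0 → ∃ b, b ^ p = a) := by
  obtain ⟨e⟩ := nonempty_omega_iso hdim h0 hg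
  refine ⟨D e (η X), D_mul e _, fun x a => ⟨D e x a, D_spec e (spec x) a⟩, ?_⟩
  let _ := Curv2.resAlgebra k X (genericPoint X)
  have := K430.FrobDeg.charP_residueField k X p (genericPoint X)
  have hdeg := K430.FrobDeg.residueDegree_genericPoint k X p 1 (by rw [hdim]; rfl)
  rw [K430.FrobDeg.residueDegree_eq, pow_one] at hdeg
  let r : X.presheaf.stalk (genericPoint X) ≃+* X.residueField (genericPoint X) :=
    RingEquiv.ofBijective (X.residue (genericPoint X)).hom
      ⟨(X.residue (genericPoint X)).hom.injective, X.residue_surjective _⟩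
  let D' : X.residueField (genericPoint X) →+ X.residueField (genericPoint X) :=
    (r.toAddMonoidHom.comp (D e (η X))).comp r.symm.toAddMonoidHom
  have hD' : ∀ a, D' a = r (D e (η X) (r.symm a)) := fun a => rfl
  intro a ha
  obtain ⟨b, hb⟩ := DerivAlg.ker_le p hdeg (D := D') (by
    intro a b
    rw [hD', hD', hD', map_mul, D_mul, map_add, map_mul, map_mul, RingEquiv.apply_symm_apply,
      RingEquiv.apply_symm_apply]) (by
    obtain ⟨a, ha⟩ := D_ne_zero e (η X)
    refine ⟨r a, ?_⟩
    rw [hD', RingEquiv.symm_apply_apply]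
    exact (map_ne_zero_iff r r.injective).mpr ha) (r a) (by
    rw [hD', RingEquiv.symm_apply_apply, ha, map_zero])
  refine ⟨r.symm b, r.injective ?_⟩
  rw [map_pow, RingEquiv.apply_symm_apply, hb]

end K708.Deriv
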