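import Groth.Agent.VBCurve.K707.IndepGlob
import Groth.Agent.VBCurve.K705.EvFib2
import Groth.Agent.VBCurve.K703.GlobGen
import Groth.Agent.AbVar.K504.Hodge
import Groth.Agent.VBCurve.K708.PtTwist

/-!
# Line bundle quotients of globally generated bundles on curves (helper708)
-/

set_option autoImplicit false
universe u

open CategoryTheory CategoryTheory.Limits AlgebraicGeometry TopologicalSpace Opposite Module

namespace K708.GGLine

open Groth.Agent Groth.Agent.VarietyA.DegRank K707.Base K707.Deg K707.Slope K707.Semi K707.TensL K708.Coho K708.SSH0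
open K708.PtTwist

variable {k : Type u} [Field k] {X : Scheme.{u}} [X.Over (Spec (CommRingCat.of k))]
  [IsIntegral X] [IsProper (X ↘ (Spec (CommRingCat.of k)))]

omit [IsIntegral X] in
theorem exists_free_sub [Infinite k] (C : Crv k X) {G : X.Modules} {r : ℕ} (hG : FlatMod.IsFinLocFreeOfRank r G)
    (hgg : Curv2.IsGloballyGenerated G) (m : ℕ) (hm : m < r) :
    ∃ φ : FlatMod.freeMod X m ⟶ G, Mono φ ∧ FlatMod.IsFinLocFreeOfRank (r - m) (cokernel φ) := by
  have := isNoetherian k (X := X)
  let c : k →+* Γ(X, ⊤) :=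
    (((Scheme.ΓSpecIso (CommRingCat.of k)).inv ≫ (X ↘ (Spec (CommRingCat.of k))).appTop).hom : k →+* Γ(X, ⊤))
  obtain ⟨w, hw⟩ := K707.IndepGlob.exists_indep_on c hG hgg (Z := X) C.dim.le id continuous_id m hm
  have hP : K707.IndepCoker.PartBasis (r - m) w := fun x => K707.IndepGlob.exists_complement' hG w x (hw x)
  exact ⟨K707.IndepCoker.homOfFam w, K707.IndepCoker.mono_homOfFam hP, K707.IndepCoker.rank_cokernel hP⟩

theorem exists_line_quot [Infinite k] (C : Crv k X)
    (h0 : Module.finrank k (Coh.HH X (Coh.structureModule X) 0) = 1) {G : X.Modules}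
    (hG : FlatMod.IsFinLocFree G) (hpos : 0 < rk G) (hgg : Curv2.IsGloballyGenerated G) :
    ∃ (N : X.Modules) (q : G ⟶ N), PicF.IsInvertible N ∧ Epi q ∧ dg k N = dg k G ∧
      finrank k (Coh.HH X G 0) + 1 ≤ finrank k (Coh.HH X N 0) + rk G := by
  have hG' := isFinLocFreeOfRank_rk hG
  obtain ⟨φ, hφ, hc⟩ := exists_free_sub C hG' hgg (rk G - 1) (by omega)
  have e1 : rk G - (rk G - 1) = 1 := by omega
  rw [e1] at hc
  have hinv := rank_one_iff.mp hc
  have hfree : Coh.IsCoh (FlatMod.freeMod X (rk G - 1)) := coh_of_vb (Dcoh.FinLocFree.isFinLocFree_freeMod X _)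
  have hS := cokernel_shortExact φ
  have h1 := dg_add k _ hS hfree (coh_of_vb hG) (coh_inv hinv)
  have h2 := K705.EvFib2.dg_free C (rk G - 1)
  have h3 := finrank_HH_le_add k hS hfree (coh_of_vb hG) (coh_inv hinv) 0
  have h4 := K504.Hodge.finrank_HH_freeMod k (X := X) (rk G - 1) 0
  simp only at h1 h3
  refine ⟨cokernel φ, cokernel.π φ, hinv, inferInstance, by omega, ?_⟩
  rw [h4, h0] at h3
  omega

end K708.GGLine
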