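import Groth.Agent.VBCurve.K707.MaxSlope

/-!
# Uniqueness of the maximal destabilising submodule (helper708)
-/

set_option autoImplicit false
universe u

open CategoryTheory CategoryTheory.Limits AlgebraicGeometry TopologicalSpace Opposite Module

namespace K708.MaxUniq

open Groth.Agent.VarietyA.DegRank K707.Base K707.Deg K707.Slope K707.Semi

variable {k : Type u} [Field k] {X : Scheme.{u}} [X.Over (Spec (CommRingCat.of k))]
  [IsIntegral X] [IsProper (X ↘ (Spec (CommRingCat.of k)))]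

/-- `G ⊂ E` is maximally destabilising. -/
structure IsMaxDest (k : Type u) [Field k] {X : Scheme.{u}} [X.Over (Spec (CommRingCat.of k))] [IsIntegral X]
    {G E : X.Modules} (i : G ⟶ E) : Prop where
  mono : Mono i
  vb : FlatMod.IsFinLocFree G
  pos : 0 < rk G
  le : ∀ (F : X.Modules) (j : F ⟶ E), Mono j → FlatMod.IsFinLocFree F → dg k F * rk G ≤ dg k G * rk F
  lt : ∀ (F : X.Modules) (j : F ⟶ cokernel i), Mono j → FlatMod.IsFinLocFree F → 0 < rk F →
    dg k F * rk G < dg k G * rk F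

omit [IsProper (X ↘ (Spec (CommRingCat.of k)))] in
theorem IsMaxDest.ss {G E : X.Modules} {i : G ⟶ E} (h : IsMaxDest k i) : SS k G := by
  intro F j hj hF
  have := h.mono
  exact h.le F (j ≫ i) (mono_comp _ _) hF

/-- The cokernel of a maximally destabilising submodule is locally free. -/
theorem IsMaxDest.vb_cokernel (C : Crv k X) {G E : X.Modules} {i : G ⟶ E} (h : IsMaxDest k i)
    (hE : FlatMod.IsFinLocFree E) : FlatMod.IsFinLocFree (cokernel i) := by
  have := h.mono
  have hGc := coh_of_vb h.vb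
  obtain ⟨G', Q, a, j, q, w, ha, haj, hS, hG', hQ, e1, e2, e3, e4⟩ := exists_saturation C i hGc (coh_of_vb hE)
  have hj : Mono j := hS.mono_f
  have hq : Epi q := hS.epi_g
  have h1 := h.le G' j hj (vb_of_mono C j hG' hE)
  have hpos' : (0 : ℤ) < rk G := by exact_mod_cast h.pos
  have h2 : dg k G' ≤ dg k G := by
    rw [e1] at h1
    exact le_of_mul_le_mul_right h1 hpos'
  have ha' : IsIso a := isIso_of_mono C a hGc hG' e1.le h2
  have e : cokernel i ≅ cokernel j := cokernel.mapIso i j (asIso a) (Iso.refl _) (by simp [haj])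
  have e' : cokernel j ≅ Q := IsColimit.coconePointUniqueUpToIso (cokernelIsCokernel j) hS.gIsCokernel
  exact vb_iso (e ≪≫ e').symm hQ

theorem IsMaxDest.comp_eq_zero (C : Crv k X) {G G' E : X.Modules} {i : G ⟶ E} {i' : G' ⟶ E}
    (h : IsMaxDest k i) (h' : IsMaxDest k i') (hE : FlatMod.IsFinLocFree E) :
    i' ≫ cokernel.π i = 0 := by
  have hm := h.mono
  have hm' := h'.mono
  by_contra hf
  have hQ := h.vb_cokernel C hE
  obtain ⟨I, p, j, hp, hj, hpj, hI, hIpos, e1, e2, e3, e4⟩ := exists_factor_pos C _ hf (coh_of_vb h'.vb) hQ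
  have h1 := h.lt I j hj hI hIpos
  have h2 := h'.ss.quot C h'.vb p (coh_of_vb hI)
  have h3 := h.le G' i' hm' h'.vb
  have h4 := h'.le G i hm h.vb
  have hG : (0 : ℤ) < rk G := by exact_mod_cast h.pos
  have hG' : (0 : ℤ) < rk G' := by exact_mod_cast h'.pos
  have hI' : (0 : ℤ) < rk I := by exact_mod_cast hIpos
  nlinarith

/-- Uniqueness. -/
theorem IsMaxDest.unique (C : Crv k X) {G G' E : X.Modules} {i : G ⟶ E} {i' : G' ⟶ E}
    (h : IsMaxDest k i) (h' : IsMaxDest k i') (hE : FlatMod.IsFinLocFree E) :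
    ∃ e : G ≅ G', e.hom ≫ i' = i := by
  have hm := h.mono
  have hm' := h'.mono
  have h1 := h.comp_eq_zero C h' hE
  have h2 := h'.comp_eq_zero C h hE
  have l1 := (cokernel_shortExact i).fIsKernel
  have l2 := (cokernel_shortExact i').fIsKernel
  obtain ⟨a, ha⟩ := KernelFork.IsLimit.lift' l1 i' h1
  obtain ⟨b, hb⟩ := KernelFork.IsLimit.lift' l2 i h2
  change a ≫ i = i' at ha
  change b ≫ i' = i at hb
  refine ⟨⟨b, a, ?_, ?_⟩, hb⟩
  · rw [← cancel_mono i, Category.assoc, ha, hb, Category.id_comp]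
  · rw [← cancel_mono i', Category.assoc, hb, ha, Category.id_comp]

/-- Existence. -/
theorem exists_isMaxDest (C : Crv k X) {E : X.Modules} (hE : FlatMod.IsFinLocFree E) (hpos : 0 < rk E) :
    ∃ (G : X.Modules) (i : G ⟶ E), IsMaxDest k i := by
  obtain ⟨G, Q, j, q, w, hS, hG, hQ, hpos, hss, h1, h2⟩ := K707.MaxSlope.exists_max C hE hpos
  have hm : Mono j := hS.mono_f
  refine ⟨G, j, hm, hG, hpos, h1, fun F i hi hF hF0 => ?_⟩
  have e' : cokernel j ≅ Q := IsColimit.coconePointUniqueUpToIso (cokernelIsCokernel j) hS.gIsCokernel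
  exact h2 F (i ≫ e'.hom) (mono_comp _ _) (coh_of_vb hF) hF0

end K708.MaxUniq
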