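import Groth.Agent.VBCurve.K708.FrobPull
import Groth.Agent.VBCurve.K708.InvH0
import Groth.Agent.VBCurve.K708.Dual

/-!
# Growth of sections of Frobenius pullbacks (helper708)
-/

set_option autoImplicit false
universe u

open CategoryTheory CategoryTheory.Limits AlgebraicGeometry TopologicalSpace Opposite Module

namespace K708.FrobH0

open Groth.Agent Groth.Agent.VarietyA.DegRank K707.Base K707.Deg K707.Slope K707.Semi K707.TensL K708.Coho K708.SSH0
open K708.PtTwist K708.FrobPull
open scoped Groth.Agent.Dcoh.MonCat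

variable {k : Type u} [Field k] {X : Scheme.{u}} [X.Over (Spec (CommRingCat.of k))]
  [IsIntegral X] [IsProper (X ↘ (Spec (CommRingCat.of k)))] (p : ℕ) [Fact p.Prime] [FrobSch.IsCharP X p]


theorem finrank_tensor_le_add (C : Crv k X) {L : X.Modules} (hL : PicF.IsInvertible L)
    (S : ShortComplex X.Modules) (hS : S.ShortExact) (h1 : FlatMod.IsFinLocFree S.X₁)
    (h2 : FlatMod.IsFinLocFree S.X₂) (h3 : FlatMod.IsFinLocFree S.X₃) :
    finrank k (Coh.HH X (CohB1.tensorMod S.X₂ L) 0) ≤
      finrank k (Coh.HH X (CohB1.tensorMod S.X₁ L) 0) + finrank k (Coh.HH X (CohB1.tensorMod S.X₃ L) 0) := by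
  have := isLocNoeth C
  have h4 := K708.Dual.tensorRight_shortExact (vb_of_inv hL) hS
  have c1 : Coh.IsCoh (S.map (MonoidalCategory.tensorRight L)).X₁ := coh_of_vb (vb_tensor h1 (vb_of_inv hL))
  have c2 : Coh.IsCoh (S.map (MonoidalCategory.tensorRight L)).X₂ := coh_of_vb (vb_tensor h2 (vb_of_inv hL))
  have c3 : Coh.IsCoh (S.map (MonoidalCategory.tensorRight L)).X₃ := coh_of_vb (vb_tensor h3 (vb_of_inv hL))
  have h5 := finrank_HH_le_add k h4 c1 c2 c3 0
  exact h5

theorem h0_iter_le_add (C : Crv k X) {L : X.Modules} (hL : PicF.IsInvertible L) (m : ℕ) :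
    ∀ (S : ShortComplex X.Modules), S.ShortExact → FlatMod.IsFinLocFree S.X₁ → FlatMod.IsFinLocFree S.X₂ →
      FlatMod.IsFinLocFree S.X₃ →
      finrank k (Coh.HH X (CohB1.tensorMod (((Scheme.Modules.pullback (FrobSch.frob X p)).obj)^[m] S.X₂) L) 0) ≤
        finrank k (Coh.HH X (CohB1.tensorMod (((Scheme.Modules.pullback (FrobSch.frob X p)).obj)^[m] S.X₁) L) 0) +
        finrank k (Coh.HH X (CohB1.tensorMod (((Scheme.Modules.pullback (FrobSch.frob X p)).obj)^[m] S.X₃) L) 0) := by
  induction m with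
  | zero =>
    intro S hS h1 h2 h3
    simp only [Function.iterate_zero, id]
    exact finrank_tensor_le_add C hL S hS h1 h2 h3
  | succ m ih =>
    intro S hS h1 h2 h3
    have h4 := ih (S.map (Scheme.Modules.pullback (FrobSch.frob X p)))
      (shortExact_pull (FrobSch.frob X p) hS h3) (vb_pull _ h1) (vb_pull _ h2) (vb_pull _ h3)
    simp only [Function.iterate_succ_apply]
    exact h4

theorem exists_bound [IsAlgClosed k] (C : Crv k X) {L : X.Modules} (hL : PicF.IsInvertible L) (n : ℕ) :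
    ∀ (E : X.Modules), FlatMod.IsFinLocFree E → rk E = n → ∃ M : ℕ, ∀ m : ℕ,
      finrank k (Coh.HH X (CohB1.tensorMod (((Scheme.Modules.pullback (FrobSch.frob X p)).obj)^[m] E) L) 0) ≤
        M * p ^ m := by
  have hln := isLocNoeth C
  induction n with
  | zero =>
    intro E hE h0
    refine ⟨0, fun m => ?_⟩
    have h1 := iter_rk p m hE
    have h2 := rk_tensor (rank_one_iff.mpr hL) (coh_of_vb (iter_vb p m hE))
    have h3 := isZero_of_rk_eq_zero C (vb_tensor (iter_vb p m hE) (vb_of_inv hL)) (by rw [h2, h1, h0])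
    have h4 : Subsingleton (Coh.HH X (CohB1.tensorMod (((Scheme.Modules.pullback (FrobSch.frob X p)).obj)^[m] E) L) 0) := by
      rw [← K708.HomH0.forall_unit_hom_eq_zero_iff]
      intro φ
      exact h3.eq_of_tgt _ _
    rw [Module.finrank_zero_of_subsingleton]
    simp
  | succ n ih =>
    intro E hE hn
    obtain ⟨S, hS, rfl, h1, h3, hrk, hdg⟩ := exists_line_sub C hE (by omega)
    obtain ⟨M, hM⟩ := ih _ h3 (by omega)
    refine ⟨(dg k S.X₁).natAbs + (dg k L).natAbs + 1 + M, fun m => ?_⟩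
    have h4 := h0_iter_le_add p C hL m S hS (vb_of_inv h1) hE h3
    have h5 := hM m
    have hi := iter_inv p m h1
    have hT : PicF.IsInvertible (CohB1.tensorMod (((Scheme.Modules.pullback (FrobSch.frob X p)).obj)^[m] S.X₁) L) := by
      rw [← rank_one_iff]
      have h1 := isFinLocFreeOfRank_rk (vb_tensor (vb_of_inv hi) (vb_of_inv hL))
      rwa [rk_tensor (rank_one_iff.mpr hL) (coh_inv hi), rk_inv hi] at h1
    have hd : dg k (CohB1.tensorMod (((Scheme.Modules.pullback (FrobSch.frob X p)).obj)^[m] S.X₁) L) =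
        p ^ m * dg k S.X₁ + dg k L := by
      rw [dg_tensor k C.dim (rank_one_iff.mpr hL) (coh_inv hi), rk_inv hi, iter_dg p C m (vb_of_inv h1)]
      push_cast
      ring
    have hp : (1 : ℤ) ≤ (p : ℤ) ^ m := by
      have : 0 < p ^ m := pow_pos (Fact.out : p.Prime).pos m
      exact_mod_cast this
    have h6 := InvH0.finrank_h0_le C (((dg k S.X₁).natAbs + (dg k L).natAbs + 1) * p ^ m) hT (by
      rw [hd]
      push_cast
      have a1 : dg k S.X₁ ≤ |dg k S.X₁| := le_abs_self _
      have a2 : dg k L ≤ |dg k L| := le_abs_self _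
      have a3 : 0 ≤ |dg k S.X₁| := abs_nonneg _
      have a4 : 0 ≤ |dg k L| := abs_nonneg _
      nlinarith)
    calc _ ≤ _ := h4
      _ ≤ ((dg k S.X₁).natAbs + (dg k L).natAbs + 1) * p ^ m + M * p ^ m := add_le_add h6 h5
      _ = _ := by ring

end K708.FrobH0
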