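import Groth.Agent.VBCurve.K708.DualDeg
import Groth.Agent.VBCurve.K708.Geom

/-!
# Vanishing of Hom and semistability (helper708)

* `euler_hom_nonpos`: if `Hom(E, F) = 0` then `rk E · deg F - rk F · deg E + rk E · rk F · χ(O) ≤ 0`;
* `ss_of_hom_eq_zero`: Faltings' criterion, the easy direction.
-/

set_option autoImplicit false
universe u

open CategoryTheory CategoryTheory.Limits AlgebraicGeometry TopologicalSpace Opposite Module MonoidalCategory

namespace K708.HomVan

open Groth.Agent Groth.Agent.VarietyA.DegRank K707.Base K707.Deg K707.Slope K707.Semi K707.TensL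
open K708.Coho K708.SSH0 K708.PtTwist K708.DualDeg
open scoped Groth.Agent.Dcoh.MonCat

variable {k : Type u} [Field k] {X : Scheme.{u}} [X.Over (Spec (CommRingCat.of k))]
  [IsIntegral X] [IsProper (X ↘ (Spec (CommRingCat.of k)))]

theorem euler_hom_nonpos (C : Crv k X) {E F : X.Modules} (hE : FlatMod.IsFinLocFree E)
    (hF : FlatMod.IsFinLocFree F) (h : ∀ φ : E ⟶ F, φ = 0) :
    rk E * dg k F - rk F * dg k E + rk E * rk F * Curv2.euler k X (Coh.structureModule X) ≤ 0 := by
  obtain ⟨E', ⟨p⟩⟩ := Dcoh.DualFLF.exists_exactPairing hE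
  rw [← euler_hom C hE hF E']
  have h1 := (K708.HomH0.forall_hom_eq_zero_iff E E' F).mp h
  rw [K708.Coho.euler_eq k C.dim.le, Module.finrank_zero_of_subsingleton]
  simp

/-- If `deg E = 0`, `deg F = - rk F · χ(O)` and `Hom(E, F) = 0` then `E` is semistable. -/
theorem ss_of_hom_eq_zero (C : Crv k X) {E F : X.Modules} (hE : FlatMod.IsFinLocFree E)
    (hF : FlatMod.IsFinLocFree F) (hd : dg k E = 0) (hF0 : 0 < rk F)
    (hdF : dg k F = - (rk F * Curv2.euler k X (Coh.structureModule X))) (h : ∀ φ : E ⟶ F, φ = 0) :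
    SS k E := by
  refine ss_of_quot C hE fun Q p hp hQ => ?_
  have h1 : ∀ φ : Q ⟶ F, φ = 0 := fun φ => by
    rw [← cancel_epi p, h (p ≫ φ), comp_zero]
  have h2 := euler_hom_nonpos C hQ hF h1
  have hF0' : (0 : ℤ) < rk F := by exact_mod_cast hF0
  rw [hdF] at h2
  have h3 : 0 ≤ rk F * dg k Q := by nlinarith
  have h4 : 0 ≤ dg k Q := by
    by_contra hc
    push Not at hc
    nlinarith
  rw [hd]
  have : (0 : ℤ) ≤ dg k Q * rk E := by positivity
  simpa using this

end K708.HomVan
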