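import Groth.Agent.VBCurve.K708.CurveMod
import Groth.Agent.VBCurve.K707.EqSlope
import Groth.Agent.FlatMod.K582.RankStrat
import Groth.Agent.Fga.DimCut
import Groth.Agent.Dcoh.FinLocFree

/-!
# Maps between Nori-semistable bundles have constant rank along curves (helper708)
-/

set_option autoImplicit false
universe u

open CategoryTheory CategoryTheory.Limits AlgebraicGeometry TopologicalSpace Opposite Module

namespace K708.NoriCurve

open Groth.Agent Groth.Agent.VarietyA.DegRank K707.Base K707.Deg K707.Slope K707.Semi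

section curve

variable {k : Type u} [Field k] {C : Scheme.{u}} [C.Over (Spec (CommRingCat.of k))]
  [IsIntegral C] [IsProper (C ↘ (Spec (CommRingCat.of k)))]

theorem vb_cokernel (c : Crv k C) {E F : C.Modules} {r r' : ℕ} (hE : FlatMod.IsFinLocFreeOfRank r E)
    (hF : FlatMod.IsFinLocFreeOfRank r' F) (sE : ModFun.IsSlopeSemistable k C E r) (dE : Curv2.deg k C E r = 0)
    (sF : ModFun.IsSlopeSemistable k C F r') (dF : Curv2.deg k C F r' = 0) (f : E ⟶ F) :
    FlatMod.IsFinLocFree (cokernel f) := by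
  rcases Nat.eq_zero_or_pos r with hr | hr
  · have hz : IsZero E := isZero_of_rk_eq_zero c (isFinLocFree_of_rank hE) (by rw [rk_of_rank hE, hr])
    have hf : f = 0 := hz.eq_of_src _ _
    subst hf
    exact Dcoh.FinLocFree.isFinLocFree_of_iso cokernelZeroIsoTarget.symm (isFinLocFree_of_rank hF)
  rcases Nat.eq_zero_or_pos r' with hr' | hr'
  · have hz : IsZero F := isZero_of_rk_eq_zero c (isFinLocFree_of_rank hF) (by rw [rk_of_rank hF, hr'])
    have hz2 : IsZero (cokernel f) := by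
      rw [IsZero.iff_id_eq_zero, ← cancel_epi (cokernel.π f)]
      exact hz.eq_of_src _ _
    exact Dcoh.FinLocFree.isFinLocFree_of_iso (hz.iso hz2) (isFinLocFree_of_rank hF)
  refine (K707.EqSlope.main c (isFinLocFree_of_rank hE) (isFinLocFree_of_rank hF) ?_ ?_ ((ss_iff c hE).mpr sE)
    ((ss_iff c hF).mpr sF) ?_ f).2.1
  · rwa [rk_of_rank hE]
  · rwa [rk_of_rank hF]
  · rw [dg_of_rank k hE, dg_of_rank k hF, dE, dF, zero_mul, zero_mul]

end curve

section base

open Groth.Agent.Sga67.Sec Groth.Agent.Sga67.LocBasis Groth.Agent.Krr.H487.LocBasisPull in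
theorem rank_pullback {X Y : Scheme.{u}} {r : ℕ} (f : X ⟶ Y) {M : Y.Modules}
    (hM : FlatMod.IsFinLocFreeOfRank r M) :
    FlatMod.IsFinLocFreeOfRank r ((Scheme.Modules.pullback f).obj M) := by
  intro x
  obtain ⟨V, hV, e⟩ := hM (f x)
  obtain ⟨b, hb⟩ := nonempty_restrict_iso_iff.mp e
  exact ⟨f ⁻¹ᵁ V, hV, nonempty_restrict_iso_iff.mpr ⟨_, isLocBasis_pbS f hb⟩⟩

variable {k : Type u} [Field k] {X : Scheme.{u}} [X.Over (Spec (CommRingCat.of k))]

/-- Semistable of degree zero along every nonconstant curve. -/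
def Nori (k : Type u) [Field k] {X : Scheme.{u}} [X.Over (Spec (CommRingCat.of k))] (r : ℕ) (E : X.Modules) : Prop :=
  ∀ (C : Scheme.{u}) [C.Over (Spec (CommRingCat.of k))], AlgebraicGeometry.IsIntegral C →
      IsProper (C ↘ Spec (CommRingCat.of k)) → Smooth (C ↘ Spec (CommRingCat.of k)) → topologicalKrullDim C = 1 →
      ∀ (γ : C ⟶ X), γ ≫ (X ↘ Spec (CommRingCat.of k)) = C ↘ Spec (CommRingCat.of k) →
      (Set.range γ.base).Nontrivial →
      ModFun.IsSlopeSemistable k C ((Scheme.Modules.pullback γ).obj E) r ∧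
        Curv2.deg k C ((Scheme.Modules.pullback γ).obj E) r = 0

open K582.RankStrat in
theorem fib_const {C : Scheme.{u}} [C.Over (Spec (CommRingCat.of k))] [IsIntegral C]
    [IsProper (C ↘ Spec (CommRingCat.of k))] [Smooth (C ↘ Spec (CommRingCat.of k))] (hdim : topologicalKrullDim C = 1)
    {E F : X.Modules} {r r' : ℕ} (hE : FlatMod.IsFinLocFreeOfRank r E) (hF : FlatMod.IsFinLocFreeOfRank r' F)
    (hEss : Nori k r E) (hFss : Nori k r' F) (f : E ⟶ F) (hM : Coh.IsQCoh (cokernel f)) (γ : C ⟶ X)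
    (hγ : γ ≫ (X ↘ Spec (CommRingCat.of k)) = C ↘ Spec (CommRingCat.of k)) (c d : C) :
    fib (cokernel f) (γ c) = fib (cokernel f) (γ d) := by
  by_cases hn : (Set.range γ.base).Nontrivial
  · have Cc : Crv k C := Crv.of_smooth hdim
    obtain ⟨s1, d1⟩ := hEss C inferInstance inferInstance inferInstance hdim γ hγ hn
    obtain ⟨s2, d2⟩ := hFss C inferInstance inferInstance inferInstance hdim γ hγ hn
    have h1 := vb_cokernel Cc (r := r) (r' := r') (E := (Scheme.Modules.pullback γ).obj E)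
      (F := (Scheme.Modules.pullback γ).obj F) (rank_pullback γ hE) (rank_pullback γ hF) s1 d1 s2 d2
      ((Scheme.Modules.pullback γ).map f)
    have e : (Scheme.Modules.pullback γ).obj (cokernel f) ≅ cokernel ((Scheme.Modules.pullback γ).map f) :=
      PreservesCokernel.iso _ f
    have h2 := isFinLocFreeOfRank_rk (Dcoh.FinLocFree.isFinLocFree_of_iso e.symm h1)
    have hq := Groth.Agent.FormalA.PullbackQC.isQCoh_pullback γ _ hM
    rw [← fib_pullback _ γ hM c, ← fib_pullback _ γ hM d, fib_eq_of_isFinLocFreeOfRank _ hq h2,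
      fib_eq_of_isFinLocFreeOfRank _ hq h2]
  · rw [Set.not_nontrivial_iff] at hn
    rw [hn ⟨c, rfl⟩ ⟨d, rfl⟩]

open K582.RankStrat in
theorem fib_closure [LocallyOfFiniteType (X ↘ Spec (CommRingCat.of k))]
    {C : Scheme.{u}} [C.Over (Spec (CommRingCat.of k))] [IsIntegral C]
    [IsProper (C ↘ Spec (CommRingCat.of k))] [Smooth (C ↘ Spec (CommRingCat.of k))] (hdim : topologicalKrullDim C = 1)
    {E F : X.Modules} {r r' : ℕ} (hE : FlatMod.IsFinLocFreeOfRank r E) (hF : FlatMod.IsFinLocFreeOfRank r' F)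
    (hEss : Nori k r E) (hFss : Nori k r' F) (f : E ⟶ F) (hM : Coh.IsQCoh (cokernel f)) (γ : C ⟶ X)
    (hγ : γ ≫ (X ↘ Spec (CommRingCat.of k)) = C ↘ Spec (CommRingCat.of k)) (x : X)
    (hx : x ∈ closure (Set.range γ.base)) :
    fib (cokernel f) x = fib (cokernel f) (γ (genericPoint C)) := by
  have hs : γ (genericPoint C) ⤳ x := by
    rw [specializes_iff_mem_closure]
    refine closure_minimal ?_ isClosed_closure hx
    rintro _ ⟨c, rfl⟩
    exact specializes_iff_mem_closure.mp ((genericPoint_specializes c).map γ.continuous)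
  have Cc : Crv k C := Crv.of_smooth hdim
  obtain ⟨γ', h1, h2, c, hc⟩ := K708.CurveMod.exists_mod k C X (fun x hx => by
    rw [Fga.DimCut.ringKrullDim_stalk_eq k C x hx, hdim]) (fun x => by
    have := Cc.pid x
    exact ⟨inferInstance, inferInstance⟩) γ hγ x hs
  rw [← hc, ← h2]
  exact fib_const hdim hE hF hEss hFss f hM γ' h1 c _

theorem const_of_connected {Y : Type*} [TopologicalSpace Y] {n : ℕ} (S : Fin n → Set Y) (hS : _root_.IsConnected (⋃ i, S i))
    (ρ : Y → ℕ) (v : Fin n → ℕ) (h : ∀ i, ∀ y ∈ closure (S i), ρ y = v i) {y z : Y} (hy : y ∈ ⋃ i, S i)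
    (hz : z ∈ ⋃ i, S i) : ρ y = ρ z := by
  have hT : IsPreconnected (⋃ i, closure (S i)) := by
    refine hS.isPreconnected.subset_closure (Set.iUnion_mono fun i => subset_closure) ?_
    exact Set.iUnion_subset fun i => closure_mono (Set.subset_iUnion S i)
  have hc : ContinuousOn ρ (⋃ i, closure (S i)) := by
    rw [continuousOn_iff_isClosed]
    intro t _
    refine ⟨⋃ i : {i : Fin n // v i ∈ t}, closure (S i), isClosed_iUnion_of_finite fun i => isClosed_closure, ?_⟩
    ext y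
    constructor
    · rintro ⟨h1, h2⟩
      refine ⟨?_, h2⟩
      obtain ⟨i, hi⟩ := Set.mem_iUnion.mp h2
      refine Set.mem_iUnion.mpr ⟨⟨i, ?_⟩, hi⟩
      rw [← h i y hi]
      exact h1
    · rintro ⟨h1, h2⟩
      refine ⟨?_, h2⟩
      obtain ⟨i, hi⟩ := Set.mem_iUnion.mp h1
      change ρ y ∈ t
      rw [h i y hi]
      exact i.2
  have hsub : (⋃ i, S i) ⊆ ⋃ i, closure (S i) := Set.iUnion_mono fun i => subset_closure
  exact hT.constant hc (hsub hy) (hsub hz)

theorem const_of_closedPoints {Y : Type*} [TopologicalSpace Y] [JacobsonSpace Y] (ρ : Y → ℕ)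
    (ho : ∀ n, IsOpen {y | ρ y ≤ n}) (h : ∀ y z : Y, IsClosed ({y} : Set Y) → IsClosed ({z} : Set Y) → ρ y = ρ z)
    (y z : Y) : ρ y = ρ z := by
  have key : ∀ y : Y, ∃ c : Y, IsClosed ({c} : Set Y) ∧ ρ y = ρ c := by
    intro y
    have h1 : IsLocallyClosed (closure {y} ∩ {z | ρ z ≤ ρ y}) :=
      isClosed_closure.isLocallyClosed.inter (ho _).isLocallyClosed
    obtain ⟨c, ⟨hc1, hc2⟩, hc⟩ := nonempty_inter_closedPoints (Z := closure {y} ∩ {z | ρ z ≤ ρ y})
      ⟨y, subset_closure rfl, le_refl (ρ y)⟩ h1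
    refine ⟨c, hc, le_antisymm ?_ hc2⟩
    have h3 : y ⤳ c := specializes_iff_mem_closure.mpr hc1
    exact h3.mem_open (ho (ρ c)) (le_refl (ρ c))
  obtain ⟨c, hc, h1⟩ := key y
  obtain ⟨d, hd, h2⟩ := key z
  rw [h1, h2, h c d hc hd]

end base

end K708.NoriCurve
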