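import Groth.Agent.VBCurve.K708.PtTwist
import Groth.Agent.PerfSch.K818.FrobPow
import Groth.Agent.PerfB.FibreConc
import Groth.Agent.Krr.H496.PullK0

/-!
# Frobenius pullback of bundles on curves (helper708)

* `pull_add`: additivity of `dg` of pullbacks along an arbitrary endomorphism on exact sequences of bundles;
* `dg_frob`: `deg F^* E = p · deg E`; `dg_frob_iter`.
-/

set_option autoImplicit false
universe u

open CategoryTheory CategoryTheory.Limits AlgebraicGeometry TopologicalSpace Opposite Module

namespace K708.FrobPull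

open Groth.Agent Groth.Agent.VarietyA.DegRank K707.Base K707.Deg K707.Slope K707.Semi K707.TensL K708.Coho K708.SSH0
open K708.PtTwist

section

variable {X Y : Scheme.{u}} (f : X ⟶ Y)

theorem vb_pull {E : Y.Modules} (hE : FlatMod.IsFinLocFree E) :
    FlatMod.IsFinLocFree ((Scheme.Modules.pullback f).obj E) := PerfB.FlatPull.isFinLocFree_pullback f hE

theorem rank_pull {r : ℕ} {E : Y.Modules} (hE : FlatMod.IsFinLocFreeOfRank r E) :
    FlatMod.IsFinLocFreeOfRank r ((Scheme.Modules.pullback f).obj E) :=
  PerfB.FibreConc.isFinLocFreeOfRank_pullback f hE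

theorem inv_pull {E : Y.Modules} (hE : PicF.IsInvertible E) :
    PicF.IsInvertible ((Scheme.Modules.pullback f).obj E) :=
  rank_one_iff.mp (rank_pull f (rank_one_iff.mpr hE))

theorem shortExact_pull {S : ShortComplex Y.Modules} (hS : S.ShortExact) (h₃ : FlatMod.IsFinLocFree S.X₃) :
    (S.map (Scheme.Modules.pullback f)).ShortExact :=
  Krr.H496.PullK0.shortExact_pullback_of_isFinLocFree f hS h₃

theorem rk_pull [IrreducibleSpace X] [IrreducibleSpace Y] {E : Y.Modules} (hE : FlatMod.IsFinLocFree E) :
    rk ((Scheme.Modules.pullback f).obj E) = rk E :=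
  rk_of_rank (rank_pull f (isFinLocFreeOfRank_rk hE))

end

/-- If `deg f^*N = δ · deg N` for invertible modules then the same holds for all bundles. -/
theorem dg_pull_of_inv {k k' : Type u} [Field k] [Field k'] {X Y : Scheme.{u}} [X.Over (Spec (CommRingCat.of k'))]
    [Y.Over (Spec (CommRingCat.of k))] [IsIntegral X] [IsIntegral Y] [IsProper (X ↘ (Spec (CommRingCat.of k')))]
    [IsProper (Y ↘ (Spec (CommRingCat.of k)))] (C : Crv k Y) (C' : Crv k' X) (f : X ⟶ Y) (δ : ℤ)
    (h : ∀ N : Y.Modules, PicF.IsInvertible N → dg k' ((Scheme.Modules.pullback f).obj N) = δ * dg k N) (n : ℕ) :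
    ∀ E : Y.Modules, FlatMod.IsFinLocFree E → rk E = n →
      dg k' ((Scheme.Modules.pullback f).obj E) = δ * dg k E := by
  induction n with
  | zero =>
    intro E hE h0
    rw [dg_of_vb_of_rk_eq_zero C hE h0, dg_of_vb_of_rk_eq_zero C' (vb_pull f hE) (by rw [rk_pull f hE, h0])]
    simp
  | succ n ih =>
    intro E hE hn
    obtain ⟨S, hS, rfl, h1, h3, hrk, hdg⟩ := exists_line_sub C hE (by omega)
    have hS' := shortExact_pull f hS h3
    have h4 := dg_add k' _ hS' (coh_of_vb (vb_pull f (vb_of_inv h1))) (coh_of_vb (vb_pull f hE))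
      (coh_of_vb (vb_pull f h3))
    change dg k' ((Scheme.Modules.pullback f).obj S.X₂) = dg k' ((Scheme.Modules.pullback f).obj S.X₁) +
      dg k' ((Scheme.Modules.pullback f).obj S.X₃) at h4
    rw [h4, h _ h1, ih _ h3 (by omega), hdg]
    ring

section

variable {k : Type u} [Field k] {X : Scheme.{u}} [X.Over (Spec (CommRingCat.of k))]
  [IsIntegral X] [IsProper (X ↘ (Spec (CommRingCat.of k)))] (p : ℕ) [Fact p.Prime] [FrobSch.IsCharP X p]

/-- Frobenius pullback multiplies degrees by `p`. -/
theorem dg_frob (C : Crv k X) {E : X.Modules} (hE : FlatMod.IsFinLocFree E) :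
    dg k ((Scheme.Modules.pullback (FrobSch.frob X p)).obj E) = p * dg k E := by
  refine dg_pull_of_inv C C (FrobSch.frob X p) p (fun N hN => ?_) _ E hE rfl
  obtain ⟨e⟩ := K818.FrobPow.nonempty_pullback_frob_iso (p := p) hN
  rw [dg_iso k e, (inv_pow C hN p).2]

omit [IsProper (X ↘ (Spec (CommRingCat.of k)))] in
theorem iter_vb (n : ℕ) : ∀ {E : X.Modules}, FlatMod.IsFinLocFree E →
    FlatMod.IsFinLocFree (((Scheme.Modules.pullback (FrobSch.frob X p)).obj)^[n] E) := by
  induction n with
  | zero => exact fun h => h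
  | succ n ih => exact fun h => ih (vb_pull _ h)

theorem iter_inv (n : ℕ) : ∀ {E : X.Modules}, PicF.IsInvertible E →
    PicF.IsInvertible (((Scheme.Modules.pullback (FrobSch.frob X p)).obj)^[n] E) := by
  induction n with
  | zero => exact fun h => h
  | succ n ih => exact fun h => ih (inv_pull _ h)

theorem iter_rk (n : ℕ) : ∀ {E : X.Modules}, FlatMod.IsFinLocFree E →
    rk (((Scheme.Modules.pullback (FrobSch.frob X p)).obj)^[n] E) = rk E := by
  induction n with
  | zero => exact fun h => rfl
  | succ n ih => exact fun h => (ih (vb_pull _ h)).trans (rk_pull _ h)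

theorem iter_dg (C : Crv k X) (n : ℕ) : ∀ {E : X.Modules}, FlatMod.IsFinLocFree E →
    dg k (((Scheme.Modules.pullback (FrobSch.frob X p)).obj)^[n] E) = p ^ n * dg k E := by
  induction n with
  | zero => exact fun h => by simp
  | succ n ih =>
    intro E h
    rw [Function.iterate_succ_apply, ih (vb_pull _ h), dg_frob p C h]
    ring

end

end K708.FrobPull
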