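import Groth.Agent.VBCurve.K707.Semi
import Groth.Agent.PerfSch.K818.Tower
import Mathlib.LinearAlgebra.Dimension.Basic

/-!
# Changing the structure morphism by an automorphism of the base field (helper708)
-/

set_option autoImplicit false
universe u

open CategoryTheory CategoryTheory.Limits AlgebraicGeometry TopologicalSpace Opposite Module

namespace K708.TwistK

open Groth.Agent Groth.Agent.VarietyA.DegRank K707.Base K707.Deg K707.Slope K707.Semi

variable {k : Type u} [Field k] {X : Scheme.{u}} (s : X ⟶ Spec (CommRingCat.of k))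
  (φ : Spec (CommRingCat.of k) ⟶ Spec (CommRingCat.of k)) [IsIso φ]

/-- The ring map of `φ`. -/
noncomputable def beta : k →+* k :=
  ((Scheme.ΓSpecIso (CommRingCat.of k)).inv ≫ φ.appTop ≫ (Scheme.ΓSpecIso (CommRingCat.of k)).hom).hom

theorem beta_bijective : Function.Bijective (beta φ) := by
  have h1 : IsIso φ.appTop := inferInstanceAs (IsIso (φ.app ⊤))
  have h2 : IsIso (φ.appTop ≫ (Scheme.ΓSpecIso (CommRingCat.of k)).hom) := IsIso.comp_isIso' h1 inferInstance
  have h3 : IsIso ((Scheme.ΓSpecIso (CommRingCat.of k)).inv ≫ φ.appTop ≫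
      (Scheme.ΓSpecIso (CommRingCat.of k)).hom) := IsIso.comp_isIso' inferInstance h2
  exact ConcreteCategory.bijective_of_isIso
    ((Scheme.ΓSpecIso (CommRingCat.of k)).inv ≫ φ.appTop ≫ (Scheme.ΓSpecIso (CommRingCat.of k)).hom)

omit [IsIso φ] in
theorem toGlobal_comp (c : k) : Coh.toGlobal (s ≫ φ) c = Coh.toGlobal s (beta φ c) := by
  have h1 : (Scheme.ΓSpecIso (CommRingCat.of k)).inv ≫ (s ≫ φ).appTop =
      ((Scheme.ΓSpecIso (CommRingCat.of k)).inv ≫ φ.appTop ≫ (Scheme.ΓSpecIso (CommRingCat.of k)).hom) ≫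
        ((Scheme.ΓSpecIso (CommRingCat.of k)).inv ≫ s.appTop) := by
    simp
  exact congrArg (fun ψ : CommRingCat.of k ⟶ Γ(X, ⊤) => ψ.hom c) h1

/-- Dimensions of cohomology do not change. -/
theorem finrank_twist (M : X.Modules) (n : ℕ) :
    @finrank k (Coh.HH X M n) _ _ (@Coh.moduleOver k _ X ⟨s ≫ φ⟩ M n) =
      @finrank k (Coh.HH X M n) _ _ (@Coh.moduleOver k _ X ⟨s⟩ M n) := by
  let i1 : Module k (Coh.HH X M n) := @Coh.moduleOver k _ X ⟨s ≫ φ⟩ M n
  let i2 : Module k (Coh.HH X M n) := @Coh.moduleOver k _ X ⟨s⟩ M n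
  have h : @Module.rank k (Coh.HH X M n) _ _ i1 = @Module.rank k (Coh.HH X M n) _ _ i2 := by
    refine @rank_eq_of_equiv_equiv k k (Coh.HH X M n) (Coh.HH X M n) _ _ i1 _ _ i2 (beta φ) (AddEquiv.refl _)
      (beta_bijective φ) ?_
    intro c m
    exact congrArg (fun t : Coh.Γtop X => t • m) (toGlobal_comp s φ c)
  exact congrArg Cardinal.toNat h

theorem euler_twist (M : X.Modules) :
    @Curv2.euler k _ X ⟨s ≫ φ⟩ M = @Curv2.euler k _ X ⟨s⟩ M := by
  unfold Curv2.euler
  exact finsum_congr fun n => by rw [finrank_twist]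

theorem deg_twist (M : X.Modules) (r : ℕ) :
    @Curv2.deg k _ X ⟨s ≫ φ⟩ M r = @Curv2.deg k _ X ⟨s⟩ M r := by
  unfold Curv2.deg
  rw [euler_twist, euler_twist]

theorem dg_twist [IrreducibleSpace X] (M : X.Modules) : @dg k _ X ⟨s ≫ φ⟩ _ M = @dg k _ X ⟨s⟩ _ M := by
  unfold dg
  rw [euler_twist, euler_twist]

theorem iss_twist (M : X.Modules) (r : ℕ) :
    @ModFun.IsSlopeSemistable k _ X ⟨s ≫ φ⟩ M r ↔ @ModFun.IsSlopeSemistable k _ X ⟨s⟩ M r := by
  unfold ModFun.IsSlopeSemistable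
  refine forall_congr' fun F => forall_congr' fun r' => forall_congr' fun i => forall_congr' fun _ =>
    forall_congr' fun _ => forall_congr' fun _ => ?_
  rw [deg_twist, deg_twist]

theorem ss_twist [IsIntegral X] (M : X.Modules) : @SS k _ X ⟨s ≫ φ⟩ _ M ↔ @SS k _ X ⟨s⟩ _ M := by
  unfold SS
  refine forall_congr' fun F => forall_congr' fun i => forall_congr' fun _ => forall_congr' fun _ => ?_
  rw [dg_twist, dg_twist]

end K708.TwistK
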