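import Groth.Agent.VBCurve.K708.Pull
import Groth.Agent.VBCurve.K708.TwistK
import Groth.Agent.Variety.K430.Frob
import Mathlib.FieldTheory.PurelyInseparable.Exponent

/-!
# Strongly semistable bundles: inseparable covers (helper708)
-/

set_option autoImplicit false
universe u

open CategoryTheory CategoryTheory.Limits AlgebraicGeometry TopologicalSpace Opposite Module

namespace K708.Strong

open Groth.Agent Groth.Agent.VarietyA.DegRank K707.Base K707.Deg K707.Slope K707.Semi K705.Cov K708.GenMap
open K705.GenGal K708.PullGal K708.GalCov K708.Pull K708.TwistK FrobSch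

attribute [local instance] Curv2.stalkAlgebra

section field

/-- A finite extension is separable followed by purely inseparable. -/
theorem exists_sep_decomp (K L : Type u) [Field K] [Field L] [Algebra K L] [FiniteDimensional K L] (p : ℕ)
    [Fact p.Prime] [CharP K p] :
    ∃ (N : Type u) (_ : Field N) (_ : Algebra K N) (j : N →+* L) (m : ℕ) (ψ : L →+* N),
      FiniteDimensional K N ∧ Algebra.IsSeparable K N ∧ (∀ x : K, j (algebraMap K N x) = algebraMap K L x) ∧
        ∀ x : L, j (ψ x) = x ^ p ^ m := by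
  have : CharP (separableClosure K L) p := charP_of_injective_algebraMap (algebraMap K (separableClosure K L)).injective p
  have : ExpChar (separableClosure K L) p := ExpChar.prime Fact.out
  have := separableClosure.isPurelyInseparable K L
  refine ⟨separableClosure K L, inferInstance, inferInstance, algebraMap _ L, _,
    IsPurelyInseparable.iterateFrobenius (separableClosure K L) L p le_rfl, inferInstance, inferInstance, fun _ => rfl,
    fun x => IsPurelyInseparable.algebraMap_iterateFrobenius (separableClosure K L) p le_rfl x⟩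

end field

variable {k : Type u} [Field k]

/-- The curve of a finite extension of a function field. -/
theorem exists_curve [PerfectField k] {X : Scheme.{u}} [X.Over (Spec (CommRingCat.of k))] [IsIntegral X]
    [IsProper (X ↘ (Spec (CommRingCat.of k)))] (C : Crv k X) (N : Type u) [Field N]
    [Algebra (X.presheaf.stalk (genericPoint X)) N]
    [Module.Finite (X.presheaf.stalk (genericPoint X)) N] :
    ∃ (Z : Scheme.{u}) (_ : Z.Over (Spec (CommRingCat.of k))) (_ : IsIntegral Z)
      (_ : IsProper (Z ↘ (Spec (CommRingCat.of k)))) (_ : Smooth (Z ↘ (Spec (CommRingCat.of k)))),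
      Pi1.IsNormalScheme Z ∧ (∀ x : Z, IsClosed ({x} : Set Z) → ringKrullDim (Z.presheaf.stalk x) = 1) ∧
      topologicalKrullDim Z = 1 ∧ ∃ e : Z.presheaf.stalk (genericPoint Z) ≃+* N,
        ∀ c, Curv2.stalkMap k Z (genericPoint Z) c =
          e.symm (algebraMap (X.presheaf.stalk (genericPoint X)) N (Curv2.stalkMap k X (genericPoint X) c)) := by
  let _ : Field (X.presheaf.stalk (genericPoint X)) := inferInstanceAs (Field X.functionField)
  let _ : Algebra k N := ((algebraMap (X.presheaf.stalk (genericPoint X)) N).comp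
    (Curv2.stalkMap k X (genericPoint X))).toAlgebra
  have : IsScalarTower k (X.presheaf.stalk (genericPoint X)) N := IsScalarTower.of_algebraMap_eq fun c => rfl
  have hess : Algebra.EssFiniteType k (X.presheaf.stalk (genericPoint X)) :=
    IntermediateField.fg_top_iff.mp (Ega2.CurveFF.fg_top k X)
  have hess' : Algebra.EssFiniteType k N := Algebra.EssFiniteType.comp k (X.presheaf.stalk (genericPoint X)) N
  have htrX : Algebra.trdeg k (X.presheaf.stalk (genericPoint X)) = 1 := by
    have h1 := VarietyB.DimSch.topologicalKrullDim_eq_trd k (X := X)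
    rw [C.dim] at h1
    have h2 : VarietyB.DimSch.trd k X (genericPoint X) = 1 := by exact_mod_cast h1.symm
    rw [Ega2.CurveFF.trdeg_stalk_genericPoint, h2, Nat.cast_one]
  have htr : Algebra.trdeg k N = 1 := by
    have h1 := trdeg_add_eq k (X.presheaf.stalk (genericPoint X)) (A := N)
    rw [htrX, trdeg_eq_zero, add_zero] at h1
    exact h1.symm
  obtain ⟨Z, hZo, hZi, hZp, hZn, hZd, e, he⟩ := S2345.result k N (IntermediateField.fg_top k N) htr
  have hZs := Gaga.H565.CurveOfDomain.smoothOfRelativeDimension_one k Z hZn hZd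
  have hZs' : Smooth (Z ↘ (Spec (CommRingCat.of k))) := hZs.smooth
  have hZnoe : IsNoetherian Z := isNoetherian k (X := Z)
  have hZdim : topologicalKrullDim Z = 1 := by
    rw [VarietyB.DimSch.topologicalKrullDim_eq_trd k, Groth.Agent.Ega2.NormalCompl.trd_eq_one k hZd]
    rfl
  refine ⟨Z, hZo, hZi, hZp, hZs', hZn, hZd, hZdim, e, fun c => ?_⟩
  apply e.injective
  rw [RingEquiv.apply_symm_apply]
  exact he c

theorem stalkMap_twist {Z : Scheme.{u}} (s : Z ⟶ Spec (CommRingCat.of k))
    (φ : Spec (CommRingCat.of k) ⟶ Spec (CommRingCat.of k)) (x : Z) (c : k) :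
    @Curv2.stalkMap k _ Z ⟨s ≫ φ⟩ x c = @Curv2.stalkMap k _ Z ⟨s⟩ x (beta φ c) :=
  congrArg (Z.presheaf.germ ⊤ x trivial) (toGlobal_comp s φ c)

/-- Descent of semistability along a cover of a twist. -/
theorem ss_of_pull_twist {Z D : Scheme.{u}} (s : Z ⟶ Spec (CommRingCat.of k)) [D.Over (Spec (CommRingCat.of k))]
    [IsIntegral Z] [IsIntegral D] [IsProper s] [IsProper (D ↘ (Spec (CommRingCat.of k)))]
    (φ : Spec (CommRingCat.of k) ⟶ Spec (CommRingCat.of k)) [IsIso φ] (cZ : @Crv k _ Z ⟨s⟩) (cD : Crv k D)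
    (u : Z ⟶ D) (hu : u ≫ (D ↘ (Spec (CommRingCat.of k))) = s ≫ φ)
    (hη : u (genericPoint Z) = genericPoint D) {E : D.Modules}
    (hE : FlatMod.IsFinLocFree E) (hss : @SS k _ Z ⟨s⟩ _ ((Scheme.Modules.pullback u).obj E)) : SS k E := by
  have hZd := @Crv.dim k _ Z ⟨s⟩ cZ
  have hZp := @Crv.pid k _ Z ⟨s⟩ cZ
  let _ : Z.Over (Spec (CommRingCat.of k)) := ⟨s ≫ φ⟩
  have : IsProper (Z ↘ (Spec (CommRingCat.of k))) := inferInstanceAs (IsProper (s ≫ φ))
  have cZ' : Crv k Z := ⟨hZd, hZp⟩
  have hdom := isDominant_of u hη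
  have hfin : IsFinite u := S7640.isFinite_of_nonconstant k Z D cZ'.dim cD.dim u hu hη
  obtain ⟨n, h⟩ := exists_isCov u hu cZ' cD
  exact ss_of_pull h hE ((ss_twist s φ _).mpr hss)

section char
variable (p : ℕ) [Fact p.Prime]

omit [Fact p.Prime] in
theorem beta_comp (a b : Spec (CommRingCat.of k) ⟶ Spec (CommRingCat.of k)) (c : k) :
    beta (a ≫ b) c = beta a (beta b c) := by
  have h1 : (Scheme.ΓSpecIso (CommRingCat.of k)).inv ≫ (a ≫ b).appTop ≫ (Scheme.ΓSpecIso (CommRingCat.of k)).hom =
      ((Scheme.ΓSpecIso (CommRingCat.of k)).inv ≫ b.appTop ≫ (Scheme.ΓSpecIso (CommRingCat.of k)).hom) ≫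
      ((Scheme.ΓSpecIso (CommRingCat.of k)).inv ≫ a.appTop ≫ (Scheme.ΓSpecIso (CommRingCat.of k)).hom) := by
    rw [Scheme.Hom.comp_appTop]
    simp only [Category.assoc, Iso.hom_inv_id_assoc]
  exact congrArg (fun ψ : CommRingCat.of k ⟶ CommRingCat.of k => ψ.hom c) h1

theorem beta_frob [CharP k p] (c : k) : beta (frob (Spec (CommRingCat.of k)) p) c = c ^ p := by
  change (Scheme.ΓSpecIso (CommRingCat.of k)).hom.hom
    (((Scheme.ΓSpecIso (CommRingCat.of k)).inv.hom c) ^ p) = c ^ p
  rw [map_pow]
  congr 1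
  exact congrArg (fun ψ : CommRingCat.of k ⟶ CommRingCat.of k => ψ.hom c)
    (Scheme.ΓSpecIso (CommRingCat.of k)).inv_hom_id

theorem beta_frobIter [CharP k p] (m : ℕ) (c : k) :
    beta (frobIter (Spec (CommRingCat.of k)) p m) c = c ^ p ^ m := by
  induction m with
  | zero =>
    rw [frobIter_zero, pow_zero, pow_one]
    change (Scheme.ΓSpecIso (CommRingCat.of k)).hom.hom
      ((Scheme.Hom.appTop (𝟙 (Spec (CommRingCat.of k)))).hom ((Scheme.ΓSpecIso (CommRingCat.of k)).inv.hom c)) = c
    rw [Scheme.Hom.id_appTop]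
    exact congrArg (fun ψ : CommRingCat.of k ⟶ CommRingCat.of k => ψ.hom c)
      (Scheme.ΓSpecIso (CommRingCat.of k)).inv_hom_id
  | succ m ih => rw [frobIter_succ, beta_comp, beta_frob, ih, ← pow_mul, pow_succ]

theorem gmap_frob {X : Scheme.{u}} [IsIntegral X] [FrobSch.IsCharP X p]
    (h : (frob X p) (genericPoint X) = genericPoint X) (x : X.presheaf.stalk (genericPoint X)) :
    gmap (frob X p) h x = x ^ p := by
  obtain ⟨U, hU, s, rfl⟩ := X.presheaf.exists_germ_eq x
  change ((frob X p).stalkMap (genericPoint X)).hom (X.presheaf.stalkSpecializes (specializes_of_eq h)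
    (X.presheaf.germ U (genericPoint X) hU s)) = _
  rw [TopCat.Presheaf.germ_stalkSpecializes_apply]
  exact K430.Frob.frob_stalkMap X p (genericPoint X) _

theorem gmap_frobIter {X : Scheme.{u}} [IsIntegral X] [FrobSch.IsCharP X p] (m : ℕ)
    (h : (frobIter X p m) (genericPoint X) = genericPoint X) (x : X.presheaf.stalk (genericPoint X)) :
    gmap (frobIter X p m) h x = x ^ p ^ m := by
  induction m with
  | zero =>
    rw [pow_zero, pow_one]
    have h1 := gmap_id (X := X) rfl
    exact congrArg (fun ψ : X.presheaf.stalk (genericPoint X) →+* X.presheaf.stalk (genericPoint X) => ψ x) h1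
  | succ m ih =>
    have h0 : (frob X p) (genericPoint X) = genericPoint X := rfl
    have h1 : (frobIter X p m) (genericPoint X) = genericPoint X := h
    have h2 : gmap (frobIter X p (m + 1)) h = (gmap (frob X p) h0).comp (gmap (frobIter X p m) h1) :=
      gmap_comp (frob X p) (frobIter X p m) h0 h1 h
    rw [h2, RingHom.comp_apply, gmap_frob p h0, ih h1, ← pow_mul, pow_succ]

theorem frobIter_apply {X : Scheme.{u}} [FrobSch.IsCharP X p] (m : ℕ) (x : X) : (frobIter X p m) x = x := by
  induction m with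
  | zero => rfl
  | succ m ih =>
    rw [frobIter_succ, Scheme.Hom.comp_apply]
    exact ih

theorem nonempty_iter_iso {X : Scheme.{u}} [FrobSch.IsCharP X p] (n : ℕ) : ∀ (E : X.Modules),
    Nonempty (((Scheme.Modules.pullback (FrobSch.frob X p)).obj)^[n] E ≅
      (Scheme.Modules.pullback (frobIter X p n)).obj E) := by
  induction n with
  | zero => exact fun E => ⟨((Scheme.Modules.pullbackId X).app E).symm⟩
  | succ n ih =>
    intro E
    obtain ⟨e⟩ := ih ((Scheme.Modules.pullback (FrobSch.frob X p)).obj E)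
    rw [Function.iterate_succ_apply]
    exact ⟨e ≪≫ (Scheme.Modules.pullbackComp (frobIter X p n) (frob X p)).app E ≪≫
      (Scheme.Modules.pullbackCongr (K818.Tower.frobIter_succ' X n).symm).app E⟩

theorem isIso_frobIter_spec [PerfectField k] [CharP k p] (m : ℕ) :
    IsIso (frobIter (Spec (CommRingCat.of k)) p m) := by
  have : PerfectRing k p := PerfectField.toPerfectRing p
  refine K818.Tower.isIso_frobIter ?_ m
  exact K818.Basic.isPerfect_spec (K818.Ring.PerfRing.of_perfectRing)

/-- Pullback of a strongly semistable bundle. -/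
theorem ss_pull_of_strong [PerfectField k] [CharP k p] {C D : Scheme.{u}} [C.Over (Spec (CommRingCat.of k))]
    [D.Over (Spec (CommRingCat.of k))] [IsIntegral C] [IsProper (C ↘ (Spec (CommRingCat.of k)))]
    [IsIntegral D] [IsProper (D ↘ (Spec (CommRingCat.of k)))] [FrobSch.IsCharP C p] {γ : D ⟶ C} {n : ℕ}
    (h : IsCov k γ n) (hγ : γ (genericPoint D) = genericPoint C) {E : C.Modules} (hE : FlatMod.IsFinLocFree E)
    (hss : ∀ m, SS k ((Scheme.Modules.pullback (frobIter C p m)).obj E)) :
    SS k ((Scheme.Modules.pullback γ).obj E) := by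
  let _ : Field (C.presheaf.stalk (genericPoint C)) := inferInstanceAs (Field C.functionField)
  let _ : Field (D.presheaf.stalk (genericPoint D)) := inferInstanceAs (Field D.functionField)
  let _ := (gmap γ hγ).toAlgebra
  have hfd : FiniteDimensional (C.presheaf.stalk (genericPoint C)) (D.presheaf.stalk (genericPoint D)) :=
    Module.finite_of_finrank_pos (by rw [finrank_gmap h hγ]; exact pos_of h)
  have hch : CharP (C.presheaf.stalk (genericPoint C)) p :=
    charP_of_injective_ringHom (Curv2.stalkMap k C (genericPoint C)).injective p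
  obtain ⟨N, _, _, j, m, ψ, _, hsep, hj, hψ⟩ := exists_sep_decomp (C.presheaf.stalk (genericPoint C))
    (D.presheaf.stalk (genericPoint D)) p
  obtain ⟨Z, hZo, hZi, hZp, hZs, hZn, hZd, hZdim, e, he⟩ := exists_curve h.crvY N
  have cZ : Crv k Z := Crv.of_smooth hZdim
  -- the separable map
  obtain ⟨s, ⟨hs1, hs2, hs3⟩, -⟩ := K33.CurveMap.existsUnique k Z C hZd hZn (CommRingCat.ofHom
    ((e.symm : N →+* Z.presheaf.stalk (genericPoint Z)).comp
      (algebraMap (C.presheaf.stalk (genericPoint C)) N))) (fun c => (he c).symm)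
  have hs4 : gmap s hs2 = (e.symm : N →+* Z.presheaf.stalk (genericPoint Z)).comp
      (algebraMap (C.presheaf.stalk (genericPoint C)) N) := congrArg CommRingCat.Hom.hom hs3
  have hdoms := isDominant_of s hs2
  have hfins := S7640.isFinite_of_nonconstant k Z C hZdim h.crvY.dim s hs1 hs2
  obtain ⟨ns, hs⟩ := exists_isCov s hs1 cZ h.crvY
  have hseps : @Algebra.IsSeparable (C.presheaf.stalk (genericPoint C)) (Z.presheaf.stalk (genericPoint Z)) _ _
      (gmap s hs2).toAlgebra := by
    let _ := (gmap s hs2).toAlgebra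
    refine Algebra.IsSeparable.of_equiv_equiv (RingEquiv.refl (C.presheaf.stalk (genericPoint C))) e.symm ?_
    ext x
    change gmap s hs2 x = e.symm (algebraMap _ N x)
    rw [hs4]
    rfl
  have hS := ss_pull_sep hs hs2 hseps (vb_pull (f := frobIter C p m) hE).1 (hss m)
  -- the map to `D`
  have hiso := isIso_frobIter_spec (k := k) p m
  have hψ' : ∀ x, ψ (gmap γ hγ x) = (algebraMap (C.presheaf.stalk (genericPoint C)) N x) ^ p ^ m := by
    intro x
    apply j.injective
    rw [hψ, map_pow, hj]
    rfl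
  have hl : LocallyOfFiniteType ((Z ↘ (Spec (CommRingCat.of k))) ≫ frobIter (Spec (CommRingCat.of k)) p m) :=
    inferInstance
  have hq : QuasiCompact ((Z ↘ (Spec (CommRingCat.of k))) ≫ frobIter (Spec (CommRingCat.of k)) p m) :=
    inferInstance
  have hsp : IsSeparated ((Z ↘ (Spec (CommRingCat.of k))) ≫ frobIter (Spec (CommRingCat.of k)) p m) :=
    inferInstance
  obtain ⟨v, ⟨hv1, hv2, hv3⟩, -⟩ := @K33.CurveMap.existsUnique k _ Z D
    ⟨(Z ↘ (Spec (CommRingCat.of k))) ≫ frobIter (Spec (CommRingCat.of k)) p m⟩ hl hq hsp _ hZd hZn _ _ _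
    (CommRingCat.ofHom ((e.symm : N →+* Z.presheaf.stalk (genericPoint Z)).comp ψ)) (by
      intro c
      rw [stalkMap_twist]
      refine Eq.trans ?_ (he _).symm
      rw [beta_frobIter, map_pow, map_pow, ← hψ', gmap_stalkMap k γ h.ov hγ]
      rfl)
  have hv1' : v ≫ (D ↘ (Spec (CommRingCat.of k))) =
    (Z ↘ (Spec (CommRingCat.of k))) ≫ frobIter (Spec (CommRingCat.of k)) p m := hv1
  have hv4 : gmap v hv2 = (e.symm : N →+* Z.presheaf.stalk (genericPoint Z)).comp ψ :=
    congrArg CommRingCat.Hom.hom hv3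
  have h1 : (v ≫ γ) (genericPoint Z) = genericPoint C := by
    rw [Scheme.Hom.comp_apply]
    exact (congrArg γ hv2).trans hγ
  have hF : (frobIter C p m) (genericPoint C) = genericPoint C := frobIter_apply p m _
  have h2 : (s ≫ frobIter C p m) (genericPoint Z) = genericPoint C := by
    rw [Scheme.Hom.comp_apply]
    exact (congrArg (frobIter C p m) hs2).trans hF
  have hcomm : v ≫ γ = s ≫ frobIter C p m := by
    refine eq_of_gmap (C ↘ (Spec (CommRingCat.of k))) ?_ h1 h2 ?_
    · rw [Category.assoc, h.ov, hv1', Category.assoc, K818.Tower.frobIter_naturality, ← Category.assoc, hs1]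
    · rw [gmap_comp v γ hv2 hγ, gmap_comp s (frobIter C p m) hs2 hF, hv4, hs4]
      ext x
      change e.symm (ψ (gmap γ hγ x)) = e.symm (algebraMap _ N (gmap (frobIter C p m) hF x))
      rw [hψ', gmap_frobIter]
      simp only [map_pow]
  have e' : (Scheme.Modules.pullback s).obj ((Scheme.Modules.pullback (frobIter C p m)).obj E) ≅
      (Scheme.Modules.pullback v).obj ((Scheme.Modules.pullback γ).obj E) :=
    (Scheme.Modules.pullbackComp s (frobIter C p m)).app E ≪≫
      (Scheme.Modules.pullbackCongr hcomm.symm).app E ≪≫ ((Scheme.Modules.pullbackComp v γ).app E).symm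
  have hS' := ss_iso e' hS
  exact ss_of_pull_twist (Z ↘ (Spec (CommRingCat.of k)))
    (frobIter (Spec (CommRingCat.of k)) p m) cZ h.crvX v hv1' hv2 (vb_pull (f := γ) hE).1 hS'

end char

end K708.Strong
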