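import Groth.Agent.VBCurve.K708.CompQuot
import Groth.Agent.DecSh.K987.GG

/-!
# Bounded families and slopes of quotients (helper708)
-/

set_option autoImplicit false
universe u

open CategoryTheory CategoryTheory.Limits AlgebraicGeometry TopologicalSpace Opposite Module

namespace K708.Bounded

open Groth.Agent Scheme.Modules K706.Clopen K706.DimOne K706.CompSS K706.CompTens K707.Base K707.Deg K707.Slope K707.Semi
open Groth.Agent.VarietyA.DegRank K708.CompQuot K708.Untwist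

theorem abs_div_le (x y : ℤ) : |(x : ℚ) / (y : ℚ)| ≤ |(x : ℚ)| := by
  by_cases hy : y = 0
  · subst hy
    simp
  · rw [abs_div]
    refine div_le_self (abs_nonneg _) ?_
    have : (1 : ℤ) ≤ |y| := Int.one_le_abs hy
    exact_mod_cast this

theorem ineq {C b c₀ n x y : ℤ} {z : ℤ} (hy : 0 < y) (h1 : (C : ℚ) ≤ (x : ℚ) / (y : ℚ) - (c₀ : ℚ) / (z : ℚ))
    (h2 : x ≤ b - n * y) (hb : 0 ≤ b) : n ≤ b + |c₀| - C := by
  have h3 := neg_abs_le ((c₀ : ℚ) / (z : ℚ))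
  have h4 := abs_div_le c₀ z
  have hy' : (0 : ℚ) < y := by exact_mod_cast hy
  have hy1 : (1 : ℚ) ≤ y := by exact_mod_cast hy
  have h5 : (x : ℚ) / y ≤ b - n := by
    rw [div_le_iff₀ hy']
    have h6 : (x : ℚ) ≤ b - n * y := by exact_mod_cast h2
    have h7 : (b : ℚ) ≤ b * y := le_mul_of_one_le_right (by exact_mod_cast hb) hy1
    linarith
  have h8 : (n : ℚ) ≤ b + |(c₀ : ℚ)| - C := by linarith
  exact_mod_cast h8

variable {k : Type u} [Field k] {Y : Scheme.{u}} [Y.Over (Spec (CommRingCat.of k))]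
  [IsProper (Y ↘ Spec (CommRingCat.of k))] {L : Y.Modules}

theorem h1_bound [IsAlgClosed k] [Smooth (Y ↘ Spec (CommRingCat.of k))] (H : Pol Y L) (S : Set Y.Modules) (c₀ : ℤ)
    (hS : ∀ E ∈ S, FlatMod.IsFinLocFree E ∧ c k E = c₀) (C : ℤ)
    (hC : ∀ E ∈ S, ∀ (Q : Y.Modules) (p : E ⟶ Q), Epi p → FlatMod.IsFinLocFree Q → 0 < a k L Q →
      (C : ℚ) ≤ (c k Q : ℚ) / (a k L Q : ℚ) - (c k E : ℚ) / (a k L E : ℚ)) :
    ∃ n₁ : ℕ, ∀ n : ℕ, n₁ ≤ n → ∀ E ∈ S,
      Subsingleton (Coh.HH Y (CohB1.tensorMod E (CohB1.tensorPow L n)) 1) := by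
  have hN := isNoetherian' k Y
  have := Models.H73.SmoothCount.finite_components Y
  have := Fintype.ofFinite (ConnectedComponents Y)
  have hb := exists_b (k := k) H
  choose b hb using hb
  refine ⟨(∑ i, b i) + c₀.natAbs + C.natAbs + 1, fun n hn E hE => ?_⟩
  refine K708.CompVan.subsingleton_of_parts (W_disj Y) (W_cov Y) _ 1 fun i => ?_
  have hcl := K247.OpenClosed.isClosedImmersion_of_clopen (W Y i) (W_clopen Y i).1
  by_contra hcon
  have h1 : ¬ Subsingleton (Coh.HH (W Y i : Scheme.{u})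
      ((CohB1.tensorMod E (CohB1.tensorPow L n)).restrict (W Y i).ι) 1) := fun hh => hcon
    ((CurvesC.CurveNum.hhPush (W Y i).ι ((CohB1.tensorMod E (CohB1.tensorPow L n)).restrict (W Y i).ι) 1).symm.subsingleton)
  obtain ⟨Q, p, hp, hQ, ha, hc⟩ := hb i E (hS E hE).1 n h1
  have h2 := hC E hE Q p hp hQ ha
  rw [(hS E hE).2] at h2
  have h3 := ineq ha h2 hc (by positivity)
  have h4 : b i ≤ ∑ i, b i := Finset.single_le_sum (fun _ _ => Nat.zero_le _) (Finset.mem_univ i)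
  have h5 : (n : ℤ) ≥ (∑ i, b i : ℕ) + c₀.natAbs + C.natAbs + 1 := by exact_mod_cast hn
  have h6 : ((b i : ℕ) : ℤ) ≤ (∑ i, b i : ℕ) := by exact_mod_cast h4
  have h7 := Int.natCast_natAbs c₀
  have h8 := Int.natCast_natAbs C
  have h9 := neg_abs_le C
  omega

theorem quot_bound (hdim : topologicalKrullDim Y = 1) (hL : PicF.IsInvertible L) (n : ℕ) {E Q : Y.Modules}
    (hQ : Coh.IsCoh Q) (p : E ⟶ Q) [Epi p] (ha : 0 < a k L Q)
    (h : Subsingleton (Coh.HH Y (CohB1.tensorMod E (CohB1.tensorPow L n)) 1)) :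
    -(n : ℚ) ≤ (c k Q : ℚ) / (a k L Q : ℚ) := by
  have hN := isNoetherian' k Y
  have hP : PicF.IsInvertible (CohB1.tensorPow L n) := Fdesc.LocGen.isInvertible_tensorPow hL n
  have he := K707.TensL.isEquivalence hP
  have hepi : Epi ((DCoh.tensorRightMod (CohB1.tensorPow L n)).map p) := inferInstance
  have h1 : Subsingleton (Coh.HH Y (CohB1.tensorMod Q (CohB1.tensorPow L n)) 1) :=
    @h1_of_epi Y _ hdim.le _ _ ((DCoh.tensorRightMod (CohB1.tensorPow L n)).map p) hepi h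
  have h2 := c_nonneg_of_h1 (k := k) hdim h1
  rw [c_twist hdim hL hQ] at h2
  have ha' : (0 : ℚ) < a k L Q := by exact_mod_cast ha
  rw [le_div_iff₀ ha']
  have h3 : (0 : ℚ) ≤ c k Q + n * a k L Q := by exact_mod_cast h2
  linarith

variable (k) in
include k in
open K987.DecShCurve Groth.Agent.Pic13.H11 Groth.Agent.Fga.PicMon Groth.Agent.Fga Cls Amp NumU Emb in
theorem gg_of_h1 (hdim : topologicalKrullDim Y ≤ 1) (hL : CohB1.IsAmple L) : ∃ r : ℕ, ∀ E : Y.Modules, Coh.IsCoh E → ∀ m : ℕ,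
    Subsingleton (Coh.HH Y (CohB1.tensorMod E (CohB1.tensorPow L m)) 1) →
      Curv2.IsGloballyGenerated (CohB1.tensorMod E (CohB1.tensorPow L (m + r))) := by
  obtain ⟨r, hr⟩ := exists_gg k hdim hL
  refine ⟨r, fun E hE m h => hr E hE m ?_⟩
  have e1 : mc (CohB1.tensorMod E (CohB1.tensorPow L m)) = unit hL.1 ^ m • mc E := by
    rw [mc_tensor, mc_tensorPow, Cls.smul_def, Units.val_pow_eq_pow_val, unit_val, mul_comm]
  rw [← e1]
  exact h

theorem main [IsAlgClosed k] [Smooth (Y ↘ Spec (CommRingCat.of k))] (H : Pol Y L) (S : Set Y.Modules) (c₀ : ℤ)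
    (hS : ∀ E ∈ S, FlatMod.IsFinLocFree E ∧ c k E = c₀) :
    (∃ n₀ : ℕ, ∀ n : ℕ, n₀ ≤ n → ∀ E ∈ S,
        Subsingleton (Coh.HH Y (CohB1.tensorMod E (CohB1.tensorPow L n)) 1) ∧
        Curv2.IsGloballyGenerated (CohB1.tensorMod E (CohB1.tensorPow L n))) ↔
    (∃ C : ℤ, ∀ E ∈ S, ∀ (Q : Y.Modules) (p : E ⟶ Q), Epi p → FlatMod.IsFinLocFree Q → 0 < a k L Q →
      (C : ℚ) ≤ (c k Q : ℚ) / (a k L Q : ℚ) - (c k E : ℚ) / (a k L E : ℚ)) := by
  constructor
  · rintro ⟨n₀, h⟩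
    refine ⟨-n₀ - |c₀|, fun E hE Q p hp hQ ha => ?_⟩
    have h1 := quot_bound (k := k) H.dim H.amp.1 n₀ (K706.CompSS.coh_of_vb hQ) p ha (h n₀ le_rfl E hE).1
    have h2 := le_abs_self ((c k E : ℚ) / (a k L E : ℚ))
    have h3 := abs_div_le (c k E) (a k L E)
    rw [(hS E hE).2] at h2 h3 ⊢
    push_cast
    linarith
  · rintro ⟨C, hC⟩
    obtain ⟨n₁, h1⟩ := h1_bound H S c₀ hS C hC
    obtain ⟨r, hr⟩ := gg_of_h1 k H.dim.le H.amp
    refine ⟨n₁ + r, fun n hn E hE => ⟨h1 n (by omega) E hE, ?_⟩⟩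
    have h2 := hr E (K706.CompSS.coh_of_vb (hS E hE).1) (n - r) (h1 (n - r) (by omega) E hE)
    rwa [Nat.sub_add_cancel (by omega)] at h2

end K708.Bounded
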