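import Groth.Agent.VBCurve.K703.Duality
import Groth.Agent.VBCurve.K703.Stab
import Groth.Agent.VBCurve.K705.ExtH1
import Groth.Agent.VBCurve.K708.DualDeg
import Groth.Agent.VBCurve.K708.Geom
import Groth.Agent.S1520

/-!
# Serre duality for bundles; curves of genus one (helper708)

* `subsingleton_ext`: `Hom(F, w ⊗ E) = 0` implies `H¹(F ⊗ E') = 0` (`= Ext¹(E, F)`);
* `nonempty_w_iso`: the dualizing module is trivial in genus one;
* `subsingleton_ext_one`: in genus one `Hom(F, E) = 0` implies `H¹(F ⊗ E') = 0`;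
* `exists_section_of_hom`: in genus one `0 → A → E → B → 0` splits if `Hom(A, B) = 0`.
-/

set_option autoImplicit false
universe u

open CategoryTheory CategoryTheory.Limits AlgebraicGeometry TopologicalSpace Opposite Module MonoidalCategory

namespace K708.GenusOne

open Groth.Agent Groth.Agent.VarietyA.DegRank K707.Base K707.Deg K707.Slope K707.Semi K707.TensL K708.Coho K708.SSH0
open K708.PtTwist K708.DualDeg K703.Duality
open scoped Groth.Agent.Dcoh.MonCat

theorem forall_tensor_hom_iff {X : Scheme.{u}} (E E' A F : X.Modules) [ExactPairing E E'] :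
    (∀ φ : A ⊗ E ⟶ F, φ = 0) ↔ (∀ φ : A ⟶ F ⊗ E', φ = 0) := by
  constructor
  · intro h φ
    apply (tensorRightHomEquiv A E E' F).symm.injective
    rw [h ((tensorRightHomEquiv A E E' F).symm φ), h ((tensorRightHomEquiv A E E' F).symm 0)]
  · intro h φ
    apply (tensorRightHomEquiv A E E' F).injective
    rw [h ((tensorRightHomEquiv A E E' F) φ), h ((tensorRightHomEquiv A E E' F) 0)]

theorem vb_dual {X : Scheme.{u}} {E : X.Modules} (hE : FlatMod.IsFinLocFree E) (E' : X.Modules)
    [ExactPairing E E'] : FlatMod.IsFinLocFree E' :=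
  Dcoh.DualFLF.isFinLocFree_dual hE E'

section

variable {k : Type u} [Field k] {X : Scheme.{u}} [X.Over (Spec (CommRingCat.of k))]
  [IsIntegral X] [IsProper (X ↘ (Spec (CommRingCat.of k)))]

theorem subsingleton_ext (C : Crv k X) (D : Dualizing k X) {E F : X.Modules} (hE : FlatMod.IsFinLocFree E)
    (hF : FlatMod.IsFinLocFree F) (E' : X.Modules) [ExactPairing E E'] (h : ∀ φ : F ⟶ D.w ⊗ E, φ = 0) :
    Subsingleton (Coh.HH X (CohB1.tensorMod F E') 1) := by
  have := isLocNoeth C
  have hq : Coh.IsQCoh (CohB1.tensorMod F E') := (coh_of_vb (vb_tensor hF (vb_dual hE E'))).1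
  refine D.subsingleton_h1 hq ?_
  let _ := K708.Dual.swapPairing E E'
  exact (forall_tensor_hom_iff E' E F D.w).mpr h

/-- The dualizing module is trivial in genus one. -/
theorem nonempty_w_iso (hdim : topologicalKrullDim X = 1) (D : Dualizing k X)
    (h0 : Module.finrank k (Coh.HH X (Coh.structureModule X) 0) = 1) (hg : Curv2.genus k X = 1) :
    Nonempty (D.w ≅ Coh.structureModule X) := by
  have h1 : ¬ ∀ φ : Coh.structureModule X ⟶ D.w, φ = 0 := by
    intro h
    have h2 := (K708.HomH0.forall_unit_hom_eq_zero_iff D.w).mp h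
    have h3 := D.h0_w
    rw [Module.finrank_zero_of_subsingleton, hg] at h3
    exact absurd h3 (by norm_num)
  push Not at h1
  obtain ⟨s, hs⟩ := h1
  refine S1520.result k X hdim D.w D.inv s hs ?_
  rw [D.deg_w hdim h0, hg]
  norm_num

theorem subsingleton_ext_one (C : Crv k X) (D : Dualizing k X)
    (h0 : Module.finrank k (Coh.HH X (Coh.structureModule X) 0) = 1) (hg : Curv2.genus k X = 1)
    {E F : X.Modules} (hE : FlatMod.IsFinLocFree E)
    (hF : FlatMod.IsFinLocFree F) (E' : X.Modules) [ExactPairing E E'] (h : ∀ φ : F ⟶ E, φ = 0) :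
    Subsingleton (Coh.HH X (CohB1.tensorMod F E') 1) := by
  obtain ⟨e⟩ := nonempty_w_iso C.dim D h0 hg
  refine subsingleton_ext C D hE hF E' fun φ => ?_
  let a : D.w ⊗ E ≅ E := whiskerRightIso e E ≪≫ λ_ E
  rw [← cancel_mono a.hom, zero_comp]
  exact h _

theorem exists_section_of_hom (C : Crv k X) (D : Dualizing k X)
    (h0 : Module.finrank k (Coh.HH X (Coh.structureModule X) 0) = 1) (hg : Curv2.genus k X = 1)
    (T : ShortComplex X.Modules) (hT : T.ShortExact) (h₁ : FlatMod.IsFinLocFree T.X₁)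
    (h₃ : FlatMod.IsFinLocFree T.X₃) (h : ∀ φ : T.X₁ ⟶ T.X₃, φ = 0) :
    ∃ s : T.X₃ ⟶ T.X₂, s ≫ T.g = 𝟙 _ := by
  obtain ⟨E', ⟨p⟩⟩ := Dcoh.DualFLF.exists_exactPairing h₃
  exact K705.ExtH1.exists_section_of_h1 T hT E' (subsingleton_ext_one C D h0 hg h₃ h₁ E' h)

end

end K708.GenusOne
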