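import Groth.Agent.VBCurve.K708.Embed
import Groth.Agent.VBCurve.K708.GenusOne
import Groth.Agent.VBCurve.K708.RatPt

/-!
# Embedding semistable bundles in genus one (helper708)

`exists_mono_of_ss`: on a curve of genus one with a rational point, a semistable bundle `F` with `μ(F) < deg L - 1`
embeds in a sum of copies of `L`.
-/

set_option autoImplicit false
universe u

open CategoryTheory CategoryTheory.Limits AlgebraicGeometry TopologicalSpace Opposite Module MonoidalCategory

namespace K708.EmbedOne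

open Groth.Agent Groth.Agent.VarietyA.DegRank K707.Base K707.Deg K707.Slope K707.Semi K707.TensL K708.Coho K708.SSH0
open K708.PtTwist K708.DualDeg K708.GenusOne K708.Embed K703.Duality

variable {k : Type u} [Field k] {X : Scheme.{u}} [X.Over (Spec (CommRingCat.of k))]
  [IsIntegral X] [IsProper (X ↘ (Spec (CommRingCat.of k)))]

theorem exists_mono_of_ss (C : Crv k X) (D : Dualizing k X)
    (h0 : Module.finrank k (Coh.HH X (Coh.structureModule X) 0) = 1) (hg : Curv2.genus k X = 1)
    (O : Spec (CommRingCat.of k) ⟶ X) (hO : O ≫ (X ↘ Spec (CommRingCat.of k)) = 𝟙 _)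
    {F L : X.Modules} (hF : FlatMod.IsFinLocFree F) (hss : SS k F) (hL : PicF.IsInvertible L)
    (hd : dg k F < (dg k L - 1) * rk F) :
    ∃ M : ℕ, 0 < M ∧ ∃ j : F ⟶ ∐ fun _ : Fin M => L, Mono j := by
  have hx := RatPt.isClosed_pt k O hO
  have hs := RatPt.resMap_surjective k O hO
  have hdg := RatPt.dg_vanish C hL hx hs
  have hL₁ := invertible_vanish C hL hx
  obtain ⟨F', ⟨p⟩⟩ := Dcoh.DualFLF.exists_exactPairing hF
  have hm : Mono (VarietyA.TwistDown.vanish L (RatPt.pt k O)).ι := inferInstance
  refine exists_mono_of_ext C hF hL hL₁ (VarietyA.TwistDown.vanish L (RatPt.pt k O)).ι (by omega) F' ?_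
  refine subsingleton_ext_one C D h0 hg hF (vb_of_inv hL₁) F' fun φ => ?_
  refine (K703.Stab.ss_of_inv C hL₁).hom_eq_zero C (vb_of_inv hL₁) hss hF ?_ φ
  rw [rk_inv hL₁, hdg]
  push_cast
  linarith

end K708.EmbedOne
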