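import Groth.Agent.VBCurve.K708.FrobSS
import Groth.Agent.VBCurve.K708.Deriv
import Groth.Agent.VBCurve.K708.TensBound
import Groth.Agent.Dcoh.MonPull292

/-!
# Tensor products of semistable bundles on curves of genus one in characteristic `p` (helper708)
-/

set_option autoImplicit false
universe u

open CategoryTheory CategoryTheory.Limits AlgebraicGeometry TopologicalSpace Opposite Module MonoidalCategory

namespace K708.FrobTens

open Groth.Agent Groth.Agent.VarietyA.DegRank K707.Base K707.Deg K707.Slope K707.Semi K708.FrobPull K707.TensL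
open K703.Duality K475.GenStalk K708.FrobCan
open scoped Groth.Agent.Dcoh.MonCat

/-- Pullback of a tensor product. -/
noncomputable def pullTens {X Y : Scheme.{u}} (f : X ⟶ Y) (A B : Y.Modules) :
    CohB1.tensorMod ((Scheme.Modules.pullback f).obj A) ((Scheme.Modules.pullback f).obj B) ≅
      (Scheme.Modules.pullback f).obj (CohB1.tensorMod A B) :=
  letI := Dcoh.MonPull.monPull f
  Functor.Monoidal.μIso (Scheme.Modules.pullback f) A B

variable {k : Type u} [Field k] {X : Scheme.{u}} [X.Over (Spec (CommRingCat.of k))]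
  [IsIntegral X] [IsProper (X ↘ (Spec (CommRingCat.of k)))] (p : ℕ) [Fact p.Prime] [FrobSch.IsCharP X p]

theorem main_aux (C : Crv k X) (D : Dualizing k X)
    (h0 : Module.finrank k (Coh.HH X (Coh.structureModule X) 0) = 1) (hg : Curv2.genus k X = 1)
    (O : Spec (CommRingCat.of k) ⟶ X) (hO : O ≫ (X ↘ Spec (CommRingCat.of k)) = 𝟙 _)
    (hfrob : ∀ E : X.Modules, FlatMod.IsFinLocFree E → SS k E → SS k (FP p E)) (n : ℕ) :
    ∀ {F F' : X.Modules}, FlatMod.IsFinLocFree F → FlatMod.IsFinLocFree F' →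
      0 < rk F → 0 < rk F' → SS k F → SS k F' →
      ∀ (S : ShortComplex X.Modules), S.ShortExact → FlatMod.IsFinLocFree S.X₁ → FlatMod.IsFinLocFree S.X₃ →
      Nonempty (CohB1.tensorMod F F' ≅ S.X₂) →
      p ^ n * (dg k S.X₁ * rk F * rk F' - rk S.X₁ * (dg k F * rk F' + dg k F' * rk F)) ≤
        rk S.X₁ * (4 * rk F * rk F') := by
  induction n with
  | zero =>
    intro F F' hF hF' hr hs hss hss' S hS h1 h3 ⟨e⟩
    have := hS.mono_f
    have h4 := K708.TensBound.dg_tensor_le C D h0 hg O hO hF hF' hr hs hss hss' h1 (S.f ≫ e.inv)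
    rw [pow_zero, one_mul]
    linarith [h4, mul_add (rk S.X₁ : ℤ) (4 * rk F * rk F') (dg k F * rk F' + dg k F' * rk F)]
  | succ n ih =>
    intro F F' hF hF' hr hs hss hss' S hS h1 h3 ⟨e⟩
    have h4 := ih (F := FP p F) (F' := FP p F') (vb_pull _ hF) (vb_pull _ hF')
      (by rw [rk_pull _ hF]; exact hr) (by rw [rk_pull _ hF']; exact hs) (hfrob F hF hss) (hfrob F' hF' hss')
      (S.map (Scheme.Modules.pullback (FrobSch.frob X p))) (shortExact_pull _ hS h3) (vb_pull _ h1) (vb_pull _ h3)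
      ⟨pullTens _ F F' ≪≫ (Scheme.Modules.pullback (FrobSch.frob X p)).mapIso e⟩
    change p ^ n * (dg k ((Scheme.Modules.pullback (FrobSch.frob X p)).obj S.X₁) *
      rk ((Scheme.Modules.pullback (FrobSch.frob X p)).obj F) *
      rk ((Scheme.Modules.pullback (FrobSch.frob X p)).obj F') -
      rk ((Scheme.Modules.pullback (FrobSch.frob X p)).obj S.X₁) *
      (dg k ((Scheme.Modules.pullback (FrobSch.frob X p)).obj F) *
      rk ((Scheme.Modules.pullback (FrobSch.frob X p)).obj F') +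
      dg k ((Scheme.Modules.pullback (FrobSch.frob X p)).obj F') *
      rk ((Scheme.Modules.pullback (FrobSch.frob X p)).obj F))) ≤
      rk ((Scheme.Modules.pullback (FrobSch.frob X p)).obj S.X₁) *
      (4 * rk ((Scheme.Modules.pullback (FrobSch.frob X p)).obj F) *
      rk ((Scheme.Modules.pullback (FrobSch.frob X p)).obj F')) at h4
    rw [rk_pull _ hF, rk_pull _ hF', rk_pull _ h1, dg_frob p C hF, dg_frob p C hF', dg_frob p C h1] at h4
    rw [pow_succ]
    linarith [h4]

theorem nonpos_of_pow (p : ℕ) (hp : 1 < p) (x : ℤ) (B : ℕ) (h : ∀ n : ℕ, (p : ℤ) ^ n * x ≤ B) : x ≤ 0 := by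
  by_contra hcon
  push Not at hcon
  obtain ⟨n, hn⟩ := pow_unbounded_of_one_lt B hp
  have h2 : (B : ℤ) < p ^ n := by exact_mod_cast hn
  have h3 : (p : ℤ) ^ n * 1 ≤ p ^ n * x := mul_le_mul_of_nonneg_left hcon (by positivity)
  have := h n
  omega

theorem arith (a r s d e t : ℤ) (h : a * r * s - t * (d * s + e * r) ≤ 0) :
    a * (s * r) ≤ (s * d + r * e) * t := by
  linarith

/-- The tensor product of semistable bundles is semistable. -/
theorem sat_tensor (C : Crv k X) (D : Dualizing k X)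
    (h0 : Module.finrank k (Coh.HH X (Coh.structureModule X) 0) = 1) (hg : Curv2.genus k X = 1)
    (O : Spec (CommRingCat.of k) ⟶ X) (hO : O ≫ (X ↘ Spec (CommRingCat.of k)) = 𝟙 _)
    (hfrob : ∀ E : X.Modules, FlatMod.IsFinLocFree E → SS k E → SS k (FP p E))
    {F F' : X.Modules} (hF : FlatMod.IsFinLocFree F) (hF' : FlatMod.IsFinLocFree F')
    (hr : 0 < rk F) (hs : 0 < rk F') (hss : SS k F) (hss' : SS k F')
    (S : ShortComplex X.Modules) (hS : S.ShortExact) (h1 : FlatMod.IsFinLocFree S.X₁)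
    (h3 : FlatMod.IsFinLocFree S.X₃) (e : Nonempty (CohB1.tensorMod F F' ≅ S.X₂)) :
    dg k S.X₁ * rk F * rk F' - rk S.X₁ * (dg k F * rk F' + dg k F' * rk F) ≤ 0 := by
  refine nonpos_of_pow p (Fact.out : p.Prime).one_lt _ (rk S.X₁ * (4 * rk F * rk F')) fun n => ?_
  have h4 := main_aux p C D h0 hg O hO hfrob n hF hF' hr hs hss hss' S hS h1 h3 e
  push_cast
  exact h4

theorem ss_tensor (C : Crv k X) (D : Dualizing k X)
    (h0 : Module.finrank k (Coh.HH X (Coh.structureModule X) 0) = 1) (hg : Curv2.genus k X = 1)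
    (O : Spec (CommRingCat.of k) ⟶ X) (hO : O ≫ (X ↘ Spec (CommRingCat.of k)) = 𝟙 _)
    (hfrob : ∀ E : X.Modules, FlatMod.IsFinLocFree E → SS k E → SS k (FP p E))
    {F F' : X.Modules} (hF : FlatMod.IsFinLocFree F) (hF' : FlatMod.IsFinLocFree F')
    (hr : 0 < rk F) (hs : 0 < rk F') (hss : SS k F) (hss' : SS k F') :
    SS k (CohB1.tensorMod F F') := by
  have hln := isLocNoeth C
  have hT := vb_tensor hF hF'
  have hF'r := isFinLocFreeOfRank_rk hF'
  have hrk := rk_tensor hF'r (coh_of_vb hF)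
  have hdg := dg_tensor k C.dim hF'r (coh_of_vb hF)
  generalize hTT : CohB1.tensorMod F F' = T at hT hrk hdg ⊢
  intro G i hi hG
  obtain ⟨G', Q, a, j, q, w, ha, haj, hS, hG', hQ, e1, e2, e3, e4⟩ := exists_saturation C i (coh_of_vb hG) (coh_of_vb hT)
  have hj : Mono j := hS.mono_f
  have hG'v := vb_of_mono C j hG' hT
  have key := sat_tensor p C D h0 hg O hO hfrob hF hF' hr hs hss hss' _ hS hG'v hQ ⟨eqToIso hTT⟩
  have h5 : dg k G * rk T ≤ dg k G' * rk T := mul_le_mul_of_nonneg_right e2 (by positivity)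
  refine h5.trans ?_
  rw [← e1, hdg, hrk]
  push_cast
  exact arith _ _ _ _ _ _ key

end K708.FrobTens
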