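import Groth.Agent.VBCurve.K705.DescSub
import Groth.Agent.VBCurve.K708.MaxUniq
import Groth.Agent.VBCurve.K708.PtTwist
import Groth.Agent.VBCurve.K708.SSH0
import Groth.Agent.Surf.K456.FlatCurve
import Groth.Agent.PerfB.QCohDesc

/-!
# Semistability and finite covers: descent, and ascent for Galois covers (helper708)
-/

set_option autoImplicit false
universe u

open CategoryTheory CategoryTheory.Limits AlgebraicGeometry TopologicalSpace Opposite Module

namespace K708.PullGal

open Groth.Agent Groth.Agent.VarietyA.DegRank K707.Base K707.Deg K707.Slope K707.Semi K705.Cov K708.MaxUniq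
open K705.GenGal K708.SSH0 K707.TensL

variable {k : Type u} [Field k] {X Y : Scheme.{u}} [X.Over (Spec (CommRingCat.of k))]
  [Y.Over (Spec (CommRingCat.of k))] [IsIntegral X] [IsProper (X ↘ (Spec (CommRingCat.of k)))]
  [IsIntegral Y] [IsProper (Y ↘ (Spec (CommRingCat.of k)))] {f : X ⟶ Y} {n : ℕ}

theorem exists_isCov (f : X ⟶ Y) [IsFinite f] [IsDominant f]
    (ov : f ≫ (Y ↘ (Spec (CommRingCat.of k))) = X ↘ (Spec (CommRingCat.of k))) (cX : Crv k X) (cY : Crv k Y) :
    ∃ n, IsCov k f n := by
  have := isNoetherian k (X := Y)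
  have := isNoetherian k (X := X)
  have hc := CurvesB.UnitCoh.isCoh_structureModule X
  have hq : Coh.IsQCoh (Coh.structureModule X) := hc.1
  have h1 : FlatMod.IsFinLocFree ((Scheme.Modules.pushforward f).obj (Coh.structureModule X)) := by
    refine vb_of_torsionFree cY (Krr.H498.PushRes.isCoh_pushforward f hc) (S2288.result f _ ?_)
    exact isTorsionFree_of_isFinLocFree (isFinLocFree_of_rank rank_structureModule)
  exact ⟨_, ov, inferInstance, inferInstance, cX, cY, isFinLocFreeOfRank_rk h1⟩

omit [IsProper (X ↘ (Spec (CommRingCat.of k)))] [IsProper (Y ↘ (Spec (CommRingCat.of k)))] in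
theorem flat_of (f : X ⟶ Y) [IsFinite f] [IsDominant f] (cY : Crv k Y) : Flat f := by
  refine K456.FlatCurve.flat_of_dominant f (fun y => ?_) cY.dim.le
  have := cY.pid y
  infer_instance

theorem pos_of (h : IsCov k f n) : 0 < n := by
  rcases Nat.eq_zero_or_pos n with h0 | h0
  · exfalso
    subst h0
    have h1 : IsZero ((Scheme.Modules.pushforward f).obj (Coh.structureModule X)) :=
      isZero_of_rk_eq_zero h.crvY (isFinLocFree_of_rank h.rank) (rk_of_rank h.rank)
    have h2 : 𝟙 ((Scheme.Modules.pushforward f).obj (Coh.structureModule X)) = 0 := h1.eq_of_src _ _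
    have h3 := congrArg (fun φ : (Scheme.Modules.pushforward f).obj (Coh.structureModule X) ⟶
      (Scheme.Modules.pushforward f).obj (Coh.structureModule X) => φ.app ⊤ (1 : Γ(X, ⊤))) h2
    exact one_ne_zero (α := Γ(X, ⊤)) h3
  · exact h0

theorem ss_iso {A B : X.Modules} (e : A ≅ B) (h : SS k A) : SS k B := by
  intro F i hi hF
  have := h F (i ≫ e.inv) (mono_comp _ _) hF
  rwa [rk_iso e, dg_iso k e] at this

/-- Semistability descends. -/
theorem ss_of_pull (h : IsCov k f n) {E : Y.Modules} (hE : FlatMod.IsFinLocFree E)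
    (hss : SS k ((Scheme.Modules.pullback f).obj E)) : SS k E := by
  have := h.fin
  have := h.dom
  have := flat_of f h.crvY
  have hn : (0 : ℤ) < n := by exact_mod_cast pos_of h
  intro F i hi hF
  have hfl : PreservesFiniteLimits (Scheme.Modules.pullback f) := PerfC.FlatExact.preservesFiniteLimits_pullback f
  have hm : Mono ((Scheme.Modules.pullback f).map i) := inferInstance
  have h1 := hss _ ((Scheme.Modules.pullback f).map i) hm (vb_pull (f := f) hF).1
  rw [(vb_pull (f := f) hF).2, (vb_pull (f := f) hE).2, h.dg_pull hF, h.dg_pull hE] at h1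
  have h2 : (n : ℤ) * (dg k F * rk E) ≤ n * (dg k E * rk F) := by linarith
  exact le_of_mul_le_mul_left h2 hn

/-- Automorphisms have degree one. -/
theorem aut_one {g : X ⟶ X} {m : ℕ} (h : IsCov k f n) (hg : IsCov k g m) (hgf : g ≫ f = f) : m = 1 := by
  obtain ⟨N, hN, hd⟩ := K708.PtTwist.exists_inv_pos h.crvY
  have vN := vb_of_inv hN
  have e : (Scheme.Modules.pullback g).obj ((Scheme.Modules.pullback f).obj N) ≅
      (Scheme.Modules.pullback f).obj N :=
    (Scheme.Modules.pullbackComp g f).app N ≪≫ (Scheme.Modules.pullbackCongr hgf).app N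
  have h1 := hg.dg_pull (vb_pull (f := f) vN).1
  rw [dg_iso k e, h.dg_pull vN] at h1
  have hn : (0 : ℤ) < n := by exact_mod_cast pos_of h
  have h2 : (0 : ℤ) < n * dg k N := mul_pos hn hd
  have h3 : ((m : ℤ) - 1) * (n * dg k N) = 0 := by linarith
  rcases mul_eq_zero.mp h3 with h4 | h4
  · omega
  · omega

/-- **Ascent of semistability for Galois covers.** -/
theorem ss_pull_gal (h : IsCov k f n) {ι : Type*} [Fintype ι] [DecidableEq ι] {σ : ι → (X ⟶ X)}
    (hσ : ∀ a, σ a ≫ f = f) (hiso : ∀ a, IsIso (σ a)) (hinj : Function.Injective σ)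
    (hcard : Fintype.card ι = n) {i₀ : ι} (h₀ : σ i₀ = 𝟙 X) {E : Y.Modules} (hE : FlatMod.IsFinLocFree E)
    (hss : SS k E) : SS k ((Scheme.Modules.pullback f).obj E) := by
  have hfin := h.fin
  have hdom := h.dom
  have hflat := flat_of f h.crvY
  have hn : (0 : ℤ) < n := by exact_mod_cast pos_of h
  have hη : ∀ a, (σ a).base (genericPoint X) = genericPoint X := fun a => map_genericPoint (σ a)
  have hcov : ∀ a, IsCov k (σ a) 1 := by
    intro a
    have hov : σ a ≫ (X ↘ (Spec (CommRingCat.of k))) = X ↘ (Spec (CommRingCat.of k)) := by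
      rw [← h.ov, ← Category.assoc, hσ]
    obtain ⟨m, hm⟩ := exists_isCov (σ a) hov h.crvX h.crvX
    rw [aut_one h hm (hσ a)] at hm
    exact hm
  obtain ⟨v, r⟩ := vb_pull (f := f) hE
  rcases Nat.eq_zero_or_pos (rk E) with h0 | hpos
  · intro F i hi hF
    have h1 := rk_le_of_mono h.crvX i (coh_of_vb hF) (coh_of_vb v)
    have h2 : rk F = 0 := by omega
    rw [r, h0, h2]
    simp
  obtain ⟨M, j, hM⟩ := exists_isMaxDest h.crvX v (by omega)
  have hm := hM.mono
  have hQ := hM.vb_cokernel h.crvX v
  obtain ⟨F', i', e, hi', he⟩ := K705.DescSub.exists_descent hσ hη h hinj hcard h₀ hE j hQ (by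
    intro a ha
    have hiso' := hiso a
    -- `σ^* M` is semistable
    have hMa := (hcov a).dg_pull hM.vb
    obtain ⟨va, ra⟩ := vb_pull (f := σ a) hM.vb
    have hss' : SS k ((Scheme.Modules.pullback (σ a)).obj M) := by
      have hinv : (inv (σ a)) ≫ f = f := by rw [IsIso.inv_comp_eq, hσ]
      have hov' : inv (σ a) ≫ (X ↘ (Spec (CommRingCat.of k))) = X ↘ (Spec (CommRingCat.of k)) := by
        rw [← h.ov, ← Category.assoc, hinv]
      obtain ⟨m, hm'⟩ := exists_isCov (inv (σ a)) hov' h.crvX h.crvX
      refine ss_of_pull hm' va (ss_iso ?_ hM.ss)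
      exact ((Scheme.Modules.pullbackComp (inv (σ a)) (σ a)).app M ≪≫
        (Scheme.Modules.pullbackCongr (IsIso.inv_hom_id (σ a))).app M ≪≫
        (Scheme.Modules.pullbackId X).app M).symm
    have hz : ((Scheme.Modules.pullback (σ a)).map j ≫ lam (hσ a) E) ≫ cokernel.π j = 0 := by
      by_contra hf
      obtain ⟨I, p, i, hp, hi, hpi, hI, hIpos, e1, e2, e3, e4⟩ := exists_factor_pos h.crvX _ hf (coh_of_vb va) hQ
      have h1 := hM.lt I i hi hI hIpos
      have h2 := hss'.quot h.crvX va p (coh_of_vb hI)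
      rw [ra, hMa] at h2
      push_cast at h2
      linarith
    exact ⟨(cokernel_shortExact j).exact.lift _ hz, (cokernel_shortExact j).exact.lift_f _ hz⟩)
  have vF' : FlatMod.IsFinLocFree F' := by
    have cF' : Coh.IsCoh F' := by
      have hs : Surjective f := by
        have : IsDominant f := h.dom
        have : Surjective f := surjective_of_isDominant_of_isClosed_range f f.isClosedMap.isClosed_range
        exact this
      have hln := isLocNoeth h.crvY
      have hqp : Coh.IsQCoh ((Scheme.Modules.pullback f).obj F') :=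
        (coh_of_vb (vb_iso e.symm hM.vb)).1
      exact CycB.CohProp.isCoh_of_mono i' (PerfB.QCohDesc.isQCoh_of_pullback f F' hqp) (coh_of_vb hE)
    exact vb_of_mono h.crvY i' cF' hE
  have h1 := hss F' i' hi' vF'
  have h2 : dg k M = n * dg k F' := by rw [← dg_iso k e, h.dg_pull vF']
  have h3 : rk M = rk F' := by rw [← rk_iso e, (vb_pull (f := f) vF').2]
  intro F i hi hF
  have d5 := hM.le F i hi hF
  rw [r, h.dg_pull hE]
  have hM0 : (0 : ℤ) < rk M := by exact_mod_cast hM.pos
  have d6 : dg k M * rk E ≤ (n * dg k E) * rk M := by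
    rw [h2, h3]
    calc (n * dg k F') * rk E = n * (dg k F' * rk E) := by ring
      _ ≤ n * (dg k E * rk F') := mul_le_mul_of_nonneg_left h1 hn.le
      _ = _ := by ring
  have h7 : dg k F * rk E * rk M ≤ n * dg k E * rk F * rk M := by
    calc dg k F * rk E * rk M = (dg k F * rk M) * rk E := by ring
      _ ≤ (dg k M * rk F) * rk E := mul_le_mul_of_nonneg_right d5 (by positivity)
      _ = (dg k M * rk E) * rk F := by ring
      _ ≤ ((n * dg k E) * rk M) * rk F := mul_le_mul_of_nonneg_right d6 (by positivity)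
      _ = _ := by ring
  exact le_of_mul_le_mul_right h7 hM0

end K708.PullGal
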