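import Groth.Agent.S11336
import Groth.Agent.VBCurve.K706.Serre
import Groth.Agent.VBCurve.K708.GGLine
import Groth.Agent.VBCurve.K708.GenusOne
import Groth.Agent.S1535

/-!
# Clifford's inequality for line bundles, in terms of `dg` (helper708)
-/

set_option autoImplicit false
universe u

open CategoryTheory CategoryTheory.Limits AlgebraicGeometry TopologicalSpace Opposite Module MonoidalCategory

namespace K708.Cliff

open Groth.Agent Groth.Agent.VarietyA.DegRank K707.Base K707.Deg K707.Slope K707.Semi K707.TensL K708.Coho K708.SSH0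
open K708.PtTwist K703.Duality K708.GenusOne
open scoped Groth.Agent.Dcoh.MonCat

variable {k : Type u} [Field k] [IsAlgClosed k] {X : Scheme.{u}} [X.Over (Spec (CommRingCat.of k))]
  [IsIntegral X] [IsProper (X ↘ (Spec (CommRingCat.of k)))] [Smooth (X ↘ (Spec (CommRingCat.of k)))]

theorem finrank_h0_O : finrank k (Coh.HH X (Coh.structureModule X) 0) = 1 :=
  VarietyA.CurveFin.finrank_h0_structure k X

theorem euler_O (hdim : topologicalKrullDim X = 1) :
    Curv2.euler k X (Coh.structureModule X) = 1 - Curv2.genus k X := by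
  rw [K708.Coho.euler_eq k hdim.le, finrank_h0_O]
  rfl

theorem nonempty_w_omega (hdim : topologicalKrullDim X = 1) (D : Dualizing k X) :
    Nonempty (D.w ≅ Omega.sheaf (X ↘ (Spec (CommRingCat.of k)))) := by
  refine K706.Serre.nonempty_iso_omega hdim D.inv (D.deg_w_of_isAlgClosed hdim) ?_
  rw [D.h1_w, finrank_h0_O]
  norm_num

/-- Riemann-Roch in terms of `dg`. -/
theorem rr (C : Crv k X) {M : X.Modules} :
    (finrank k (Coh.HH X M 0) : ℤ) - finrank k (Coh.HH X M 1) = dg k M + rk M * (1 - Curv2.genus k X) := by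
  rw [← K708.Coho.euler_eq k C.dim.le, euler_eq_dg k, euler_O C.dim]

/-- Clifford or nonspecial. -/
theorem line_bound (C : Crv k X) {N : X.Modules} (hN : PicF.IsInvertible N)
    (hh : 0 < finrank k (Coh.HH X N 0)) :
    2 * ((finrank k (Coh.HH X N 0) : ℤ) - 1) ≤ dg k N ∨
      dg k N = (finrank k (Coh.HH X N 0) : ℤ) - 1 + Curv2.genus k X := by
  have hln := isLocNoeth C
  by_cases h1 : Subsingleton (Coh.HH X N 1)
  · right
    have h2 := rr C (M := N)
    rw [Module.finrank_zero_of_subsingleton (M := Coh.HH X N 1), rk_inv hN] at h2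
    push_cast at h2
    linarith
  · left
    obtain ⟨D⟩ := K703.Duality.nonempty_dualizing k X C.dim
    obtain ⟨φ, hφ⟩ := D.exists_ne_zero (coh_inv hN).1 h1
    obtain ⟨e⟩ := nonempty_w_omega C.dim D
    obtain ⟨M, hM, ⟨e1⟩, -, -⟩ := exists_inv C hN
    have hM1 : dg k N = Curv2.deg k X N 1 := dg_of_rank k (rank_one_iff.mpr hN)
    have hnt : Nontrivial (Coh.HH X (CohB1.tensorMod (Omega.sheaf (X ↘ (Spec (CommRingCat.of k)))) M) 0) := by
      by_contra hcon
      rw [not_nontrivial_iff_subsingleton, ← K708.HomH0.forall_unit_hom_eq_zero_iff] at hcon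
      have := isEquivalence hM
      have h2 : (T M).map (φ ≫ e.hom) = 0 := by
        have h3 : e1.inv ≫ (T M).map (φ ≫ e.hom) = 0 := hcon _
        exact (cancel_epi e1.inv).mp (h3.trans comp_zero.symm)
      have h4 : φ ≫ e.hom = 0 := (T M).map_injective (by rw [h2, (T M).map_zero])
      apply hφ
      rw [← cancel_mono e.hom, h4, zero_comp]
    have hnt0 : Nontrivial (Coh.HH X N 0) := by
      by_contra hcon
      rw [not_nontrivial_iff_subsingleton] at hcon
      rw [Module.finrank_zero_of_subsingleton] at hh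
      exact absurd hh (lt_irrefl 0)
    have h5 := S11336.result k X C.dim (fun x => S1535.result k X x) N M hN ⟨e1⟩ hnt0 hnt
    rw [hM1]
    linarith

end K708.Cliff
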