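import Groth.Agent.VBCurve.K706.DimOne
import Groth.Agent.CohqB.HSeqMod

/-!
# Vanishing of cohomology through the components (helper708)
-/

set_option autoImplicit false
universe u

open CategoryTheory CategoryTheory.Limits AlgebraicGeometry TopologicalSpace Opposite Module

namespace K708.CompVan

open Groth.Agent Scheme.Modules K706.Clopen K706.DimOne

variable {Y : Scheme.{u}} {ι : Type*} {W : ι → Y.Opens} (disj : ∀ i j, i ≠ j → W i ⊓ W j = ⊥)
  (cov : ∀ x, ∃ i, x ∈ W i)

theorem isIso_restrict_inc {U V : Y.Opens} (h : U ⊓ V = ⊥) (h' : U ⊔ V = ⊤) (M : Y.Modules) :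
    IsIso ((restrictFunctor U.ι).map (inc h h' M)) := by
  have h1 := isIso_restrict_eta U M
  have h2 : (restrictFunctor U.ι).map (inc h h' M) ≫ (restrictFunctor U.ι).map (eta U M) = 𝟙 _ := by
    rw [← Functor.map_comp, inc_eta, CategoryTheory.Functor.map_id]
  rw [← IsIso.eq_comp_inv, Category.id_comp] at h2
  rw [h2]
  infer_instance

theorem isIso_sum [Fintype ι] (M : Y.Modules) :
    IsIso (∑ i, eta (W i) M ≫ inc (inf_compl disj i) (sup_compl cov i) M) := by
  refine PerfA.Restrict.isIso_of_restrict_opens _ fun x => ?_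
  obtain ⟨j, hj⟩ := cov x
  refine ⟨W j, hj, ?_⟩
  rw [Functor.map_sum, Finset.sum_eq_single j]
  · rw [Functor.map_comp]
    have h1 := isIso_restrict_eta (W j) M
    have h2 := isIso_restrict_inc (inf_compl disj j) (sup_compl cov j) M
    infer_instance
  · intro i _ hij
    rw [Functor.map_comp]
    have h1 : IsZero ((restrictFunctor (W j).ι).obj (part (W i) M)) := isZero_restrict_push (W i) (disj i j hij) _
    rw [h1.eq_of_tgt ((restrictFunctor (W j).ι).map (eta (W i) M)) 0, zero_comp]
  · intro h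
    exact absurd (Finset.mem_univ j) h

include disj cov in
theorem subsingleton_of_parts [Finite ι] (M : Y.Modules) (n : ℕ) (h : ∀ i, Subsingleton (Coh.HH Y (part (W i) M) n)) :
    Subsingleton (Coh.HH Y M n) := by
  have := Fintype.ofFinite ι
  have hiso := isIso_sum disj cov M
  refine subsingleton_of_forall_eq 0 fun x => ?_
  have h1 : ∀ x : Coh.HH Y M n,
      CohqB.HSeqMod.hmap (∑ i, eta (W i) M ≫ inc (inf_compl disj i) (sup_compl cov i) M) n x = 0 := by
    intro x
    rw [CohqB.HSeqMod.hmap_sum_apply]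
    refine Finset.sum_eq_zero fun i _ => ?_
    rw [CohqB.HSeqMod.hmap_comp_apply, Subsingleton.elim (CohqB.HSeqMod.hmap (eta (W i) M) n x) 0, map_zero]
  have h2 : x = CohqB.HSeqMod.hmap (𝟙 M) n x := (CohqB.HSeqMod.hmap_id_apply n x).symm
  rw [h2, ← IsIso.hom_inv_id (∑ i, eta (W i) M ≫ inc (inf_compl disj i) (sup_compl cov i) M),
    CohqB.HSeqMod.hmap_comp_apply, h1, map_zero]

end K708.CompVan
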