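import Groth.Agent.VBCurve.K708.Untwist
import Groth.Agent.VBCurve.K708.CompVan
import Groth.Agent.VBCurve.K706.CompTens
import Groth.Agent.VBCurve.K703.GlobGen
import Groth.Agent.Sga67.ClosedPush
import Groth.Agent.Dcoh.FinLocFree
import Groth.Agent.Fga.EulerLEAdd

/-!
# Quotients supported on one component (helper708)
-/

set_option autoImplicit false
universe u

open CategoryTheory CategoryTheory.Limits AlgebraicGeometry TopologicalSpace Opposite Module

namespace K708.CompQuot

open Groth.Agent Scheme.Modules K706.Clopen K706.DimOne K706.CompSS K706.CompTens K707.Base K707.Deg K707.Slope K707.Semi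
open Groth.Agent.VarietyA.DegRank

variable {Y : Scheme.{u}} {U : Y.Opens} (hU : IsClopen (U : Set Y))

include hU in
theorem vb_push {G : (U : Scheme.{u}).Modules} (hG : FlatMod.IsFinLocFree G) :
    FlatMod.IsFinLocFree ((pushforward U.ι).obj G) := by
  refine Dcoh.FinLocFree.isFinLocFree_of_local fun x => ?_
  by_cases hx : x ∈ U
  · refine ⟨U, U.ι, inferInstance, by rw [Scheme.Opens.opensRange_ι]; exact hx, ?_⟩
    have e : G ≅ ((pushforward U.ι).obj G).restrict U.ι := (asIso ((restrictAdjunction U.ι).counit.app G)).symm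
    exact Dcoh.FinLocFree.isFinLocFree_of_iso e hG
  · refine ⟨cpl U hU, (cpl U hU).ι, inferInstance, by rw [Scheme.Opens.opensRange_ι]; exact hx, ?_⟩
    exact Dcoh.FinLocFree.isFinLocFree_of_isZero (isZero_restrict_push U (inf_cpl U hU) G)

include hU in
/-- If `H¹` of a twist does not vanish on a component, then there is a locally free quotient of small slope. -/
theorem exists_quot {k : Type u} [Field k] [Y.Over (Spec (CommRingCat.of k))] [IsProper (Y ↘ Spec (CommRingCat.of k))]
    {L : Y.Modules} (H : Pol Y L) [IsIntegral (U : Scheme.{u})]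
    [IsProper ((U : Scheme.{u}) ↘ Spec (CommRingCat.of k))] (C : Crv k (U : Scheme.{u}))
    (D : K703.Duality.Dualizing k (U : Scheme.{u})) {E : Y.Modules} (hE : FlatMod.IsFinLocFree E) (n : ℕ)
    (h1 : ¬ Subsingleton (Coh.HH (U : Scheme.{u}) ((CohB1.tensorMod E (CohB1.tensorPow L n)).restrict U.ι) 1)) :
    ∃ (Q : Y.Modules) (p : E ⟶ Q), Epi p ∧ FlatMod.IsFinLocFree Q ∧ 0 < a k L Q ∧
      c k Q ≤ dg k D.w + Curv2.euler k U (Coh.structureModule U) - n * a k L Q := by
  have hN := K708.Untwist.isNoetherian' k Y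
  set M := CohB1.tensorMod E (CohB1.tensorPow L n) with hM
  have hP : PicF.IsInvertible (CohB1.tensorPow L n) := Fdesc.LocGen.isInvertible_tensorPow H.amp.1 n
  have vM : FlatMod.IsFinLocFree M := Sga67.LocBasis.isFinLocFree_tensorMod hE (K706.Twist.vb_inv hP)
  have vMU : FlatMod.IsFinLocFree (M.restrict U.ι) := PerfC.PcLocal.isFinLocFree_restrict _ vM
  have cMU := K706.CompSS.coh_of_vb vMU
  obtain ⟨φ, hφ⟩ := D.exists_ne_zero cMU.1 h1
  have hwc := K703.Basic.isCoh_of_inv D.inv
  have hwv : FlatMod.IsFinLocFree D.w := K706.Twist.vb_inv D.inv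
  obtain ⟨G, p, i, hp, hi, hpi, hG, hpos, e1, e2, e3, e4⟩ := exists_factor_pos C φ hφ cMU hwv
  have hGc := K706.CompSS.coh_of_vb hG
  have hrw : rk D.w = 1 := K708.PtTwist.rk_inv D.inv
  have hrG : rk G = 1 := by
    have := rk_le_of_mono C i hGc hwc
    omega
  have hdG : dg k G ≤ dg k D.w := by
    have := K703.GlobGen.h0_of_torsion C (coh_cokernel φ cMU hwc) (by omega)
    omega
  have hcl := K247.OpenClosed.isClosedImmersion_of_clopen U hU.1
  have hep : Epi ((pushforward U.ι).map p) := Sga67.ClosedPush.epi_pushforward_map U.ι p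
  have hee : Epi (eta U M) := epi_eta (inf_cpl U hU) (sup_cpl U hU) M
  have hepi : Epi (eta U M ≫ (pushforward U.ι).map p) := epi_comp _ _
  obtain ⟨Q, q, hq, ⟨e⟩⟩ := K708.Untwist.exists_untwist hP (eta U M ≫ (pushforward U.ι).map p)
  have hvN : FlatMod.IsFinLocFree ((pushforward U.ι).obj G) := vb_push hU hG
  have hQv : FlatMod.IsFinLocFree Q := K708.Untwist.vb_untwist hP (vb_iso e.symm hvN)
  have hQc := K706.CompSS.coh_of_vb hQv
  have n1 := c_iso k e
  have n2 := a_iso (L := L) k e
  rw [K708.Untwist.c_twist H.dim H.amp.1 hQc] at n1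
  rw [K708.Untwist.a_twist H.dim H.amp.1 hQc] at n2
  rw [c_push' hU, hrG] at n1
  have n3 := a_push' hU C H.amp.1 hGc
  rw [hrG] at n3
  have hδ : 0 < dg k ((Scheme.Modules.pullback U.ι).obj L) := by
    have hL' := Fdesc.LocGen.isInvertible_pullback U.ι H.amp.1
    rw [dg_of_rank k (K706.VStab.rank_one hL')]
    exact (Groth.Agent.S1530.result k U C.dim _ hL').1 (CohqB.AmpCocycle.isAmple_pullback U.ι H.amp)
  refine ⟨Q, q, hq, hQv, ?_, ?_⟩
  · rw [n2, n3]; simpa using hδ
  · push_cast at n1; linarith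

theorem dim_le_zero {Z : Type*} [TopologicalSpace Z] [Subsingleton Z] : topologicalKrullDim Z ≤ 0 := by
  have : Subsingleton (IrreducibleCloseds Z) := by
    refine ⟨fun a b => ?_⟩
    apply IrreducibleCloseds.ext
    obtain ⟨x, hx⟩ := a.isIrreducible.nonempty
    obtain ⟨y, hy⟩ := b.isIrreducible.nonempty
    ext z
    constructor
    · intro _
      rwa [Subsingleton.elim z y]
    · intro _
      rwa [Subsingleton.elim z x]
  exact Order.krullDim_nonpos_of_subsingleton

/-- The bound on one component. -/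
theorem exists_b {k : Type u} [Field k] [IsAlgClosed k] [Y.Over (Spec (CommRingCat.of k))] [IsProper (Y ↘ Spec (CommRingCat.of k))]
    [Smooth (Y ↘ Spec (CommRingCat.of k))] {L : Y.Modules} (H : Pol Y L) (i : ConnectedComponents Y) :
    have := K708.Untwist.isNoetherian' k Y
    ∃ b : ℕ, ∀ (E : Y.Modules), FlatMod.IsFinLocFree E → ∀ n : ℕ,
      ¬ Subsingleton (Coh.HH (W Y i : Scheme.{u}) ((CohB1.tensorMod E (CohB1.tensorPow L n)).restrict (W Y i).ι) 1) →
      ∃ (Q : Y.Modules) (p : E ⟶ Q), Epi p ∧ FlatMod.IsFinLocFree Q ∧ 0 < a k L Q ∧ c k Q ≤ b - n * a k L Q := by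
  intro hN
  have hU := W_clopen Y i
  have hint := isIntegral_W (k := k) H.dim i
  have hprop := proper (k := k) hU
  have hs : Smooth ((W Y i : Scheme.{u}) ↘ Spec (CommRingCat.of k)) :=
    inferInstanceAs (Smooth ((W Y i).ι ≫ (Y ↘ Spec (CommRingCat.of k))))
  have hNU := K708.Untwist.isNoetherian' k (W Y i : Scheme.{u})
  by_cases hx : ∃ x : (W Y i : Scheme.{u}), x ≠ genericPoint (W Y i : Scheme.{u})
  · obtain ⟨x, hx⟩ := hx
    have hdim : topologicalKrullDim (W Y i : Scheme.{u}) = 1 := by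
      refine le_antisymm ?_ (one_le_dim hx)
      exact (Topology.IsInducing.subtypeVal.topologicalKrullDim_le).trans H.dim.le
    have C : Crv k (W Y i : Scheme.{u}) := Crv.of_smooth hdim
    obtain ⟨D⟩ := K703.Duality.nonempty_dualizing k (W Y i : Scheme.{u}) hdim
    refine ⟨(dg k D.w + Curv2.euler k (W Y i) (Coh.structureModule (W Y i : Scheme.{u}))).natAbs, fun E hE n h1 => ?_⟩
    obtain ⟨Q, p, h2, h3, h4, h5⟩ := exists_quot hU H C D hE n h1
    refine ⟨Q, p, h2, h3, h4, h5.trans ?_⟩
    have := Int.le_natAbs (a := dg k D.w + Curv2.euler k (W Y i) (Coh.structureModule (W Y i : Scheme.{u})))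
    linarith
  · push Not at hx
    refine ⟨0, fun E hE n h1 => absurd ?_ h1⟩
    have : Subsingleton (W Y i : Scheme.{u}) := ⟨fun x y => (hx x).trans (hx y).symm⟩
    exact Fga.EulerLEAdd.subsingleton_HH _ 0 (by exact_mod_cast dim_le_zero) _ 1 one_pos

end K708.CompQuot
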