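import Groth.Agent.VBCurve.K708.GenMap
import Groth.Agent.S4451
import Groth.Agent.S2346
import Groth.Agent.Flat2C.GlueProper
import Mathlib.AlgebraicGeometry.SpreadingOut
import Mathlib.RingTheory.Valuation.LocalSubring

/-!
# Modifying a map from a complete curve at one point (helper708)

`C` a normal proper curve, `X` of finite type, possibly not separated, `γ : C ⟶ X`, and `x` a point of the closure of
the image. Then there is `γ' : C ⟶ X` which agrees with `γ` at the generic point and whose image contains `x`.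
-/

set_option autoImplicit false
universe u

open CategoryTheory CategoryTheory.Limits AlgebraicGeometry TopologicalSpace Opposite Module

namespace K708.CurveMod

open Groth.Agent

attribute [local instance] Curv2.stalkAlgebra

theorem fromSpecStalkOfMem_generic {C : Scheme.{u}} (U : C.Opens) {c d : C} (h : d ⤳ c) (hc : c ∈ U) (hd : d ∈ U) :
    U.fromSpecStalkOfMem d hd = Spec.map (C.presheaf.stalkSpecializes h) ≫ U.fromSpecStalkOfMem c hc := by
  rw [← cancel_mono U.ι, Scheme.Opens.fromSpecStalkOfMem_ι, Category.assoc, Scheme.Opens.fromSpecStalkOfMem_ι,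
    Scheme.SpecMap_stalkSpecializes_fromSpecStalk]

variable (k : Type u) [Field k]

theorem algebraMap_eq (C : Scheme.{u}) [C.Over (Spec (CommRingCat.of k))] [IsIntegral C] (c : k) :
    algebraMap k C.functionField c = Curv2.stalkMap k C (genericPoint C) c := rfl

/-- Agreement of two maps near the generic point. -/
theorem exists_agree {C X : Scheme.{u}} [IsIntegral C] (γ : C ⟶ X) (U : C.Opens) (g : (U : Scheme.{u}) ⟶ X)
    (hU : genericPoint C ∈ U)
    (h : U.fromSpecStalkOfMem (genericPoint C) hU ≫ g = C.fromSpecStalk (genericPoint C) ≫ γ) :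
    ∃ W : C.Opens, ∃ hW : W ≤ U, genericPoint C ∈ W ∧ C.homOfLE hW ≫ g = W.ι ≫ γ := by
  let y : (U : Scheme.{u}) := ⟨genericPoint C, hU⟩
  have h1 : (U : Scheme.{u}).fromSpecStalk y ≫ g = (U : Scheme.{u}).fromSpecStalk y ≫ U.ι ≫ γ := by
    rw [← cancel_epi (Spec.map (inv (U.ι.stalkMap y)))]
    have h2 : U.fromSpecStalkOfMem (genericPoint C) hU ≫ U.ι ≫ γ = C.fromSpecStalk (genericPoint C) ≫ γ := by
      rw [← Category.assoc, Scheme.Opens.fromSpecStalkOfMem_ι]
    rw [← h2] at h
    simp only [Scheme.Opens.fromSpecStalkOfMem, Category.assoc] at h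
    exact h
  have : Nonempty (U : Scheme.{u}) := ⟨y⟩
  have : IsIntegral (U : Scheme.{u}) := inferInstance
  obtain ⟨W', hW', hag⟩ := spread_out_unique_of_isGermInjective' (x := y) g (U.ι ≫ γ) h1
  have hle : U.ι ''ᵁ W' ≤ U := by
    rintro _ ⟨w, -, rfl⟩
    exact w.2
  refine ⟨U.ι ''ᵁ W', hle, ⟨_, hW', rfl⟩, ?_⟩
  let l : (U.ι ''ᵁ W' : C.Opens).toScheme ⟶ (W' : Scheme.{u}) := IsOpenImmersion.lift W'.ι (C.homOfLE hle) (by
    rw [Scheme.Opens.range_ι]
    rintro _ ⟨z, rfl⟩
    obtain ⟨w, hw, hwz⟩ := z.2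
    have : C.homOfLE hle z = w := by
      apply U.ι.injective
      rw [← Scheme.Hom.comp_apply, Scheme.homOfLE_ι]
      exact hwz.symm
    rw [this]
    exact hw)
  have hl : l ≫ W'.ι = C.homOfLE hle := IsOpenImmersion.lift_fac _ _ _
  rw [← hl, Category.assoc, hag, ← Category.assoc, hl, ← Category.assoc, Scheme.homOfLE_ι]

/-- Glueing `γ` outside a closed point `c` with `g` near `c`. -/
theorem exists_glue {C X : Scheme.{u}} [IsIntegral C] (hfin : ∀ Z : Set C, IsClosed Z → genericPoint C ∉ Z → Z.Finite)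
    (hcl : ∀ Z : Set C, Z.Finite → genericPoint C ∉ Z → IsClosed Z)
    (γ : C ⟶ X) (U : C.Opens) (g : (U : Scheme.{u}) ⟶ X) {c : C} (hc : c ∈ U) (hcη : c ≠ genericPoint C)
    (hU : genericPoint C ∈ U)
    (h : U.fromSpecStalkOfMem (genericPoint C) hU ≫ g = C.fromSpecStalk (genericPoint C) ≫ γ) :
    ∃ (γ' : C ⟶ X) (V : C.Opens), genericPoint C ∈ V ∧ V.ι ≫ γ' = V.ι ≫ γ ∧ γ' c = g ⟨c, hc⟩ := by
  obtain ⟨W, hW, hηW, hag⟩ := exists_agree γ U g hU h
  let V₁ : C.Opens := ⟨{c}ᶜ, (hcl {c} (Set.finite_singleton c) (fun hh => hcη hh.symm)).isOpen_compl⟩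
  let V₂ : C.Opens := ⟨{c} ∪ (W : Set C), by
    rw [← isClosed_compl_iff]
    refine hcl _ ((hfin (W : Set C)ᶜ W.2.isClosed_compl fun hh => hh hηW).subset ?_) fun hh => hh (Or.inr hηW)
    exact Set.compl_subset_compl.mpr Set.subset_union_right⟩
  have hV₂ : V₂ ≤ U := by
    rintro z (hz | hz)
    · rw [Set.mem_singleton_iff] at hz
      rw [hz]; exact hc
    · exact hW hz
  have h12 : V₁ ⊓ V₂ ≤ W := by
    rintro z ⟨hz1, hz2 | hz2⟩
    · exact absurd hz2 hz1
    · exact hz2
  have hT : V₁ ⊔ V₂ = ⊤ := by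
    rw [eq_top_iff]
    intro z _
    by_cases hz : z = c
    · exact Or.inr (Or.inl hz)
    · exact Or.inl hz
  obtain ⟨γ', h1, h2⟩ := Flat2C.GlueProper.exists_glue_morphism V₁ V₂ hT (V₁.ι ≫ γ) (C.homOfLE hV₂ ≫ g) (by
    rw [← Category.assoc, Scheme.homOfLE_ι, ← Category.assoc, Scheme.homOfLE_homOfLE,
      ← C.homOfLE_homOfLE h12 hW, Category.assoc, hag, ← Category.assoc, Scheme.homOfLE_ι])
  refine ⟨γ', V₁, fun hh => hcη hh.symm, h1, ?_⟩
  let v : (V₂ : Scheme.{u}) := ⟨c, Or.inl rfl⟩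
  have h3 : (V₂.ι ≫ γ') v = (C.homOfLE hV₂ ≫ g) v := by rw [h2]
  have h4 : C.homOfLE hV₂ v = (⟨c, hc⟩ : (U : Scheme.{u})) := by
    apply U.ι.injective
    rw [← Scheme.Hom.comp_apply, Scheme.homOfLE_ι]
    rfl
  rw [← h4]
  exact h3

theorem stalkMap_specializes (C : Scheme.{u}) [C.Over (Spec (CommRingCat.of k))] {c d : C} (h : d ⤳ c) (a : k) :
    (C.presheaf.stalkSpecializes h).hom (Curv2.stalkMap k C c a) = Curv2.stalkMap k C d a := by
  have h1 : CommRingCat.ofHom (Curv2.stalkMap k C c) ≫ C.presheaf.stalkSpecializes h =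
      CommRingCat.ofHom (Curv2.stalkMap k C d) := by
    apply Spec.map_injective
    rw [Spec.map_comp, VarietyA.ResMap.specMap_stalkMap, VarietyA.ResMap.specMap_stalkMap, ← Category.assoc,
      Scheme.SpecMap_stalkSpecializes_fromSpecStalk]
  exact congrArg (fun φ : CommRingCat.of k ⟶ C.presheaf.stalk d => φ.hom a) h1

theorem isLocalHom_of_top {R K : Type u} [CommRing R] [IsLocalRing R] [Field K] (f : R →+* K) (A : ValuationSubring K)
    (h : ∀ a, f a ∈ A.toSubring) (hloc : IsLocalHom (f.codRestrict A.toSubring h)) (hA : A = ⊤) : IsLocalHom f := by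
  refine ⟨fun a ha => ?_⟩
  apply hloc.map_nonunit
  refine IsUnit.of_mul_eq_one ⟨(f a)⁻¹, ?_⟩ ?_
  · subst hA
    trivial
  · apply Subtype.ext
    exact mul_inv_cancel₀ ha.ne_zero

/-- The closed point of the spectrum of a local ring. -/
noncomputable def cp (R : CommRingCat.{u}) [IsLocalRing R] : Spec R := IsLocalRing.closedPoint R

theorem fromSpecStalk_cp {X : Scheme.{u}} (x : X) : X.fromSpecStalk x (cp (X.presheaf.stalk x)) = x :=
  Scheme.fromSpecStalk_closedPoint

theorem map_cp {X : Scheme.{u}} (x : X) {R : CommRingCat.{u}} [IsLocalRing R] (g : X.presheaf.stalk x ⟶ R)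
    (h : IsLocalHom g.hom) : (Spec.map g ≫ X.fromSpecStalk x) (cp R) = x := by
  rw [Scheme.Hom.comp_apply]
  have h3 : Spec.map g (cp R) = cp (X.presheaf.stalk x) := IsLocalRing.comap_closedPoint g.hom
  rw [h3, fromSpecStalk_cp]

theorem exists_mod (C X : Scheme.{u}) [C.Over (Spec (CommRingCat.of k))] [IsIntegral C]
    [IsProper (C ↘ (Spec (CommRingCat.of k)))] (hC : ∀ x : C, IsClosed ({x} : Set C) → ringKrullDim (C.presheaf.stalk x) = 1)
    (hnorm : Pi1.IsNormalScheme C) [X.Over (Spec (CommRingCat.of k))]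
    [LocallyOfFiniteType (X ↘ (Spec (CommRingCat.of k)))] (γ : C ⟶ X)
    (hγ : γ ≫ (X ↘ (Spec (CommRingCat.of k))) = C ↘ (Spec (CommRingCat.of k))) (x : X)
    (hx : γ (genericPoint C) ⤳ x) :
    ∃ γ' : C ⟶ X, γ' ≫ (X ↘ (Spec (CommRingCat.of k))) = C ↘ (Spec (CommRingCat.of k)) ∧
      γ' (genericPoint C) = γ (genericPoint C) ∧ x ∈ Set.range γ' := by
  by_cases hne : γ (genericPoint C) = x
  · exact ⟨γ, hγ, rfl, ⟨_, hne⟩⟩
  have : IsLocallyNoetherian C := LocallyOfFiniteType.isLocallyNoetherian (C ↘ (Spec (CommRingCat.of k)))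
  have : CompactSpace C := QuasiCompact.compactSpace_of_compactSpace (C ↘ (Spec (CommRingCat.of k)))
  have : IsNoetherian C := {}
  have : JacobsonSpace C := LocallyOfFiniteType.jacobsonSpace (C ↘ (Spec (CommRingCat.of k)))
  have hfin : ∀ Z : Set C, IsClosed Z → genericPoint C ∉ Z → Z.Finite := fun Z hZ h =>
    Groth.Agent.S2346.finite_of_isClosed C hC Z hZ h
  have hcl : ∀ Z : Set C, Z.Finite → genericPoint C ∉ Z → IsClosed Z := by
    intro Z hZ hη
    rw [← Set.biUnion_of_singleton Z]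
    refine hZ.isClosed_biUnion fun z hz => ?_
    rcases Groth.Agent.S2346.eq_genericPoint_or_isClosed C hC z with h | h
    · exact absurd (h ▸ hz) hη
    · exact h
  let f₀ : X.presheaf.stalk x ⟶ C.presheaf.stalk (genericPoint C) :=
    X.presheaf.stalkSpecializes hx ≫ γ.stalkMap (genericPoint C)
  have hf₀ : Spec.map f₀ ≫ X.fromSpecStalk x = C.fromSpecStalk (genericPoint C) ≫ γ :=
    K33.CurveMap.fromSpecStalk_comp γ (genericPoint C) x hx
  have hfk : ∀ c : k, f₀.hom (Curv2.stalkMap k X x c) = Curv2.stalkMap k C (genericPoint C) c := by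
    intro c
    have h1 : CommRingCat.ofHom (Curv2.stalkMap k X x) ≫ f₀ = CommRingCat.ofHom (Curv2.stalkMap k C (genericPoint C)) := by
      apply Spec.map_injective
      rw [Spec.map_comp, VarietyA.ResMap.specMap_stalkMap, VarietyA.ResMap.specMap_stalkMap, ← Category.assoc, hf₀,
        Category.assoc, hγ]
    exact congrArg (fun φ : CommRingCat.of k ⟶ C.presheaf.stalk (genericPoint C) => φ.hom c) h1
  obtain ⟨A, hA, hloc⟩ := IsLocalRing.exists_factor_valuationRing (K := C.functionField) f₀.hom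
  have hAtop : A ≠ ⊤ := by
    intro hh
    have h1 : IsLocalHom f₀.hom := isLocalHom_of_top (K := C.functionField) f₀.hom A hA hloc hh
    apply hne
    have h2 := map_cp x f₀ h1
    rw [hf₀, Scheme.Hom.comp_apply, fromSpecStalk_cp] at h2
    exact h2
  obtain ⟨c, hc, -⟩ := (Groth.Agent.S4451.result k C hC hnorm).2 A hAtop (fun c => by
    rw [algebraMap_eq, ← hfk]
    exact hA _)
  let j : C.presheaf.stalk c →+* C.functionField := algebraMap (C.presheaf.stalk c) C.functionField
  have hj : Function.Injective j := IsFractionRing.injective (C.presheaf.stalk c) C.functionField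
  have hjs : j = (C.presheaf.stalkSpecializes (genericPoint_specializes c)).hom := rfl
  have hcη : c ≠ genericPoint C := by
    rintro rfl
    apply hAtop
    rw [eq_top_iff]
    intro a _
    rw [← SetLike.mem_coe, hc]
    refine ⟨a, ?_⟩
    change j a = a
    rw [hjs, TopCat.Presheaf.stalkSpecializes_refl]
    rfl
  have hr : ∀ a, f₀.hom a ∈ j.range := by
    intro a
    have h1 : (f₀.hom a : C.functionField) ∈ (A : Set C.functionField) := hA a
    rw [hc] at h1
    exact h1
  let e : C.presheaf.stalk c ≃+* j.range := RingEquiv.ofBijective j.rangeRestrict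
    ⟨fun a b hab => hj (congrArg Subtype.val hab), j.rangeRestrict_surjective⟩
  let g₀ : X.presheaf.stalk x →+* C.presheaf.stalk c :=
    (e.symm : j.range →+* C.presheaf.stalk c).comp (f₀.hom.codRestrict j.range hr)
  have hg₀ : ∀ a, j (g₀ a) = f₀.hom a := by
    intro a
    exact congrArg Subtype.val (e.apply_symm_apply ⟨f₀.hom a, hr a⟩)
  have hgf : CommRingCat.ofHom g₀ ≫ C.presheaf.stalkSpecializes (genericPoint_specializes c) = f₀ := by
    ext a
    exact hg₀ a
  have hgloc : IsLocalHom g₀ := by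
    refine ⟨fun a ha => ?_⟩
    apply hloc.map_nonunit
    obtain ⟨b, hb⟩ := ha.exists_right_inv
    have hbA : j b ∈ A := by
      have : j b ∈ (A : Set C.functionField) := by
        rw [hc]
        exact ⟨b, rfl⟩
      exact this
    refine IsUnit.of_mul_eq_one ⟨j b, hbA⟩ ?_
    apply Subtype.ext
    change f₀.hom a * j b = 1
    rw [← hg₀, ← map_mul, hb, map_one]
  let φ : Spec (C.presheaf.stalk c) ⟶ X := Spec.map (CommRingCat.ofHom g₀) ≫ X.fromSpecStalk x
  have hφ : φ ≫ (X ↘ (Spec (CommRingCat.of k))) = C.fromSpecStalk c ≫ (C ↘ (Spec (CommRingCat.of k))) := by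
    change (Spec.map (CommRingCat.ofHom g₀) ≫ X.fromSpecStalk x) ≫ _ = _
    rw [Category.assoc, ← VarietyA.ResMap.specMap_stalkMap, ← VarietyA.ResMap.specMap_stalkMap, ← Spec.map_comp]
    congr 1
    ext a
    apply hj
    change j (g₀ (Curv2.stalkMap k X x a)) = j (Curv2.stalkMap k C c a)
    rw [hg₀, hfk, hjs, stalkMap_specializes]
  obtain ⟨U, hcU, g, hg1, hg2⟩ := spread_out_of_isGermInjective' (C ↘ (Spec (CommRingCat.of k)))
    (X ↘ (Spec (CommRingCat.of k))) (x := c) φ hφ
  have hηU : genericPoint C ∈ U := (genericPoint_specializes c).mem_open U.2 hcU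
  obtain ⟨γ', V, hV, h1, h2⟩ := exists_glue hfin hcl γ U g hcU hcη hηU (by
    rw [fromSpecStalkOfMem_generic U (genericPoint_specializes c) hcU hηU, Category.assoc, ← hg1, ← hf₀, ← hgf,
      Spec.map_comp, Category.assoc]
    rfl)
  refine ⟨γ', ?_, ?_, ⟨c, ?_⟩⟩
  · have hd : IsDominant V.ι := by
      refine ⟨?_⟩
      rw [DenseRange, Scheme.Opens.range_ι]
      exact V.2.dense ⟨_, hV⟩
    refine ext_of_isDominant V.ι ?_
    rw [← Category.assoc, h1, Category.assoc, hγ]
  · have h3 := congrArg (fun ψ : (V : Scheme.{u}) ⟶ X => ψ ⟨genericPoint C, hV⟩) h1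
    exact h3
  · rw [h2]
    have h3 : (U.fromSpecStalkOfMem c hcU ≫ g) (cp (C.presheaf.stalk c)) = x := by
      rw [← hg1]
      exact map_cp x _ hgloc
    rw [Scheme.Hom.comp_apply] at h3
    have h4 : U.fromSpecStalkOfMem c hcU (cp (C.presheaf.stalk c)) = (⟨c, hcU⟩ : (U : Scheme.{u})) := by
      apply U.ι.injective
      rw [← Scheme.Hom.comp_apply, Scheme.Opens.fromSpecStalkOfMem_ι, fromSpecStalk_cp]
      rfl
    rw [h4] at h3
    exact h3

end K708.CurveMod
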