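import Groth.Agent.VBCurve.K708.FrobPull
import Groth.Agent.VBCurve.K708.GenSub
import Groth.Agent.VBCurve.K708.DerivAlg
import Groth.Agent.Fdesc.PullbackStalk
import Groth.Agent.Variety.K430.Frob

/-!
# Stalks of Frobenius pullbacks (helper708)
-/

set_option autoImplicit false
universe u

open CategoryTheory CategoryTheory.Limits AlgebraicGeometry TopologicalSpace Opposite Module

namespace K708.FrobCan

open Groth.Agent Groth.Agent.VarietyA.DegRank K707.Base K707.Deg K707.Slope K707.Semi K708.FrobPull K475.GenStalk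
open Groth.Agent.Fdesc Groth.Agent.CycB.StalkExact

section

variable {X : Scheme.{u}} (p : ℕ) [Fact p.Prime] [FrobSch.IsCharP X p] (E : X.Modules)

/-- Frobenius pullback. -/
noncomputable abbrev FP : X.Modules := (Scheme.Modules.pullback (FrobSch.frob X p)).obj E

/-- The canonical semilinear map `E_x → (F^*E)_x`. -/
noncomputable def can (x : X) : E.presheaf.stalk x →+ (FP p E).presheaf.stalk x :=
  PullbackStalk.canAdd (FrobSch.frob X p) E x

theorem can_germ (x : X) {V : X.Opens} (hV : x ∈ V) (s : Γ(E, V)) :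
    can p E x (E.presheaf.germ V x hV s) = (FP p E).presheaf.germ V x hV
      (((Scheme.Modules.pullbackPushforwardAdjunction (FrobSch.frob X p)).unit.app E).app V s) :=
  PullbackStalk.canAdd_germ (FrobSch.frob X p) E x V hV s

theorem can_smul (x : X) (a : X.presheaf.stalk x) (v : E.presheaf.stalk x) :
    can p E x (a • v) = a ^ p • can p E x v := by
  refine (PullbackStalk.canAdd_smul (FrobSch.frob X p) E x a v).trans ?_
  exact congrArg (fun t : X.presheaf.stalk x => t • can p E x v) (K430.Frob.frob_stalkMap X p x a)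

theorem can_spec {x y : X} (h : y ⤳ x) (v : E.presheaf.stalk x) :
    (FP p E).presheaf.stalkSpecializes h (can p E x v) = can p E y (E.presheaf.stalkSpecializes h v) := by
  obtain ⟨V, hV, s, rfl⟩ := TopCat.Presheaf.exists_germ_eq E.presheaf v
  have h1 : E.presheaf.stalkSpecializes h (E.presheaf.germ V x hV s) =
      E.presheaf.germ V y (h.mem_open V.2 hV) s :=
    TopCat.Presheaf.germ_stalkSpecializes_apply E.presheaf hV h s
  rw [h1, can_germ, can_germ]
  exact TopCat.Presheaf.germ_stalkSpecializes_apply (FP p E).presheaf hV h _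

theorem span_can (x : X) : Submodule.span (X.presheaf.stalk x) (Set.range (can p E x)) = ⊤ :=
  PullbackStalk.span_range_canAdd (FrobSch.frob X p) E x

variable {E}

theorem stalkLin_can {E' : X.Modules} (φ : E ⟶ E') (x : X) (v : E.presheaf.stalk x) :
    stalkLin ((Scheme.Modules.pullback (FrobSch.frob X p)).map φ) x (can p E x v) =
      can p E' x (stalkLin φ x v) := by
  have key : ∀ {Z : Scheme.{u}} {A B : Z.Modules} (ψ : A ⟶ B) (z : Z) (m : A.presheaf.stalk z),
      Skyscraper.stalkMap ψ z m = stalkLin ψ z m := by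
    intro Z A B ψ z m
    obtain ⟨U, hU, s, rfl⟩ := TopCat.Presheaf.exists_germ_eq A.presheaf m
    rw [Skyscraper.stalkMap_germ, stalkLin_germ]
  rw [← key, ← key]
  exact PullbackStalk.stalkMap_pullback_canAdd (FrobSch.frob X p) φ x v

end

section gen

variable {X : Scheme.{u}} [IsIntegral X] (p : ℕ) [Fact p.Prime] [FrobSch.IsCharP X p]

noncomputable instance : Field (X.presheaf.stalk (η X)) := inferInstanceAs (Field X.functionField)

theorem charP_gen : CharP (X.presheaf.stalk (η X)) p := by
  rw [CharP.charP_iff_prime_eq_zero Fact.out]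
  have h := FrobSch.IsCharP.natCast_eq_zero (X := X) (p := p)
  have h2 := congrArg (X.presheaf.germ ⊤ (η X) trivial) h
  simpa using h2

theorem exists_basis {E : X.Modules} (hE : FlatMod.IsFinLocFree E) :
    ∃ (e : Basis (Fin (rk E)) (X.presheaf.stalk (η X)) (E.presheaf.stalk (η X)))
      (b : Basis (Fin (rk E)) (X.presheaf.stalk (η X)) ((FP p E).presheaf.stalk (η X))),
      ∀ i, b i = can p E (η X) (e i) := by
  obtain ⟨e⟩ := K707.Base.exists_basis (isFinLocFreeOfRank_rk hE) (η X)
  have h1 : ⊤ ≤ Submodule.span (X.presheaf.stalk (η X)) (Set.range fun i => can p E (η X) (e i)) := by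
    rw [← span_can p E (η X), Submodule.span_le]
    rintro _ ⟨v, rfl⟩
    rw [← e.sum_repr v, map_sum]
    refine Submodule.sum_mem _ fun i _ => ?_
    rw [can_smul]
    exact Submodule.smul_mem _ _ (Submodule.subset_span ⟨i, rfl⟩)
  have h2 : Fintype.card (Fin (rk E)) =
      finrank (X.presheaf.stalk (η X)) ((FP p E).presheaf.stalk (η X)) := by
    rw [Fintype.card_fin]
    exact (rk_pull (FrobSch.frob X p) hE).symm
  exact ⟨e, basisOfTopLeSpanOfCardEqFinrank _ h1 h2, fun i => by
    rw [coe_basisOfTopLeSpanOfCardEqFinrank]⟩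

end gen

end K708.FrobCan
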