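import Groth.Agent.VBCurve.K708.FrobCan
import Groth.Agent.VBCurve.K708.MaxUniq

/-!
# Frobenius pullback preserves semistability in the presence of a vector field (helper708)
-/

set_option autoImplicit false
universe u

open CategoryTheory CategoryTheory.Limits AlgebraicGeometry TopologicalSpace Opposite Module

namespace K708.FrobSS

open Groth.Agent Groth.Agent.VarietyA.DegRank K707.Base K707.Deg K707.Slope K707.Semi K708.FrobPull K475.GenStalk
open Groth.Agent.CycB.StalkExact K708.FrobCan K708.DerivAlg K708.MaxUniq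

section

variable {X : Scheme.{u}}

theorem stalkMapₗ_eq {A B : X.Modules} (ψ : A ⟶ B) (z : X) (m : A.presheaf.stalk z) :
    RefHull.stalkMapₗ ψ z m = stalkLin ψ z m := by
  obtain ⟨U, hU, s, rfl⟩ := TopCat.Presheaf.exists_germ_eq A.presheaf m
  rw [RefHull.stalkMapₗ_germ, stalkLin_germ]

theorem stalkLin_spec {A B : X.Modules} (ψ : A ⟶ B) {x y : X} (h : y ⤳ x) (m : A.presheaf.stalk x) :
    stalkLin ψ y (A.presheaf.stalkSpecializes h m) = B.presheaf.stalkSpecializes h (stalkLin ψ x m) := by
  rw [← stalkMapₗ_eq, ← stalkMapₗ_eq, stalkMapₗ_spec]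

theorem stalkLin_zero {A B : X.Modules} (x : X) (m : A.presheaf.stalk x) :
    stalkLin (0 : A ⟶ B) x m = 0 := by
  rw [coe_stalkLin, Functor.map_zero]
  rfl

variable [IsIntegral X]

/-- Generic vanishing of a map into a bundle. -/
theorem eq_zero_of_gen {A B : X.Modules} (hB : FlatMod.IsFinLocFree B) (hBq : Coh.IsQCoh B) (ψ : A ⟶ B)
    (h : ∀ m, stalkLin ψ (η X) m = 0) : ψ = 0 := by
  have hI : Inj B := inj_of_isTorsionFree hBq (isTorsionFree_of_isFinLocFree hB)
  apply hom_ext hI
  ext m
  rw [stalkMapₗ_eq, stalkMapₗ_eq, h, stalkLin_zero]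

end

variable {k : Type u} [Field k] {X : Scheme.{u}} [X.Over (Spec (CommRingCat.of k))]
  [IsIntegral X] [IsProper (X ↘ (Spec (CommRingCat.of k)))] (p : ℕ) [Fact p.Prime] [FrobSch.IsCharP X p]

/-- A `∇`-stable saturated submodule of the Frobenius pullback. -/
theorem stable (C : Crv k X) (D : X.presheaf.stalk (η X) →+ X.presheaf.stalk (η X))
    (hD : ∀ a b, D (a * b) = a * D b + b * D a)
    (hDx : ∀ (x : X) (a : X.presheaf.stalk x), ∃ b : X.presheaf.stalk x,
        D (X.presheaf.stalkSpecializes (spec x) a) = X.presheaf.stalkSpecializes (spec x) b)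
    {E M Q : X.Modules} (j : M ⟶ FP p E) (q : FP p E ⟶ Q) (w : j ≫ q = 0)
    (hS : (ShortComplex.mk j q w).ShortExact) (hQ : FlatMod.IsFinLocFree Q) (hMQ : ∀ φ : M ⟶ Q, φ = 0)
    (e : Basis (Fin (rk E)) (X.presheaf.stalk (η X)) (E.presheaf.stalk (η X)))
    (b : Basis (Fin (rk E)) (X.presheaf.stalk (η X)) ((FP p E).presheaf.stalk (η X)))
    (hb : ∀ i, b i = can p E (η X) (e i)) :
    ∀ m ∈ LinearMap.range (stalkLin j (η X)), nabla b D m ∈ LinearMap.range (stalkLin j (η X)) := by
  have hch := charP_gen (X := X) p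
  have hln := isLocNoeth C
  -- `∇` preserves the lattices
  have h1 : ∀ (x : X) (m : (FP p E).presheaf.stalk x), ∃ m' : (FP p E).presheaf.stalk x,
      nabla b D ((FP p E).presheaf.stalkSpecializes (spec x) m) =
        (FP p E).presheaf.stalkSpecializes (spec x) m' := by
    intro x m
    have hm : m ∈ Submodule.span (X.presheaf.stalk x) (Set.range (can p E x)) := by
      rw [span_can]; trivial
    induction hm using Submodule.span_induction with
    | mem _ hx =>
      obtain ⟨v, rfl⟩ := hx
      refine ⟨0, ?_⟩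
      rw [can_spec, ← one_smul (X.presheaf.stalk (η X)) (can p E (η X) _),
        nabla_smul_can p (can p E (η X)) (can_smul p E (η X)) e b hb D hD, deriv_one hD, zero_smul, map_zero]
    | zero => exact ⟨0, by rw [map_zero, map_zero]⟩
    | add x y _ _ hx hy =>
      obtain ⟨x', hx'⟩ := hx
      obtain ⟨y', hy'⟩ := hy
      exact ⟨x' + y', by rw [map_add, map_add, map_add, hx', hy']⟩
    | smul a m _ hm =>
      obtain ⟨m', hm'⟩ := hm
      obtain ⟨a', ha'⟩ := hDx x a
      refine ⟨a' • m + a • m', ?_⟩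
      rw [map_add, CycB.ModStalk.stalkSpecializes_smul, CycB.ModStalk.stalkSpecializes_smul,
        CycB.ModStalk.stalkSpecializes_smul, nabla_smul b D hD, hm', ha']
  -- the linear map
  let T : M.presheaf.stalk (η X) →ₗ[X.presheaf.stalk (η X)] Q.presheaf.stalk (η X) :=
    { toFun := fun m => stalkLin q (η X) (nabla b D (stalkLin j (η X) m))
      map_add' := fun m n => by rw [map_add, map_add, map_add]
      map_smul' := fun a m => by
        have hz : stalkLin q (η X) (stalkLin j (η X) m) = 0 := by
          have := LinearMap.congr_fun (stalkLin_comp j q (η X)) m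
          rw [w, stalkLin_zero] at this
          exact this.symm
        rw [map_smul, nabla_smul b D hD, map_add, map_smul, map_smul, hz, smul_zero, zero_add]
        rfl }
  have hI : Inj Q := inj_of_isTorsionFree (coh_of_vb hQ).1 (isTorsionFree_of_isFinLocFree hQ)
  have hT : ∀ (x : X) (m : M.presheaf.stalk x), T (M.presheaf.stalkSpecializes (spec x) m) ∈
      Set.range (Q.presheaf.stalkSpecializes (spec x)) := by
    intro x m
    obtain ⟨m', hm'⟩ := h1 x (stalkLin j x m)
    refine ⟨stalkLin q x m', ?_⟩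
    change _ = stalkLin q (η X) (nabla b D (stalkLin j (η X) _))
    rw [stalkLin_spec, hm', stalkLin_spec]
  have h2 := stalkMapₗ_homOf hI T hT
  rw [hMQ (homOf hI T hT)] at h2
  rintro _ ⟨m, rfl⟩
  have h3 : stalkLin q (η X) (nabla b D (stalkLin j (η X) m)) = 0 := by
    change T m = 0
    rw [← h2, stalkMapₗ_eq, stalkLin_zero]
  exact ((stalkLin_exact _ hS.exact (η X)) _).mp h3

/-- Frobenius pullback preserves semistability. -/
theorem ss_frob (C : Crv k X) (D : X.presheaf.stalk (η X) →+ X.presheaf.stalk (η X))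
    (hD : ∀ a b, D (a * b) = a * D b + b * D a)
    (hDx : ∀ (x : X) (a : X.presheaf.stalk x), ∃ b : X.presheaf.stalk x,
        D (X.presheaf.stalkSpecializes (spec x) a) = X.presheaf.stalkSpecializes (spec x) b)
    (hker : ∀ a, D a = 0 → ∃ b, b ^ p = a)
    {E : X.Modules} (hE : FlatMod.IsFinLocFree E) (hss : SS k E) : SS k (FP p E) := by
  have hln := isLocNoeth C
  have hch := charP_gen (X := X) p
  have hP : FlatMod.IsFinLocFree (FP p E) := vb_pull _ hE
  have hrP : rk (FP p E) = rk E := rk_pull _ hE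
  rcases Nat.eq_zero_or_pos (rk E) with h0 | hpos
  · intro F i hi hF
    have h1 := rk_le_of_mono C i (coh_of_vb hF) (coh_of_vb hP)
    have h2 : rk F = 0 := by omega
    rw [hrP, h0, h2]
    simp
  obtain ⟨M, j, hM⟩ := exists_isMaxDest C hP (by omega)
  have hm := hM.mono
  have hQ := hM.vb_cokernel C hP
  have hS := cokernel_shortExact j
  have hMQ : ∀ φ : M ⟶ cokernel j, φ = 0 := by
    intro φ
    by_contra hf
    obtain ⟨I, a, i, ha, hi, hai, hI, hIpos, e1, e2, e3, e4⟩ := exists_factor_pos C φ hf (coh_of_vb hM.vb) hQ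
    have h1 := hM.lt I i hi hI hIpos
    have h2 := hM.ss.quot C hM.vb a (coh_of_vb hI)
    omega
  obtain ⟨e, b, hb⟩ := exists_basis p hE
  have hst := stable p C D hD hDx j (cokernel.π j) (cokernel.condition j) hS hQ hMQ e b hb
  have hsp := le_span_can p (can p E (η X)) (can_smul p E (η X)) e b hb D hD hker _ hst
  let W₀ : Submodule (X.presheaf.stalk (η X)) (E.presheaf.stalk (η X)) :=
    { carrier := {v | can p E (η X) v ∈ LinearMap.range (stalkLin j (η X))}
      add_mem' := by
        intro a b ha hb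
        change can p E (η X) (a + b) ∈ LinearMap.range (stalkLin j (η X))
        rw [map_add]
        exact add_mem ha hb
      zero_mem' := by
        change can p E (η X) 0 ∈ LinearMap.range (stalkLin j (η X))
        rw [map_zero]
        exact zero_mem _
      smul_mem' := by
        intro r a ha
        change can p E (η X) (r • a) ∈ LinearMap.range (stalkLin j (η X))
        rw [can_smul]
        exact Submodule.smul_mem _ _ ha }
  have hW₀ : ∀ v, v ∈ W₀ ↔ can p E (η X) v ∈ LinearMap.range (stalkLin j (η X)) := fun v => Iff.rfl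
  obtain ⟨N, R, j', q', w', hS', hN, hR, hrange⟩ := GenSub.exists_saturated E W₀ C hE
  have hpS := shortExact_pull (FrobSch.frob X p) hS' hR
  have hmj : Mono ((Scheme.Modules.pullback (FrobSch.frob X p)).map j') := hpS.mono_f
  have hkill : ∀ m ∈ LinearMap.range (stalkLin j (η X)), stalkLin (cokernel.π j) (η X) m = 0 :=
    fun m hm => ((stalkLin_exact _ hS.exact (η X)) m).mpr hm
  have hkill' : ∀ m ∈ LinearMap.range (stalkLin j' (η X)), stalkLin q' (η X) m = 0 :=
    fun m hm => ((stalkLin_exact _ hS'.exact (η X)) m).mpr hm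
  -- `F^*N → Q` vanishes
  have ha : (Scheme.Modules.pullback (FrobSch.frob X p)).map j' ≫ cokernel.π j = 0 := by
    refine eq_zero_of_gen hQ (coh_of_vb hQ).1 _ fun m => ?_
    have hm : m ∈ Submodule.span (X.presheaf.stalk (η X)) (Set.range (can p N (η X))) := by
      rw [span_can]; trivial
    induction hm using Submodule.span_induction with
    | mem _ hx =>
      obtain ⟨v, rfl⟩ := hx
      rw [stalkLin_comp, LinearMap.comp_apply, stalkLin_can]
      apply hkill
      rw [← hW₀, ← hrange]
      exact ⟨v, rfl⟩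
    | zero => rw [map_zero]
    | add x y _ _ hx hy => rw [map_add, hx, hy, add_zero]
    | smul a m _ hm => rw [map_smul, hm, smul_zero]
  -- `M → F^*R` vanishes
  have hc : j ≫ (Scheme.Modules.pullback (FrobSch.frob X p)).map q' = 0 := by
    refine eq_zero_of_gen (vb_pull _ hR) (coh_of_vb (vb_pull _ hR)).1 _ fun m => ?_
    rw [stalkLin_comp, LinearMap.comp_apply]
    have h1 : stalkLin j (η X) m ∈ Submodule.span (X.presheaf.stalk (η X))
        (can p E (η X) '' {v | can p E (η X) v ∈ LinearMap.range (stalkLin j (η X))}) := hsp ⟨m, rfl⟩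
    generalize stalkLin j (η X) m = m' at h1 ⊢
    induction h1 using Submodule.span_induction with
    | mem _ hx =>
      obtain ⟨v, hv, rfl⟩ := hx
      rw [stalkLin_can, hkill' v, map_zero]
      rw [hrange]
      exact hv
    | zero => rw [map_zero]
    | add x y _ _ hx hy => rw [map_add, hx, hy, add_zero]
    | smul a m _ hm => rw [map_smul, hm, smul_zero]
  obtain ⟨a, ha'⟩ : ∃ a : FP p N ⟶ M, a ≫ j = (Scheme.Modules.pullback (FrobSch.frob X p)).map j' := by
    obtain ⟨a, ha'⟩ := KernelFork.IsLimit.lift' hS.fIsKernel _ ha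
    exact ⟨a, ha'⟩
  obtain ⟨c, hc'⟩ : ∃ c : M ⟶ FP p N, c ≫ (Scheme.Modules.pullback (FrobSch.frob X p)).map j' = j := by
    obtain ⟨c, hc'⟩ := KernelFork.IsLimit.lift' hpS.fIsKernel _ hc
    exact ⟨c, hc'⟩
  have hma : Mono a := by
    have : Mono (a ≫ j) := by rw [ha']; exact hmj
    exact mono_of_mono a j
  have hmc : Mono c := by
    have : Mono (c ≫ (Scheme.Modules.pullback (FrobSch.frob X p)).map j') := by rw [hc']; exact hm
    exact mono_of_mono c ((Scheme.Modules.pullback (FrobSch.frob X p)).map j')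
  have hFN : FlatMod.IsFinLocFree (FP p N) := vb_pull _ hN
  have r1 := rk_le_of_mono C a (coh_of_vb hFN) (coh_of_vb hM.vb)
  have r2 := rk_le_of_mono C c (coh_of_vb hM.vb) (coh_of_vb hFN)
  have r3 : rk (FP p N) = rk N := rk_pull _ hN
  have d1 := dg_le_of_mono C c (coh_of_vb hM.vb) (coh_of_vb hFN) r1
  have d2 : dg k (FP p N) = p * dg k N := dg_frob p C hN
  have d3 : dg k (FP p E) = p * dg k E := dg_frob p C hE
  have hmj' : Mono j' := hS'.mono_f
  have d4 := hss N j' hmj' hN
  intro F i hi hF
  have d5 := hM.le F i hi hF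
  have r4 : rk M = rk N := by omega
  have hp : (0 : ℤ) < p := by exact_mod_cast (Fact.out : p.Prime).pos
  have d6 : dg k M * rk E ≤ (p * dg k E) * rk M := by
    rw [r4]
    calc dg k M * rk E ≤ (p * dg k N) * rk E :=
          mul_le_mul_of_nonneg_right (by rw [← d2]; exact d1) (by positivity)
      _ = p * (dg k N * rk E) := by ring
      _ ≤ p * (dg k E * rk N) := mul_le_mul_of_nonneg_left d4 hp.le
      _ = _ := by ring
  rw [hrP, d3]
  have hM0 : (0 : ℤ) < rk M := by exact_mod_cast hM.pos
  have h7 : dg k F * rk E * rk M ≤ p * dg k E * rk F * rk M := by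
    calc dg k F * rk E * rk M = (dg k F * rk M) * rk E := by ring
      _ ≤ (dg k M * rk F) * rk E := mul_le_mul_of_nonneg_right d5 (by positivity)
      _ = (dg k M * rk E) * rk F := by ring
      _ ≤ ((p * dg k E) * rk M) * rk F := mul_le_mul_of_nonneg_right d6 (by positivity)
      _ = _ := by ring
  exact le_of_mul_le_mul_right h7 hM0

end K708.FrobSS
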