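import Groth.Agent.EGA2.K33.CurveMap
import Mathlib.FieldTheory.IsSepClosed
import Mathlib.FieldTheory.Galois.Basic
import Mathlib.FieldTheory.Normal.Closure

/-!
# Maps of function fields (helper708)
-/

set_option autoImplicit false
universe u

open CategoryTheory CategoryTheory.Limits AlgebraicGeometry TopologicalSpace Opposite Module

namespace K708.GenMap

open Groth.Agent

section field

/-- Galois closure of a finite separable extension. -/
theorem exists_galois_closure (K L : Type u) [Field K] [Field L] [Algebra K L] [FiniteDimensional K L]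
    [Algebra.IsSeparable K L] :
    ∃ (N : Type u) (_ : Field N) (_ : Algebra K N) (_ : L →ₐ[K] N), IsGalois K N ∧ FiniteDimensional K N := by
  let M := SeparableClosure K
  let φ : L →ₐ[K] M := IsSepClosed.lift
  let : Algebra L M := φ.toRingHom.toAlgebra
  have : IsScalarTower K L M := IsScalarTower.of_algebraMap_eq fun x => (φ.commutes x).symm
  exact ⟨IntermediateField.normalClosure K L M, inferInstance, inferInstance, IsScalarTower.toAlgHom K L _, inferInstance,
    inferInstance⟩

end field

section gmap

variable {X Y Z : Scheme.{u}} [IsIntegral X] [IsIntegral Y] [IsIntegral Z]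

/-- The map of function fields. -/
noncomputable def gmap (f : X ⟶ Y) (h : f (genericPoint X) = genericPoint Y) :
    Y.presheaf.stalk (genericPoint Y) →+* X.presheaf.stalk (genericPoint X) :=
  (Y.presheaf.stalkSpecializes (specializes_of_eq h) ≫ f.stalkMap (genericPoint X)).hom

theorem specMap_gmap (f : X ⟶ Y) (h : f (genericPoint X) = genericPoint Y) :
    Spec.map (CommRingCat.ofHom (gmap f h)) ≫ Y.fromSpecStalk (genericPoint Y) =
      X.fromSpecStalk (genericPoint X) ≫ f :=
  K33.CurveMap.fromSpecStalk_comp f (genericPoint X) (genericPoint Y) (specializes_of_eq h)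

theorem gmap_eq_of_comp (f : X ⟶ Y) (h : f (genericPoint X) = genericPoint Y)
    (φ : Y.presheaf.stalk (genericPoint Y) →+* X.presheaf.stalk (genericPoint X))
    (hφ : Spec.map (CommRingCat.ofHom φ) ≫ Y.fromSpecStalk (genericPoint Y) =
      X.fromSpecStalk (genericPoint X) ≫ f) : gmap f h = φ := by
  have h1 : CommRingCat.ofHom (gmap f h) = CommRingCat.ofHom φ := by
    apply Spec.map_injective
    rw [← cancel_mono (Y.fromSpecStalk (genericPoint Y)), specMap_gmap, hφ]
  exact congrArg CommRingCat.Hom.hom h1

theorem gmap_comp (f : X ⟶ Y) (g : Y ⟶ Z) (hf : f (genericPoint X) = genericPoint Y)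
    (hg : g (genericPoint Y) = genericPoint Z) (h : (f ≫ g) (genericPoint X) = genericPoint Z) :
    gmap (f ≫ g) h = (gmap f hf).comp (gmap g hg) := by
  apply gmap_eq_of_comp
  rw [CommRingCat.ofHom_comp, Spec.map_comp, Category.assoc, specMap_gmap, ← Category.assoc, specMap_gmap,
    Category.assoc]

theorem gmap_id (h : (𝟙 X : X ⟶ X) (genericPoint X) = genericPoint X) : gmap (𝟙 X) h = RingHom.id _ := by
  apply gmap_eq_of_comp
  rw [Category.comp_id]
  change Spec.map (𝟙 _) ≫ _ = _
  rw [Spec.map_id, Category.id_comp]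

instance : IsDominant (X.fromSpecStalk (genericPoint X)) := by
  refine ⟨dense_iff_closure_eq.mpr ?_⟩
  refine Set.eq_univ_of_univ_subset ?_
  rw [← (genericPoint_spec X).def]
  refine closure_mono (Set.singleton_subset_iff.mpr ?_)
  exact ⟨_, K33.NormalExt.fromSpecStalk_apply_of_field (IsLocalRing.closedPoint (X.presheaf.stalk (genericPoint X)) : PrimeSpectrum _)⟩

theorem eq_of_gmap {S : Scheme.{u}} (s : Y ⟶ S) [IsSeparated s] {f g : X ⟶ Y} (hs : f ≫ s = g ≫ s)
    (hf : f (genericPoint X) = genericPoint Y) (hg : g (genericPoint X) = genericPoint Y)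
    (h : gmap f hf = gmap g hg) : f = g := by
  refine ext_of_isDominant_of_isSeparated s hs (X.fromSpecStalk (genericPoint X)) ?_
  rw [← specMap_gmap f hf, ← specMap_gmap g hg, h]

variable (k : Type u) [Field k] [X.Over (Spec (CommRingCat.of k))] [Y.Over (Spec (CommRingCat.of k))]

theorem gmap_stalkMap (f : X ⟶ Y) (ov : f ≫ (Y ↘ (Spec (CommRingCat.of k))) = X ↘ (Spec (CommRingCat.of k)))
    (h : f (genericPoint X) = genericPoint Y) (c : k) :
    gmap f h (Curv2.stalkMap k Y (genericPoint Y) c) = Curv2.stalkMap k X (genericPoint X) c := by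
  have h1 : CommRingCat.ofHom (Curv2.stalkMap k Y (genericPoint Y)) ≫ CommRingCat.ofHom (gmap f h) =
      CommRingCat.ofHom (Curv2.stalkMap k X (genericPoint X)) := by
    apply Spec.map_injective
    rw [Spec.map_comp, VarietyA.ResMap.specMap_stalkMap, VarietyA.ResMap.specMap_stalkMap, ← Category.assoc,
      specMap_gmap, Category.assoc, ov]
  exact congrArg (fun φ : CommRingCat.of k ⟶ X.presheaf.stalk (genericPoint X) => φ.hom c) h1

end gmap

end K708.GenMap
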