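import Groth.Agent.VBCurve.K708.PullGal
import Groth.Agent.VBCurve.K708.GenMap
import Groth.Agent.Gaga.H565.CurveOfDomain
import Groth.Agent.Ega2.CurveFF

/-!
# Galois closure of a separable cover of curves; pullback of semistable bundles (helper708)
-/

set_option autoImplicit false
universe u

open CategoryTheory CategoryTheory.Limits AlgebraicGeometry TopologicalSpace Opposite Module

namespace K708.GalCov

open Groth.Agent Groth.Agent.VarietyA.DegRank K707.Base K707.Deg K707.Slope K707.Semi K705.Cov K708.GenMap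
open K705.GenGal K708.PullGal Groth.Agent.Fdesc.PullbackStalk

attribute [local instance] Curv2.stalkAlgebra

theorem isDominant_of {X Y : Scheme.{u}} [IsIntegral X] [IsIntegral Y] (f : X ⟶ Y)
    (h : f (genericPoint X) = genericPoint Y) : IsDominant f := by
  refine ⟨dense_iff_closure_eq.mpr ?_⟩
  refine Set.eq_univ_of_univ_subset ?_
  rw [← (genericPoint_spec Y).def]
  exact closure_mono (Set.singleton_subset_iff.mpr ⟨_, h⟩)

variable {k : Type u} [Field k] {X Y : Scheme.{u}} [X.Over (Spec (CommRingCat.of k))]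
  [Y.Over (Spec (CommRingCat.of k))] [IsIntegral X] [IsProper (X ↘ (Spec (CommRingCat.of k)))]
  [IsIntegral Y] [IsProper (Y ↘ (Spec (CommRingCat.of k)))] {f : Y ⟶ X} {n : ℕ}

theorem finrank_gmap (h : IsCov k f n) (hf : f (genericPoint Y) = genericPoint X) :
    letI := (gmap f hf).toAlgebra
    finrank (X.presheaf.stalk (genericPoint X)) (Y.presheaf.stalk (genericPoint Y)) = n := by
  letI := (gmap f hf).toAlgebra
  have h1 := finrank_gen h
  rw [← h1]
  letI := stalkAlg f (genericPoint Y)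
  refine Algebra.finrank_eq_of_equiv_equiv
    (X.presheaf.stalkCongr (.of_eq hf.symm)).commRingCatIsoToRingEquiv (RingEquiv.refl _) ?_
  ext a
  rfl

/-- A separable cover is dominated by a Galois cover. -/
theorem exists_galois_cover [PerfectField k] (h : IsCov k f n) (hf : f (genericPoint Y) = genericPoint X)
    (hsep : @Algebra.IsSeparable (X.presheaf.stalk (genericPoint X)) (Y.presheaf.stalk (genericPoint Y)) _ _
      (gmap f hf).toAlgebra) :
    ∃ (Z : Scheme.{u}) (_ : Z.Over (Spec (CommRingCat.of k))) (_ : IsIntegral Z)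
      (_ : IsProper (Z ↘ (Spec (CommRingCat.of k)))) (_ : Smooth (Z ↘ (Spec (CommRingCat.of k)))) (g : Z ⟶ Y)
      (m N : ℕ) (_ : IsCov k g m) (_ : IsCov k (g ≫ f) N) (ι : Type u) (_ : Fintype ι) (_ : DecidableEq ι)
      (σ : ι → (Z ⟶ Z)) (i₀ : ι), (∀ a, σ a ≫ g ≫ f = g ≫ f) ∧ (∀ a, IsIso (σ a)) ∧ Function.Injective σ ∧
        Fintype.card ι = N ∧ σ i₀ = 𝟙 Z := by
  classical
  let _ : Field (X.presheaf.stalk (genericPoint X)) := inferInstanceAs (Field X.functionField)
  let _ : Field (Y.presheaf.stalk (genericPoint Y)) := inferInstanceAs (Field Y.functionField)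
  let _ := (gmap f hf).toAlgebra
  have := hsep
  have hfd : FiniteDimensional (X.presheaf.stalk (genericPoint X)) (Y.presheaf.stalk (genericPoint Y)) :=
    Module.finite_of_finrank_pos (by rw [finrank_gmap h hf]; exact pos_of h)
  obtain ⟨N, _, _, ψ, _, _⟩ := exists_galois_closure (X.presheaf.stalk (genericPoint X))
    (Y.presheaf.stalk (genericPoint Y))
  let _ : Algebra k N := ((algebraMap (X.presheaf.stalk (genericPoint X)) N).comp
    (Curv2.stalkMap k X (genericPoint X))).toAlgebra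
  have : IsScalarTower k (X.presheaf.stalk (genericPoint X)) N := IsScalarTower.of_algebraMap_eq fun c => rfl
  have hess : Algebra.EssFiniteType k (X.presheaf.stalk (genericPoint X)) :=
    IntermediateField.fg_top_iff.mp (Ega2.CurveFF.fg_top k X)
  have hess' : Algebra.EssFiniteType k N := Algebra.EssFiniteType.comp k (X.presheaf.stalk (genericPoint X)) N
  have htrX : Algebra.trdeg k (X.presheaf.stalk (genericPoint X)) = 1 := by
    have h1 := VarietyB.DimSch.topologicalKrullDim_eq_trd k (X := X)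
    rw [h.crvY.dim] at h1
    have h2 : VarietyB.DimSch.trd k X (genericPoint X) = 1 := by exact_mod_cast h1.symm
    rw [Ega2.CurveFF.trdeg_stalk_genericPoint, h2, Nat.cast_one]
  have htr : Algebra.trdeg k N = 1 := by
    have h1 := trdeg_add_eq k (X.presheaf.stalk (genericPoint X)) (A := N)
    rw [htrX, trdeg_eq_zero, add_zero] at h1
    exact h1.symm
  obtain ⟨Z, hZo, hZi, hZp, hZn, hZd, e, he⟩ := S2345.result k N (IntermediateField.fg_top k N) htr
  have hZs := Gaga.H565.CurveOfDomain.smoothOfRelativeDimension_one k Z hZn hZd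
  have hZs' : Smooth (Z ↘ (Spec (CommRingCat.of k))) := hZs.smooth
  have hZnoe : IsNoetherian Z := isNoetherian k (X := Z)
  have hZdim : topologicalKrullDim Z = 1 := by
    rw [VarietyB.DimSch.topologicalKrullDim_eq_trd k, Groth.Agent.Ega2.NormalCompl.trd_eq_one k hZd]
    rfl
  have cZ : Crv k Z := Crv.of_smooth hZdim
  have he' : ∀ c, Curv2.stalkMap k Z (genericPoint Z) c =
      e.symm (algebraMap (X.presheaf.stalk (genericPoint X)) N (Curv2.stalkMap k X (genericPoint X) c)) := by
    intro c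
    apply e.injective
    rw [RingEquiv.apply_symm_apply]
    exact he c
  -- the map `Z → Y`
  let φ₀ : Y.presheaf.stalk (genericPoint Y) →+* Z.presheaf.stalk (genericPoint Z) :=
    (e.symm : N →+* Z.presheaf.stalk (genericPoint Z)).comp ψ.toRingHom
  obtain ⟨g, ⟨hg1, hg2, hg3⟩, -⟩ := K33.CurveMap.existsUnique k Z Y hZd hZn (CommRingCat.ofHom φ₀) (by
      intro c
      rw [he', ← gmap_stalkMap k f h.ov hf]
      exact congrArg e.symm (ψ.commutes _))
  have hg4 : gmap g hg2 = φ₀ := congrArg CommRingCat.Hom.hom hg3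
  have hgf : (g ≫ f) (genericPoint Z) = genericPoint X := by
    rw [Scheme.Hom.comp_apply]
    exact (congrArg f hg2).trans hf
  have hgfφ : gmap (g ≫ f) hgf = (e.symm : N →+* Z.presheaf.stalk (genericPoint Z)).comp
      (algebraMap (X.presheaf.stalk (genericPoint X)) N) := by
    rw [gmap_comp g f hg2 hf, hg4]
    ext x
    exact congrArg e.symm (ψ.commutes x)
  have hdomg := isDominant_of g hg2
  have hfing := S7640.isFinite_of_nonconstant k Z Y hZdim h.crvX.dim g hg1 hg2
  obtain ⟨m, hm⟩ := exists_isCov g hg1 cZ h.crvX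
  have hovgf : (g ≫ f) ≫ (X ↘ (Spec (CommRingCat.of k))) = Z ↘ (Spec (CommRingCat.of k)) := by
    rw [Category.assoc, h.ov, hg1]
  have hdomgf := isDominant_of (g ≫ f) hgf
  have hfingf := S7640.isFinite_of_nonconstant k Z X hZdim h.crvY.dim (g ≫ f) hovgf hgf
  obtain ⟨n', hn'⟩ := exists_isCov (g ≫ f) hovgf cZ h.crvY
  -- the automorphisms
  let φ : (N ≃ₐ[X.presheaf.stalk (genericPoint X)] N) →
      (Z.presheaf.stalk (genericPoint Z) →+* Z.presheaf.stalk (genericPoint Z)) := fun τ =>
    ((e.symm : N →+* Z.presheaf.stalk (genericPoint Z)).comp (τ : N →+* N)).comp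
      (e : Z.presheaf.stalk (genericPoint Z) →+* N)
  have hφ : ∀ τ x, φ τ x = e.symm (τ (e x)) := fun _ _ => rfl
  have hex : ∀ τ, ∃ s : Z ⟶ Z, s ≫ (Z ↘ (Spec (CommRingCat.of k))) = Z ↘ (Spec (CommRingCat.of k)) ∧
      ∃ hs : s (genericPoint Z) = genericPoint Z, gmap s hs = φ τ := by
    intro τ
    obtain ⟨s, ⟨h1, h2, h3⟩, -⟩ := K33.CurveMap.existsUnique k Z Z hZd hZn (CommRingCat.ofHom (φ τ)) (by
      intro c
      change φ τ _ = _
      rw [hφ, he', RingEquiv.apply_symm_apply, τ.commutes])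
    exact ⟨s, h1, h2, congrArg CommRingCat.Hom.hom h3⟩
  choose σ hσ1 hσ2 hσ3 using hex
  have hcompη : ∀ τ τ', (σ τ ≫ σ τ') (genericPoint Z) = genericPoint Z := by
    intro τ τ'
    rw [Scheme.Hom.comp_apply]
    exact (congrArg (σ τ') (hσ2 τ)).trans (hσ2 τ')
  have hid0 : (𝟙 Z : Z ⟶ Z) (genericPoint Z) = genericPoint Z := rfl
  have hid : ∀ τ τ', (∀ x, τ (τ' x) = x) → σ τ ≫ σ τ' = 𝟙 Z := by
    intro τ τ' hττ
    refine eq_of_gmap (Z ↘ (Spec (CommRingCat.of k))) ?_ (hcompη τ τ') hid0 ?_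
    · rw [Category.assoc, hσ1, hσ1, Category.id_comp]
    · rw [gmap_comp _ _ (hσ2 τ) (hσ2 τ'), hσ3, hσ3, gmap_id (X := Z) hid0]
      ext x
      change φ τ (φ τ' x) = x
      rw [hφ, hφ, RingEquiv.apply_symm_apply, hττ, RingEquiv.symm_apply_apply]
  refine ⟨Z, hZo, hZi, hZp, hZs', g, m, n', hm, hn', (N ≃ₐ[X.presheaf.stalk (genericPoint X)] N), inferInstance,
    Classical.decEq _, σ, AlgEquiv.refl, ?_, ?_, ?_, ?_, ?_⟩
  · intro τ
    have h1 : (σ τ ≫ g ≫ f) (genericPoint Z) = genericPoint X := by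
      rw [Scheme.Hom.comp_apply]
      exact (congrArg (g ≫ f) (hσ2 τ)).trans hgf
    refine eq_of_gmap (X ↘ (Spec (CommRingCat.of k))) ?_ h1 hgf ?_
    · rw [Category.assoc, hovgf, hσ1]
    · rw [gmap_comp _ _ (hσ2 τ) hgf, hσ3, hgfφ]
      ext x
      change φ τ (e.symm _) = e.symm _
      rw [hφ, RingEquiv.apply_symm_apply, τ.commutes]
  · intro τ
    exact ⟨σ τ.symm, hid _ _ (fun x => τ.apply_symm_apply x), hid _ _ (fun x => τ.symm_apply_apply x)⟩
  · intro τ τ' hττ
    have h1 : φ τ = φ τ' := by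
      rw [← hσ3, ← hσ3]
      congr 1
    ext x
    have h2 := congrArg (fun ψ : Z.presheaf.stalk (genericPoint Z) →+* Z.presheaf.stalk (genericPoint Z) =>
      ψ (e.symm x)) h1
    simp only [hφ, RingEquiv.apply_symm_apply] at h2
    exact e.symm.injective h2
  · rw [← Nat.card_eq_fintype_card, IsGalois.card_aut_eq_finrank, ← finrank_gmap hn' hgf]
    let _ := (gmap (g ≫ f) hgf).toAlgebra
    refine Algebra.finrank_eq_of_equiv_equiv (RingEquiv.refl _) e.symm ?_
    ext x
    change gmap (g ≫ f) hgf x = e.symm (algebraMap _ N x)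
    rw [hgfφ]
    rfl
  · refine eq_of_gmap (Z ↘ (Spec (CommRingCat.of k))) ?_ (hσ2 _) hid0 ?_
    · rw [hσ1, Category.id_comp]
    · rw [hσ3, gmap_id (X := Z) hid0]
      ext x
      change φ _ x = x
      rw [hφ]
      exact e.symm_apply_apply x

end K708.GalCov
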