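import Groth.Agent.VBCurve.K708.Cliff
import Groth.Agent.VBCurve.K704.HomK
import Groth.Agent.VBCurve.K703.HomFin
import Groth.Agent.VBCurve.K703.Scalar
import Groth.Agent.Sga67.LocBasisOps
import Groth.Agent.VBCurve.K707.DetSplit

/-!
# Kernels of evaluation maps (helper708)
-/

set_option autoImplicit false
universe u

open CategoryTheory CategoryTheory.Limits AlgebraicGeometry TopologicalSpace Opposite Module

namespace K708.Syz

open Groth.Agent Groth.Agent.VarietyA.DegRank K707.Base K707.Deg K707.Slope K707.Semi K707.TensL K708.Coho K708.SSH0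
open K708.PtTwist K703.Duality

section free

variable {X : Scheme.{u}}

/-- projections -/
noncomputable def pr (m : ℕ) (j : Fin m) : FlatMod.freeMod X m ⟶ Coh.structureModule X := by
  classical
  exact Sigma.desc fun i => if i = j then 𝟙 (Coh.structureModule X) else 0

/-- inclusions -/
noncomputable def inc (m : ℕ) (j : Fin m) : Coh.structureModule X ⟶ FlatMod.freeMod X m :=
  Sigma.ι (fun _ : Fin m => Coh.structureModule X) j

theorem inc_pr (m : ℕ) (i j : Fin m) : inc (X := X) m i ≫ pr m j = if i = j then 𝟙 _ else 0 := by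
  classical
  rw [inc, pr]
  refine (Sigma.ι_desc _ _).trans ?_
  split_ifs <;> rfl

theorem sum_pr_inc (m : ℕ) : ∑ j, pr (X := X) m j ≫ inc m j = 𝟙 _ := by
  refine Sigma.hom_ext _ _ fun a => ?_
  rw [Preadditive.comp_sum, Category.comp_id, Finset.sum_eq_single a]
  · rw [← Category.assoc]
    change (inc m a ≫ pr m a) ≫ inc m a = inc m a
    rw [inc_pr, if_pos rfl, Category.id_comp]
  · intro b _ hb
    rw [← Category.assoc]
    change (inc m a ≫ pr m b) ≫ inc m b = 0
    rw [inc_pr, if_neg (Ne.symm hb), zero_comp]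
  · intro h
    exact absurd (Finset.mem_univ _) h

end free

variable {k : Type u} [Field k] [IsAlgClosed k] {X : Scheme.{u}} [X.Over (Spec (CommRingCat.of k))]
  [IsIntegral X] [IsProper (X ↘ (Spec (CommRingCat.of k)))]

variable (k) in
/-- The evaluation map. -/
noncomputable def ev {n : ℕ} (M : X.Modules) (b : Basis (Fin n) k (Coh.structureModule X ⟶ M)) :
    FlatMod.freeMod X n ⟶ M := Sigma.desc b

omit [IsAlgClosed k] [IsIntegral X] [IsProper (X ↘ (Spec (CommRingCat.of k)))] in
theorem inc_ev {n : ℕ} (M : X.Modules) (b : Basis (Fin n) k (Coh.structureModule X ⟶ M)) (i : Fin n) :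
    inc n i ≫ ev k M b = b i := Sigma.ι_desc _ _

theorem hom_ker_eq_zero {n : ℕ} (M : X.Modules) (b : Basis (Fin n) k (Coh.structureModule X ⟶ M))
    (φ : Coh.structureModule X ⟶ kernel (ev k M b)) : φ = 0 := by
  rw [← cancel_mono (kernel.ι _), zero_comp]
  set s := φ ≫ kernel.ι (ev k M b) with hs
  have hs0 : s ≫ ev k M b = 0 := by rw [hs, Category.assoc, kernel.condition, comp_zero]
  have hO : PicF.IsInvertible (Coh.structureModule X) := rank_one_iff.mp rank_structureModule
  choose c hc using fun j => K703.Scalar.end_scalar (k := k) hO (s ≫ pr n j)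
  have h1 : s = ∑ j, c j • inc n j := by
    conv_lhs => rw [← Category.comp_id s, ← sum_pr_inc, Preadditive.comp_sum]
    refine Finset.sum_congr rfl fun j _ => ?_
    rw [← Category.assoc, hc, Linear.smul_comp, Category.id_comp]
  rw [h1, Preadditive.sum_comp] at hs0
  simp only [Linear.smul_comp, inc_ev] at hs0
  have h2 := Fintype.linearIndependent_iff.mp b.linearIndependent c hs0
  rw [h1]
  simp [h2]

omit [IsAlgClosed k] [IsIntegral X] [IsProper (X ↘ (Spec (CommRingCat.of k)))] in
theorem epi_ev {n : ℕ} (M : X.Modules) (b : Basis (Fin n) k (Coh.structureModule X ⟶ M))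
    (h : Curv2.IsGloballyGenerated M) : Epi (ev k M b) := by
  obtain ⟨ι, p, hp⟩ := h
  refine Preadditive.epi_of_cancel_zero _ fun {Z} t ht => ?_
  have h1 : ∀ s : Coh.structureModule X ⟶ M, s ≫ t = 0 := by
    intro s
    have h2 : s ∈ Submodule.span k (Set.range b) := by rw [b.span_eq]; trivial
    induction h2 using Submodule.span_induction with
    | mem _ hx =>
      obtain ⟨i, rfl⟩ := hx
      rw [← inc_ev, Category.assoc, ht, comp_zero]
    | zero => rw [zero_comp]
    | add x y _ _ hx hy => rw [Preadditive.add_comp, hx, hy, add_zero]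
    | smul a m _ hm => rw [Linear.smul_comp, hm, smul_zero]
  let p' : (∐ fun _ : ι => Coh.structureModule X) ⟶ M := p
  have hp' : Epi p' := hp
  have h3 : p' ≫ t = 0 := by
    refine Sigma.hom_ext _ _ fun i => ?_
    rw [comp_zero, ← Category.assoc]
    exact h1 _
  exact (cancel_epi p').mp (h3.trans comp_zero.symm)

variable [Smooth (X ↘ (Spec (CommRingCat.of k)))]

/-- The evaluation kernel of a line bundle. -/
structure IsSyz (k : Type u) [Field k] {X : Scheme.{u}} [X.Over (Spec (CommRingCat.of k))] {K L : X.Modules} {n : ℕ}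
    (i : K ⟶ FlatMod.freeMod X n) (e : FlatMod.freeMod X n ⟶ L) : Prop where
  w : i ≫ e = 0
  exact' : (ShortComplex.mk i e w).ShortExact
  h0 : ∀ φ : Coh.structureModule X ⟶ K, φ = 0
  inv : PicF.IsInvertible L
  h0L : finrank k (Coh.HH X L 0) = n

/-- `h¹ = 0` in large degree. -/
theorem subsingleton_h1 (C : Crv k X) {L : X.Modules} (hL : PicF.IsInvertible L)
    (hd : 2 * (Curv2.genus k X : ℤ) - 2 < dg k L) : Subsingleton (Coh.HH X L 1) := by
  obtain ⟨D⟩ := K703.Duality.nonempty_dualizing k X C.dim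
  have hdw := D.deg_w_of_isAlgClosed C.dim
  rw [← dg_of_rank k (rank_one_iff.mpr D.inv)] at hdw
  refine D.subsingleton_h1 (coh_inv hL).1 fun φ => ?_
  by_contra hφ
  have hm : Mono φ := mono_of_rank_one C (rank_one_iff.mpr hL) (vb_of_inv D.inv) φ hφ
  have := dg_le_of_mono C φ (coh_inv hL) (coh_inv D.inv) (by rw [rk_inv hL, rk_inv D.inv])
  omega

theorem gg_of_dg (C : Crv k X) {L : X.Modules} (hL : PicF.IsInvertible L)
    (hd : 2 * (Curv2.genus k X : ℤ) ≤ dg k L) : Curv2.IsGloballyGenerated L := by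
  obtain ⟨D⟩ := K703.Duality.nonempty_dualizing k X C.dim
  have hdw := D.deg_w_of_isAlgClosed C.dim
  rw [← dg_of_rank k (rank_one_iff.mpr D.inv)] at hdw
  refine K703.GlobGen.isGloballyGenerated_of C D (coh_inv hL) fun L' hL' hd' φ => ?_
  by_contra hφ
  have hm : Mono φ := mono_of_rank_one C (rank_one_iff.mpr hL) (vb_of_inv hL') φ hφ
  have := dg_le_of_mono C φ (coh_inv hL) (coh_inv hL') (by rw [rk_inv hL, rk_inv hL'])
  omega

/-- Existence of the evaluation kernel. -/
theorem exists_isSyz (C : Crv k X) {L : X.Modules} (hL : PicF.IsInvertible L)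
    (hd : 2 * (Curv2.genus k X : ℤ) ≤ dg k L) :
    ∃ (n : ℕ) (K : X.Modules) (i : K ⟶ FlatMod.freeMod X n) (e : FlatMod.freeMod X n ⟶ L),
      IsSyz k i e ∧ (n : ℤ) = dg k L + 1 - Curv2.genus k X := by
  have hfin : Module.Finite k (Coh.structureModule X ⟶ L) :=
    K703.HomFin.finite_hom _ _ _ (coh_inv (rank_one_iff.mp rank_structureModule)) (coh_inv hL)
  have hn := K704.HomK.finrank_hom k L
  have h1 := subsingleton_h1 C hL (by omega)
  have h2 := K708.Cliff.rr C (M := L)
  rw [Module.finrank_zero_of_subsingleton (M := Coh.HH X L 1), rk_inv hL] at h2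
  let b := finBasis k (Coh.structureModule X ⟶ L)
  have hepi := epi_ev L b (gg_of_dg C hL hd)
  refine ⟨_, kernel (ev k L b), kernel.ι _, ev k L b, ⟨kernel.condition _, kernel_shortExact _, hom_ker_eq_zero L b, hL,
    hn.symm⟩, ?_⟩
  rw [hn]
  push_cast at h2
  linarith

omit [IsAlgClosed k] [X.Over (Spec (CommRingCat.of k))] [IsProper (X ↘ (Spec (CommRingCat.of k)))]
  [Smooth (X ↘ (Spec (CommRingCat.of k)))] in
theorem rk_free (n : ℕ) : rk (FlatMod.freeMod X n) = n :=
  rk_of_rank (Krr.H495.Rank.isFinLocFreeOfRank_iff'.mpr fun _ =>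
    ⟨⊤, trivial, _, Groth.Agent.Sga67.LocBasis.free_isLocBasis X n⟩)

omit [IsAlgClosed k] [X.Over (Spec (CommRingCat.of k))] [IsIntegral X] [IsProper (X ↘ (Spec (CommRingCat.of k)))]
  [Smooth (X ↘ (Spec (CommRingCat.of k)))] in
theorem vb_free (n : ℕ) : FlatMod.IsFinLocFree (FlatMod.freeMod X n) := Dcoh.FinLocFree.isFinLocFree_freeMod X n

theorem IsSyz.numbers (C : Crv k X) {K L : X.Modules} {n : ℕ} {i : K ⟶ FlatMod.freeMod X n}
    {e : FlatMod.freeMod X n ⟶ L} (h : IsSyz k i e) :
    FlatMod.IsFinLocFree K ∧ n = rk K + 1 ∧ dg k K = - dg k L := by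
  have hi := h.exact'.mono_f
  have he := h.exact'.epi_g
  have hK := isCoh_left k _ h.exact' (coh_of_vb (vb_free n)) (coh_inv h.inv).1
  have h1 := rk_add' k _ h.exact' (coh_of_vb (vb_free n))
  have h2 := dg_add k _ h.exact' hK (coh_of_vb (vb_free n)) (coh_inv h.inv)
  simp only at h1 h2
  rw [rk_free, rk_inv h.inv] at h1
  rw [K705.EvFib2.dg_free C] at h2
  exact ⟨vb_of_mono C i hK (vb_free n), h1, by linarith⟩

theorem arith (a d γ f h : ℤ) (h3 : 2 * (h - 1) ≤ a ∨ a = h - 1 + γ) (hh1 : f + 1 ≤ h) (hd : 2 * γ ≤ d)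
    (hfd : f ≤ d - γ) (hg0 : 0 ≤ γ) (hF0 : 0 < f) : -a * (d - γ) ≤ -d * f := by
  rcases h3 with h3 | h3
  · have h1 : 2 * f ≤ a := by linarith
    have h2 : 0 ≤ (a - 2 * f) * (d - γ) := mul_nonneg (by linarith) (by linarith)
    have h4 : 0 ≤ f * (d - 2 * γ) := mul_nonneg hF0.le (by linarith)
    nlinarith
  · have h1 : f + γ ≤ a := by linarith
    have h2 : 0 ≤ (a - (f + γ)) * (d - γ) := mul_nonneg (by linarith) (by linarith)
    have h4 : 0 ≤ γ * (d - γ - f) := mul_nonneg hg0 (by linarith)
    nlinarith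

/-- Kernels of evaluation of line bundles of degree `≥ 2g` are semistable. -/
theorem IsSyz.ss (C : Crv k X) {K L : X.Modules} {n : ℕ} {i : K ⟶ FlatMod.freeMod X n}
    {e : FlatMod.freeMod X n ⟶ L} (h : IsSyz k i e) (hd : 2 * (Curv2.genus k X : ℤ) ≤ dg k L)
    (hn : (n : ℤ) = dg k L + 1 - Curv2.genus k X) : SS k K := by
  have hi := h.exact'.mono_f
  have he := h.exact'.epi_g
  obtain ⟨hK, hn1, hdK⟩ := h.numbers C
  have hln := isLocNoeth C
  intro F₀ a₀ ha₀ hF₀
  obtain ⟨F, R, b, a, q, w, hb, hba, hS, hFc, hR, e1, e2, e3, e4⟩ :=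
    exists_saturation C a₀ (coh_of_vb hF₀) (coh_of_vb hK)
  have ha : Mono a := hS.mono_f
  have hq : Epi q := hS.epi_g
  have hF := vb_of_mono C a hFc hK
  rw [← e1]
  refine (mul_le_mul_of_nonneg_right e2 (by positivity)).trans ?_
  rcases Nat.eq_zero_or_pos (rk F) with h0 | hpos
  · rw [dg_of_vb_of_rk_eq_zero C hF h0, h0]; simp
  -- the quotient `G = O^n / F`
  obtain ⟨G, i', j, g', hw', hS', hj, hqi⟩ := K703.Push.exists_pushout h.exact' q
  change j ≫ g' = e at hj
  change q ≫ i' = i ≫ j at hqi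
  have hG : FlatMod.IsFinLocFree G :=
    Groth.Agent.Sga67.LocBasis.isFinLocFree_of_shortExact hS' hR (vb_of_inv h.inv)
  have hGc := coh_of_vb hG
  have hje : Epi j := by
    refine Preadditive.epi_of_cancel_zero _ fun {Z} t ht => ?_
    have h1 : i' ≫ t = 0 := by
      rw [← cancel_epi q, comp_zero, ← Category.assoc, hqi, Category.assoc, ht, comp_zero]
    have hg' : Epi g' := hS'.epi_g
    obtain ⟨u, h2⟩ : ∃ u : L ⟶ Z, g' ≫ u = t := ⟨hS'.exact.desc t h1, hS'.exact.g_desc t h1⟩
    have h4 : e ≫ u = 0 := by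
      rw [← hj, Category.assoc, h2]
      exact ht
    have he' : Epi e := he
    have h3 : u = 0 := (cancel_epi e).mp (h4.trans comp_zero.symm)
    rw [← h2, h3, comp_zero]
  have hgg : Curv2.IsGloballyGenerated G := K703.GlobGen.isGloballyGenerated_of_epi_freeMod j
  have g1 := rk_add' k _ hS' hGc
  have g2 := dg_add k _ hS' (coh_of_vb hR) hGc (coh_inv h.inv)
  simp only at g1 g2
  rw [rk_inv h.inv] at g1
  have hh : n ≤ finrank k (Coh.HH X G 0) := by
    rw [← K704.HomK.finrank_hom k G]
    have hfin : Module.Finite k (Coh.structureModule X ⟶ G) :=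
      K703.HomFin.finite_hom _ _ _ (coh_inv (rank_one_iff.mp rank_structureModule)) hGc
    have hli : LinearIndependent k (fun l : Fin n => inc (X := X) n l ≫ j) := by
      rw [Fintype.linearIndependent_iff]
      intro c hc l
      have hs : (∑ m, c m • inc (X := X) n m) ≫ j = 0 := by
        rw [Preadditive.sum_comp]
        simpa only [Linear.smul_comp] using hc
      have hse : (∑ m, c m • inc (X := X) n m) ≫ e = 0 := by
        rw [← hj, ← Category.assoc, hs, zero_comp]
      have h1 : h.exact'.exact.lift _ hse ≫ i = ∑ m, c m • inc (X := X) n m := h.exact'.exact.lift_f _ hse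
      rw [h.h0 (h.exact'.exact.lift _ hse), zero_comp] at h1
      have h2 : (∑ m, c m • inc (X := X) n m) ≫ pr n l = c l • 𝟙 (Coh.structureModule X) := by
        rw [Preadditive.sum_comp, Finset.sum_eq_single l]
        · rw [Linear.smul_comp, inc_pr, if_pos rfl]
        · intro m _ hm
          rw [Linear.smul_comp, inc_pr, if_neg hm, smul_zero]
        · intro hm
          exact absurd (Finset.mem_univ _) hm
      rw [← h1, zero_comp] at h2
      by_contra hcl
      have h3 : 𝟙 (Coh.structureModule X) = 0 := by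
        have := congrArg (fun z => (c l)⁻¹ • z) h2
        simp only [smul_zero, smul_smul, inv_mul_cancel₀ hcl, one_smul] at this
        exact this.symm
      have h4 := rk_inv (rank_one_iff.mp (rank_structureModule (X := X)))
      rw [rk_of_isZero ((IsZero.iff_id_eq_zero _).mpr h3)] at h4
      exact absurd h4 (by norm_num)
    simpa using hli.fintype_card_le_finrank
  obtain ⟨N, p, hN, hp, hdN, hhN⟩ := K708.GGLine.exists_line_quot C K708.Cliff.finrank_h0_O hG (by omega) hgg
  have h3 := K708.Cliff.line_bound C hN (by omega)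
  have hfd : (rk F : ℤ) ≤ dg k L - Curv2.genus k X := by omega
  have hkd : (rk K : ℤ) = dg k L - Curv2.genus k X := by omega
  have hh1 : (rk F : ℤ) + 1 ≤ finrank k (Coh.HH X N 0) := by omega
  have hdF : dg k F = - dg k N := by linarith
  rw [hdK, hkd, hdF]
  exact arith _ _ _ _ _ h3 hh1 hd hfd (by positivity) (by exact_mod_cast hpos)

end K708.Syz
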