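import Groth.Agent.VBCurve.K706.DimOne
import Groth.Agent.VBCurve.K707.TensL
import Groth.Agent.S1530
import Groth.Agent.Sga67.LocBasisOps
import Groth.Agent.CohqB.HSeqMod

/-!
# Quotients of twists, Euler characteristics (helper708)
-/

set_option autoImplicit false
universe u

open CategoryTheory CategoryTheory.Limits AlgebraicGeometry TopologicalSpace Opposite Module

namespace K708.Untwist

open Groth.Agent Scheme.Modules K706.DimOne K707.TensL

section

variable {Y : Scheme.{u}}

theorem exists_untwist {P E N : Y.Modules} (hP : PicF.IsInvertible P) (q : CohB1.tensorMod E P ⟶ N) [Epi q] :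
    ∃ (Q : Y.Modules) (p : E ⟶ Q), Epi p ∧ Nonempty (CohB1.tensorMod Q P ≅ N) := by
  have he := isEquivalence hP
  let q' : (T P).obj E ⟶ N := q
  have hq' : Epi q' := ‹Epi q›
  let e := (T P).objObjPreimageIso N
  refine ⟨(T P).objPreimage N, (T P).preimage (q' ≫ e.inv), ?_, ⟨e⟩⟩
  have h : Epi ((T P).map ((T P).preimage (q' ≫ e.inv))) := by
    rw [(T P).map_preimage]
    exact epi_comp _ _
  exact (T P).epi_of_epi_map h

theorem vb_untwist {Q P : Y.Modules} (hP : PicF.IsInvertible P) (h : FlatMod.IsFinLocFree (CohB1.tensorMod Q P)) :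
    FlatMod.IsFinLocFree Q := by
  obtain ⟨P', hP', ⟨e⟩⟩ := Grpsch.PicGrp.exists_inverse hP
  have h1 := Groth.Agent.Sga67.LocBasis.isFinLocFree_tensorMod h (vb_of_inv hP')
  exact K707.Slope.vb_iso ((PerfB.TensInv.tensorInvIso e).app Q) h1

end

variable {k : Type u} [Field k] {Y : Scheme.{u}} [Y.Over (Spec (CommRingCat.of k))]
  [IsProper (Y ↘ Spec (CommRingCat.of k))] (hdim : topologicalKrullDim Y = 1) {L M : Y.Modules}

include hdim in
theorem c_twist (hL : PicF.IsInvertible L) (hM : Coh.IsCoh M) (n : ℕ) :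
    c k (CohB1.tensorMod M (CohB1.tensorPow L n)) = c k M + n * a k L M := by
  have h := hilb k hdim hL hM n
  simp only [Polynomial.eval_add, Polynomial.eval_mul, Polynomial.eval_C, Polynomial.eval_X] at h
  have h2 : (c k (CohB1.tensorMod M (CohB1.tensorPow L n)) : ℚ) = c k M + n * a k L M := by
    rw [mul_comm (n : ℚ)]
    exact h
  exact_mod_cast h2

include hdim in
theorem a_twist (hL : PicF.IsInvertible L) (hM : Coh.IsCoh M) (n : ℕ) :
    a k L (CohB1.tensorMod M (CohB1.tensorPow L n)) = a k L M := by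
  have h1 := c_twist (k := k) hdim hL hM n
  have h2 := c_twist (k := k) hdim hL hM (n + 1)
  have e : CohB1.tensorMod (CohB1.tensorMod M (CohB1.tensorPow L n)) L ≅
      CohB1.tensorMod M (CohB1.tensorPow L (n + 1)) := Ega2.Tens.assoc _ _ _
  have h3 := c_iso k e
  rw [h2] at h3
  unfold a
  change c k _ - c k _ = _
  rw [h3, h1]
  push_cast
  unfold a
  ring

theorem isNoetherian' (k : Type u) [Field k] (Y : Scheme.{u}) [Y.Over (Spec (CommRingCat.of k))]
    [IsProper (Y ↘ Spec (CommRingCat.of k))] : IsNoetherian Y := K707.Deg.isNoetherian k (X := Y)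

/-- `H¹` is right exact. -/
theorem h1_of_epi [IsNoetherian Y] (hdim : topologicalKrullDim Y ≤ 1) {E Q : Y.Modules} (p : E ⟶ Q) [Epi p]
    (h : Subsingleton (Coh.HH Y E 1)) : Subsingleton (Coh.HH Y Q 1) := by
  have hS : (ShortComplex.mk (kernel.ι p) p (kernel.condition p)).ShortExact :=
    { exact := ShortComplex.exact_kernel p }
  have h2 : Subsingleton (Coh.HH Y (kernel p) 2) := VarietyA.TorsionVanish.subsingleton_of_two_le hdim _ 2 le_rfl
  refine subsingleton_of_forall_eq 0 fun x => ?_
  obtain ⟨y, hy⟩ := CohqB.HSeqMod.exact₃ hS 1 x (@Subsingleton.elim _ h2 _ _)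
  rw [← hy]
  have : y = 0 := @Subsingleton.elim _ h _ _
  rw [this, map_zero]

theorem c_nonneg_of_h1 (hdim : topologicalKrullDim Y = 1) {Q : Y.Modules} (h : Subsingleton (Coh.HH Y Q 1)) :
    0 ≤ c k Q := by
  have := isNoetherian' k Y
  rw [show c k Q = Curv2.euler k Y Q from rfl, Groth.Agent.S1530.euler_eq k hdim, finrank_zero_of_subsingleton (M := Coh.HH Y Q 1)]
  simp

end K708.Untwist
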